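import Groth.Agent.H80.Clopen.Series
import Groth.Agent.H80.Extend.FlatExt
import Groth.Agent.H80.UnivHomeo.Steps
import Groth.Agent.Lib.FEt.DepthTwoSections
import Mathlib.RingTheory.AdicCompletion.AsTensorProduct
import Mathlib.RingTheory.MvPowerSeries.NoZeroDivisors

/-!
# Purity for power series over a local ring of depth two
-/

set_option autoImplicit false
set_option backward.isDefEq.respectTransparency false

universe u

open CategoryTheory CategoryTheory.Limits AlgebraicGeometry IsLocalRing MvPowerSeries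

namespace Groth.Agent.H80.Clopen

open Groth.Agent.H80

/-- Equal composites give the same restriction. -/
noncomputable def restrictSquare {X Y Y' Z : Scheme.{u}} (f : X ⟶ Y) (g : Y ⟶ Z) (f' : X ⟶ Y')
    (g' : Y' ⟶ Z) (h : f ≫ g = f' ≫ g') (W : FEt.Cat Z) :
    (FEt.restrict f).obj ((FEt.restrict g).obj W) ≅
      (FEt.restrict f').obj ((FEt.restrict g').obj W) :=
  ((UnivHomeo.restrictComp f g).app W).symm ≪≫ eqToIso (by rw [h]) ≪≫
    (UnivHomeo.restrictComp f' g').app W

theorem flat_series (A : Type u) [CommRing A] [IsNoetherianRing A] (d : ℕ) :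
    Module.Flat A (MvPowerSeries (Fin d) A) := by
  have : Module.Flat (MvPolynomial (Fin d) A) (MvPowerSeries (Fin d) A) :=
    Module.Flat.of_linearEquiv (toAdicCompletionAlgEquiv (Fin d) A).toLinearEquiv
  exact Module.Flat.trans A (MvPolynomial (Fin d) A) (MvPowerSeries (Fin d) A)

/-- A morphism landing in an open. -/
noncomputable def liftOpen {X Y : Scheme.{u}} (V : Y.Opens) (f : X ⟶ Y) (h : ∀ x, f.base x ∈ V) :
    X ⟶ (V : Scheme.{u}) :=
  IsOpenImmersion.lift V.ι f (by
    rw [Scheme.Opens.range_ι]; exact Set.range_subset_iff.mpr h)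

theorem liftOpen_ι {X Y : Scheme.{u}} (V : Y.Opens) (f : X ⟶ Y) (h : ∀ x, f.base x ∈ V) :
    liftOpen V f h ≫ V.ι = f := IsOpenImmersion.lift_fac _ _ _

theorem purityHolds_series (A : Type u) [CommRing A] [IsNoetherianRing A] [IsLocalRing A]
    (hA : (2 : ℕ∞) ≤ LocCoh.depth A A) (d : ℕ) (hd : 1 ≤ d) :
    FEt.PurityHolds (MvPowerSeries (Fin d) A) := by
  refine ⟨fun W => ?_⟩
  let B := MvPowerSeries (Fin d) A
  let C' : A →+* B := MvPowerSeries.C
  have hC' : C' = algebraMap A B := (MvPowerSeries.c_eq_algebraMap : C' = _)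
  let k := ResidueField A
  let q : Ideal B := RingHom.ker (MvPowerSeries.map (σ := Fin d) (residue A))
  have : IsDomain (MvPowerSeries (Fin d) k) := NoZeroDivisors.to_isDomain _
  have hqp : q.IsPrime := RingHom.ker_isPrime _
  have hCq : q.comap C' = maximalIdeal A := by
    ext r
    change MvPowerSeries.map (residue A) (C r) = 0 ↔ _
    rw [map_C, ← residue_eq_zero_iff r]
    exact ⟨fun h => by simpa using congrArg constantCoeff h, fun h => by rw [h, map_zero]⟩
  have hqne : q ≠ maximalIdeal B := fun h => by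
    have hX : (MvPowerSeries.X ⟨0, hd⟩ : B) ∈ q := by
      rw [h, IsLocalRing.mem_maximalIdeal, mem_nonunits_iff, isUnit_iff_constantCoeff]
      simp
    have := congrArg (MvPowerSeries.coeff (R := k) (Finsupp.single ⟨0, hd⟩ 1))
      ((RingHom.mem_ker (f := MvPowerSeries.map (σ := Fin d) (residue A))).mp hX)
    rw [map_X, coeff_X, map_zero, if_pos rfl] at this
    exact one_ne_zero this
  have hsurj : Function.Surjective (MvPowerSeries.constantCoeff : B →+* A) :=
    fun x => ⟨C x, constantCoeff_C x⟩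
  -- the morphisms
  let SA := Spec (CommRingCat.of A)
  let SB := Spec (CommRingCat.of B)
  let π : SB ⟶ SA := Spec.map (CommRingCat.ofHom C')
  let σ : SA ⟶ SB := Spec.map (CommRingCat.ofHom (MvPowerSeries.constantCoeff : B →+* A))
  have hσπ : σ ≫ π = 𝟙 SA := by
    rw [← Spec.map_comp, ← Spec.map_id]
    congr 1
  have : Flat π := (HasRingHomProperty.Spec_iff (P := @Flat)).mpr
    (show C'.Flat by
      rw [hC']
      exact RingHom.flat_algebraMap_iff.mpr (flat_series A d))
  let UA := FEt.puncturedSpec A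
  let UB := FEt.puncturedSpec B
  have hπclosed : π.base (closedPoint B : PrimeSpectrum B) = (closedPoint A : PrimeSpectrum A) := by
    refine PrimeSpectrum.ext ((IsLocalRing.le_maximalIdeal
      (Ideal.IsPrime.comap C' (hK := (closedPoint B).2)).ne_top).antisymm fun r hr => ?_)
    change C' r ∈ maximalIdeal B
    rw [IsLocalRing.mem_maximalIdeal, mem_nonunits_iff, isUnit_iff_constantCoeff, constantCoeff_C]
    exact hr
  let V' : SB.Opens := π ⁻¹ᵁ UA
  have hV'B : ∀ y, y ∈ V' → y ∈ UB := fun y hy h => hy (by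
    rw [show y = (closedPoint B : PrimeSpectrum B) from h]; exact hπclosed)
  let incl : (V' : Scheme.{u}) ⟶ (UB : Scheme.{u}) := liftOpen UB V'.ι fun y => hV'B _ y.2
  have hincl : incl ≫ UB.ι = V'.ι := liftOpen_ι _ _ _
  have hσU : ∀ x, (UA.ι ≫ σ).base x ∈ UB := fun x => hV'B _ (by
    change π.base ((UA.ι ≫ σ).base x) ∈ UA
    rw [← Scheme.Hom.comp_apply, Category.assoc, hσπ, Category.comp_id]
    exact x.2)
  let σU : (UA : Scheme.{u}) ⟶ (UB : Scheme.{u}) := liftOpen UB (UA.ι ≫ σ) hσU
  let t : (V' : Scheme.{u}) ⟶ (UA : Scheme.{u}) := π ∣_ UA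
  have ht : t ≫ UA.ι = V'.ι ≫ π := morphismRestrict_ι _ _
  let W₀ : FEt.Cat (UA : Scheme.{u}) := (FEt.restrict σU).obj W
  -- full faithfulness along the zero section
  have hV : ∀ y : SB, (∀ i, MvPowerSeries.X i ∈ (y : PrimeSpectrum B).asIdeal) →
      (y ∈ V' ↔ y ≠ (closedPoint B : PrimeSpectrum B)) := fun y hy => by
    refine ⟨fun h he => hV'B y h he, fun h hm => h ?_⟩
    refine PrimeSpectrum.ext ((IsLocalRing.le_maximalIdeal (y : PrimeSpectrum B).2.ne_top).antisymm
      fun f hf => ?_)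
    have hXI : H61.PSFilt.XI (Fin d) A ≤ (y : PrimeSpectrum B).asIdeal :=
      Ideal.span_le.mpr (Set.range_subset_iff.mpr hy)
    have hc : C' (constantCoeff f) ∈ (y : PrimeSpectrum B).asIdeal := by
      have hm' : Ideal.comap C' (y : PrimeSpectrum B).asIdeal = maximalIdeal A :=
        congrArg PrimeSpectrum.asIdeal hm
      change constantCoeff f ∈ Ideal.comap C' (y : PrimeSpectrum B).asIdeal
      rw [hm', IsLocalRing.mem_maximalIdeal, mem_nonunits_iff]
      rw [IsLocalRing.mem_maximalIdeal, mem_nonunits_iff, isUnit_iff_constantCoeff] at hf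
      exact hf
    have := add_mem hc (hXI (H61.PSFilt.mem_iff_constantCoeff.mpr
      (show constantCoeff (f - C (constantCoeff f)) = 0 by simp)))
    change C (constantCoeff f) + (f - C (constantCoeff f)) ∈ _ at this
    rwa [add_sub_cancel] at this
  obtain ⟨n, a, hcharts, hL, hVan⟩ := exists_charts_series hA V' hV
  obtain ⟨_, hg⟩ := range_fst_quotient V' (MvPowerSeries.constantCoeff : B →+* A) hsurj
  obtain ⟨_, _⟩ := full_and_faithful hcharts _ hL hVan _ (by rw [hg, ker_constantCoeff])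
  let g := pullback.fst V'.ι σ
  have hgeq : g ≫ incl = (g ≫ t) ≫ σU := by
    rw [← cancel_mono UB.ι, Category.assoc, hincl, Category.assoc, Category.assoc, liftOpen_ι,
      reassoc_of% ht, pullback.condition_assoc, reassoc_of% hσπ, pullback.condition]
  let e₁ : (FEt.restrict incl).obj W ≅ (FEt.restrict t).obj W₀ :=
    (FEt.restrict g).preimageIso (restrictSquare g incl (g ≫ t) σU hgeq W ≪≫
      (UnivHomeo.restrictComp g t).app W₀)
  -- `W₀` extends over `Spec A`
  let Bq := Localization.AtPrime q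
  let X₂ := Spec (CommRingCat.of Bq)
  let ι₂ : X₂ ⟶ SB := Spec.map (CommRingCat.ofHom (algebraMap B Bq))
  let f := ι₂ ≫ π
  have : Flat ι₂ := (HasRingHomProperty.Spec_iff (P := @Flat)).mpr
    (RingHom.flat_algebraMap_iff.mpr (IsLocalization.flat Bq q.primeCompl))
  have hι₂ : ∀ x, ι₂.base x ∈ UB := fun x h => by
    have hle : (PrimeSpectrum.comap (algebraMap B Bq) x).asIdeal ≤ q := by
      intro b hb
      by_contra hbq
      exact (x : PrimeSpectrum Bq).2.ne_top (Ideal.eq_top_of_isUnit_mem _ hb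
        (IsLocalization.map_units Bq (⟨b, hbq⟩ : q.primeCompl)))
    rw [show PrimeSpectrum.comap (algebraMap B Bq) x = closedPoint B from h] at hle
    exact hqne ((IsLocalRing.le_maximalIdeal hqp.ne_top).antisymm hle)
  have : Surjective f := by
    have : Module.Flat A B := flat_series A d
    have : Module.Flat B Bq := IsLocalization.flat Bq q.primeCompl
    have : Module.Flat A Bq := Module.Flat.trans A B Bq
    have : IsLocalHom (algebraMap A Bq) := ⟨fun r hr => by
      by_contra hr'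
      have : C' r ∈ q := show r ∈ q.comap C' from hCq ▸ hr'
      rw [IsScalarTower.algebraMap_apply A B Bq, ← hC'] at hr
      exact ((IsLocalization.AtPrime.isUnit_to_map_iff Bq q (C' r)).mp hr) this⟩
    have : Module.FaithfullyFlat A Bq := Module.FaithfullyFlat.of_flat_of_isLocalHom
    have heq : f = Spec.map (CommRingCat.ofHom (algebraMap A Bq)) := by
      rw [IsScalarTower.algebraMap_eq A B Bq, ← hC', CommRingCat.ofHom_comp, Spec.map_comp]
    rw [heq]
    exact ⟨PrimeSpectrum.comap_surjective_of_faithfullyFlat (A := A) (B := Bq)⟩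
  let j : X₂ ⟶ (UB : Scheme.{u}) := liftOpen UB ι₂ hι₂
  let Z := (FEt.restrict j).obj W
  have hext : Extend.Ext W₀.hom UA.ι f := by
    refine Extend.Ext.of_iso UA.ι f W₀ Z ?_
    let r : pullback UA.ι f ⟶ (V' : Scheme.{u}) :=
      liftOpen V' (pullback.snd UA.ι f ≫ ι₂) fun x => by
        change π.base ((pullback.snd UA.ι f ≫ ι₂).base x) ∈ UA
        rw [← Scheme.Hom.comp_apply, Category.assoc, show ι₂ ≫ π = f from rfl, ← pullback.condition,
          Scheme.Hom.comp_apply]
        exact ((pullback.fst UA.ι f).base x).2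
    have hr : r ≫ t = pullback.fst UA.ι f := by
      rw [← cancel_mono UA.ι, Category.assoc, ht, pullback.condition, ← Category.assoc, liftOpen_ι,
        Category.assoc]
    have hr' : pullback.snd UA.ι f ≫ j = r ≫ incl := by
      rw [← cancel_mono UB.ι, Category.assoc, liftOpen_ι, Category.assoc, hincl, liftOpen_ι]
    exact restrictSquare _ j r incl hr' W ≪≫ (FEt.restrict r).mapIso e₁ ≪≫
      ((UnivHomeo.restrictComp r t).app W₀).symm ≪≫ eqToIso (by rw [hr])
  have : CompactSpace ↥(UA : Scheme.{u}) := isCompact_iff_compactSpace.mp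
    (TopologicalSpace.NoetherianSpace.isCompact (α := PrimeSpectrum A) _)
  have hιA : IsIso UA.ι.appTop := by
    have h2 := Lib.FEt.DepthTwo.isIso_restriction_punctured hA (𝟙 SA)
    have gen : ∀ (O : SA.Opens) (h : O ≤ ⊤), O = UA → IsIso (SA.presheaf.map (homOfLE h).op) := by
      intro O h he; subst he; exact h2
    rw [Scheme.Opens.ι_appTop]
    exact gen _ _ UA.ι_image_top
  obtain ⟨Z₀, z₀, j₀, hz₀, hp⟩ := Extend.ext_id_of_flat UA.ι hιA W₀.hom W₀.prop f hext
  obtain ⟨e₀⟩ := UnivHomeo.nonempty_iso_of_isPullback UA.ι W₀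
    (MorphismProperty.Over.mk ⊤ z₀ hz₀) j₀ hp
  -- the extension
  let Y : FEt.Cat SB := (FEt.restrict π).obj (MorphismProperty.Over.mk ⊤ z₀ hz₀)
  let O : (UB : Scheme.{u}).Opens := (UB.ι ≫ π) ⁻¹ᵁ UA
  obtain ⟨_, _⟩ := Lib.FEt.DepthTwo.restrict_full_and_faithful O fun x hx => by
    refine Lib.FEt.DepthTwo.two_le_depth_of_flat (UB.ι ≫ π) x ?_
    have : ((UB.ι ≫ π).base x : PrimeSpectrum A) = closedPoint A := not_not.mp hx
    rw [Lib.FEt.DepthTwo.depth_stalk_closedPoint _ (congrArg PrimeSpectrum.asIdeal this)]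
    exact hA
  let κ : (O : Scheme.{u}) ⟶ (V' : Scheme.{u}) := liftOpen V' (O.ι ≫ UB.ι) fun x => x.2
  have hκ : κ ≫ V'.ι = O.ι ≫ UB.ι := liftOpen_ι _ _ _
  have hκ' : κ ≫ incl = O.ι := by rw [← cancel_mono UB.ι, Category.assoc, hincl, hκ]
  refine ⟨Y, ⟨(FEt.restrict O.ι).preimageIso ?_⟩⟩
  exact restrictSquare O.ι UB.ι κ V'.ι hκ.symm Y ≪≫
    (FEt.restrict κ).mapIso (restrictSquare V'.ι π t UA.ι ht.symm _ ≪≫
      (FEt.restrict t).mapIso e₀ ≪≫ e₁.symm) ≪≫
    ((UnivHomeo.restrictComp κ incl).app W).symm ≪≫ eqToIso (by rw [hκ'])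

end Groth.Agent.H80.Clopen
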