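import Mathlib.RingTheory.Filtration
import Mathlib.RingTheory.Ideal.Quotient.Basic
import Mathlib.LinearAlgebra.FreeModule.Basic

/-!
# Families of local numerators modulo an ideal

For a family `a : ι → B` we work with numerators `m i / (a i) ^ k` of sections on the basic opens.
-/

set_option autoImplicit false

open scoped Pointwise

namespace Groth.Agent.H80.Clopen

section

variable {B : Type*} [CommRing B] {ι : Type*} (a : ι → B) {M : Type*} [AddCommGroup M] [Module B M]

/-- The sections `m i / a i ^ k` agree on overlaps modulo `I`. -/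
def Compat (I : Ideal B) (k : ℕ) (m : ι → M) : Prop :=
  ∀ i j, ∃ l : ℕ, (a i * a j) ^ l • (a j ^ k • m i - a i ^ k • m j) ∈ I • (⊤ : Submodule B M)

/-- The element `x` restricts to `m i / a i ^ k` modulo `I`. -/
def Approx (I : Ideal B) (k : ℕ) (m : ι → M) (x : M) : Prop :=
  ∀ i, ∃ l : ℕ, a i ^ l • (a i ^ k • x - m i) ∈ I • (⊤ : Submodule B M)

/-- The element `x` restricts to zero modulo `I`. -/
def Null (I : Ideal B) (x : M) : Prop :=
  ∀ i, ∃ l : ℕ, a i ^ l • x ∈ I • (⊤ : Submodule B M)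

variable (M)

/-- Sections modulo `I` are separated. -/
def Sep (I : Ideal B) : Prop := ∀ x : M, Null a I x → x ∈ I • (⊤ : Submodule B M)

/-- Sections modulo `I` glue. -/
def Glue (I : Ideal B) : Prop := ∀ k (m : ι → M), Compat a I k m → ∃ x, Approx a I k m x

/-- Compatible systems of sections on the formal neighbourhood come from global sections. -/
def Lift (J : Ideal B) : Prop :=
  ∀ n, ∃ n', ∀ k (m : ι → M), Compat a (J ^ n') k m → ∃ x, Approx a (J ^ n) k m x

/-- Global sections which vanish on the formal neighbourhood vanish. -/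
def Vanish (J : Ideal B) : Prop :=
  ∀ n, ∃ n', ∀ x : M, Null a (J ^ n') x → x ∈ J ^ n • (⊤ : Submodule B M)

variable {M} {a}

theorem smul_pow_mem_of_le {S : Submodule B M} {c : B} {x : M} {l l' : ℕ} (h : c ^ l • x ∈ S)
    (hl : l ≤ l') : c ^ l' • x ∈ S := by
  rw [← Nat.sub_add_cancel hl, pow_add, mul_smul]
  exact S.smul_mem _ h

theorem map_smul_top_mem {N : Type*} [AddCommGroup N] [Module B N] (f : M →ₗ[B] N) {I : Ideal B}
    {x : M} (hx : x ∈ I • (⊤ : Submodule B M)) : f x ∈ I • (⊤ : Submodule B N) := by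
  have : f x ∈ (I • (⊤ : Submodule B M)).map f := Submodule.mem_map_of_mem hx
  rw [Submodule.map_smul''] at this
  exact Submodule.smul_mono le_rfl le_top this

theorem mem_smul_top_self {I : Ideal B} {x : B} : x ∈ I • (⊤ : Submodule B B) ↔ x ∈ I := by
  rw [smul_eq_mul, Ideal.mul_top]

theorem pi_mem_smul_top {κ : Type*} [Finite κ] {I : Ideal B} {x : κ → B} (hx : ∀ t, x t ∈ I) :
    x ∈ I • (⊤ : Submodule B (κ → B)) := by
  have := Fintype.ofFinite κ
  classical
  rw [show x = ∑ t, x t • (Pi.single t 1 : κ → B) from pi_eq_sum_univ' x]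
  exact Submodule.sum_mem _ fun t _ => Submodule.smul_mem_smul (hx t) trivial

theorem Compat.map {N : Type*} [AddCommGroup N] [Module B N] (f : M →ₗ[B] N) {I : Ideal B} {k : ℕ}
    {m : ι → M} (h : Compat a I k m) : Compat a I k fun i => f (m i) := fun i j => by
  obtain ⟨l, hl⟩ := h i j
  exact ⟨l, by simpa using map_smul_top_mem f hl⟩

theorem Approx.map {N : Type*} [AddCommGroup N] [Module B N] (f : M →ₗ[B] N) {I : Ideal B} {k : ℕ}
    {m : ι → M} {x : M} (h : Approx a I k m x) : Approx a I k (fun i => f (m i)) (f x) := fun i => by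
  obtain ⟨l, hl⟩ := h i
  exact ⟨l, by simpa using map_smul_top_mem f hl⟩

theorem Null.map {N : Type*} [AddCommGroup N] [Module B N] (f : M →ₗ[B] N) {I : Ideal B} {x : M}
    (h : Null a I x) : Null a I (f x) := fun i => by
  obtain ⟨l, hl⟩ := h i
  exact ⟨l, by simpa using map_smul_top_mem f hl⟩

theorem Approx.mono {I I' : Ideal B} (hI : I ≤ I') {k : ℕ} {m : ι → M} {x : M}
    (h : Approx a I k m x) : Approx a I' k m x :=
  fun i => (h i).imp fun _ hl => Submodule.smul_mono_left hI hl

theorem Compat.mono {I I' : Ideal B} (hI : I ≤ I') {k : ℕ} {m : ι → M} (h : Compat a I k m) :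
    Compat a I' k m :=
  fun i j => (h i j).imp fun _ hl => Submodule.smul_mono_left hI hl

theorem Null.mono {I I' : Ideal B} (hI : I ≤ I') {x : M} (h : Null a I x) : Null a I' x :=
  fun i => (h i).imp fun _ hl => Submodule.smul_mono_left hI hl

theorem null_sub_of_approx {I : Ideal B} {k : ℕ} {m : ι → M} {x y : M} (hx : Approx a I k m x)
    (hy : Approx a I k m y) : Null a I (x - y) := fun i => by
  obtain ⟨l, hl⟩ := hx i
  obtain ⟨l', hl'⟩ := hy i
  refine ⟨max l l' + k, ?_⟩
  have := sub_mem (smul_pow_mem_of_le hl (le_max_left l l')) (smul_pow_mem_of_le hl' (le_max_right l l'))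
  rw [← smul_sub, sub_sub_sub_cancel_right, ← smul_sub, smul_smul, ← pow_add] at this
  exact this

theorem lift_of_glue {J : Ideal B} (h : ∀ n, Glue a M (J ^ n)) : Lift a M J :=
  fun n => ⟨n, fun k m hm => h n k m hm⟩

theorem vanish_of_sep {J : Ideal B} (h : ∀ n, Sep a M (J ^ n)) : Vanish a M J :=
  fun n => ⟨n, fun x hx => h n x hx⟩

/-- A common exponent for a finite family of memberships. -/
theorem exists_common {β : Type*} [Finite β] (S : Submodule B M) (c : β → B) (x : β → M)
    (h : ∀ b, ∃ l : ℕ, c b ^ l • x b ∈ S) : ∃ L : ℕ, ∀ b, c b ^ L • x b ∈ S := by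
  have := Fintype.ofFinite β
  choose l hl using h
  exact ⟨Finset.univ.sup l, fun b => smul_pow_mem_of_le (hl b) (Finset.le_sup (Finset.mem_univ b))⟩

/-- Artin--Rees for the image of a linear map between finite free modules. -/
theorem exists_artinRees [IsNoetherianRing B] {N : Type*} [AddCommGroup N] [Module B N]
    [Module.Finite B N] (S : Submodule B N) (J : Ideal B) :
    ∃ c, ∀ n, J ^ (n + c) • (⊤ : Submodule B N) ⊓ S ≤ J ^ n • S := by
  obtain ⟨c, hc⟩ := J.exists_pow_inf_eq_pow_smul S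
  refine ⟨c, fun n => ?_⟩
  rw [hc (n + c) (Nat.le_add_left _ _), Nat.add_sub_cancel]
  exact Submodule.smul_mono le_rfl inf_le_right

/-- `M` is, chart by chart, a direct summand of a free module, compatibly with global maps. -/
structure Retract (a : ι → B) (M : Type*) [AddCommGroup M] [Module B M] (κ : Type*) where
  /-- the map to the free module -/
  Φ : M →ₗ[B] (κ → B)
  /-- the local retractions -/
  S : ι → (κ → B) →ₗ[B] M
  /-- the exponent -/
  k : ℕ
  retract : ∀ i x, S i (Φ x) = a i ^ k • x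

namespace Retract

variable {κ : Type*} (r : Retract a M κ)

theorem injective (hs : Sep a M ⊥) : Function.Injective r.Φ := by
  refine (injective_iff_map_eq_zero _).mpr fun x hx => ?_
  simpa using hs x fun i => ⟨r.k, by rw [← r.retract i, hx, map_zero]; exact zero_mem _⟩

/-- The map cutting out the image. -/
def T : (κ → B) →ₗ[B] (ι → κ → B) :=
  LinearMap.pi fun i => r.Φ ∘ₗ r.S i - a i ^ r.k • LinearMap.id

theorem T_Φ (x : M) : r.T (r.Φ x) = 0 := by
  funext i
  simp [T, r.retract]

theorem exists_of_T_eq_zero (hs : Sep a M ⊥) (hg : Glue a M ⊥) (hB : Sep a (κ → B) ⊥) {b : κ → B}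
    (hb : r.T b = 0) : ∃ x, r.Φ x = b := by
  have hb' : ∀ i, r.Φ (r.S i b) = a i ^ r.k • b := fun i =>
    sub_eq_zero.mp (by simpa [T] using congrFun hb i)
  obtain ⟨x, hx⟩ := hg r.k (fun i => r.S i b) fun i j => ⟨0, by
    have : a j ^ r.k • r.S i b = a i ^ r.k • r.S j b := r.injective hs (by
      rw [map_smul, map_smul, hb', hb', smul_smul, smul_smul, mul_comm])
    simp [this]⟩
  have key : Null a ⊥ (r.Φ x - b) := fun i => ?_
  · exact ⟨x, sub_eq_zero.mp (by simpa using hB _ key)⟩
  obtain ⟨l, hl⟩ := hx i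
  refine ⟨l + r.k, ?_⟩
  have := map_smul_top_mem r.Φ hl
  simp only [map_smul, map_sub, hb', ← smul_sub, smul_smul, ← pow_add] at this
  exact this

theorem finite [IsNoetherianRing B] [Finite κ] (hs : Sep a M ⊥) (r : Retract a M κ) :
    Module.Finite B M :=
  Module.Finite.of_injective r.Φ (r.injective hs)

theorem lift [IsNoetherianRing B] [Finite ι] [Finite κ] (r : Retract a M κ) {J : Ideal B}
    (hs : Sep a M ⊥) (hg : Glue a M ⊥) (hBs : Sep a B ⊥) (hL : Lift a B J) (hV : Vanish a B J) :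
    Lift a M J := by
  intro n
  obtain ⟨c, hc⟩ := exists_artinRees (LinearMap.range r.T) J
  obtain ⟨p, hp⟩ := hV (n + c)
  obtain ⟨n', hn'⟩ := hL (max p n)
  refine ⟨n', fun k m hm => ?_⟩
  choose b hb using fun t =>
    hn' k (fun i => r.Φ (m i) t) ((hm.map r.Φ).map (LinearMap.proj (φ := fun _ : κ => B) t))
  have hb' : Approx a (J ^ max p n) k (fun i => r.Φ (m i)) b := fun i => by
    obtain ⟨L, hL⟩ := exists_common (J ^ max p n • (⊤ : Submodule B B)) (fun _ : κ => a i)
      (fun t => a i ^ k • b t - r.Φ (m i) t) fun t => hb t i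
    exact ⟨L, pi_mem_smul_top fun t => mem_smul_top_self.mp (by simpa using hL t)⟩
  have hT : r.T b ∈ J ^ (n + c) • (⊤ : Submodule B (ι → κ → B)) := by
    have key : Null a (J ^ p) (r.T b) := fun i => by
      obtain ⟨l, hl⟩ := ((hb'.mono (Ideal.pow_le_pow_right (le_max_left _ _))).map r.T) i
      refine ⟨l + k, ?_⟩
      beta_reduce at hl
      rwa [r.T_Φ, sub_zero, smul_smul, ← pow_add] at hl
    have h1 : ∀ s t, r.T b s t ∈ J ^ (n + c) := fun s t => mem_smul_top_self.mp
      (hp _ ((key.map (LinearMap.proj (φ := fun _ : ι => κ → B) s)).map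
        (LinearMap.proj (φ := fun _ : κ => B) t)))
    have := Fintype.ofFinite ι
    classical
    rw [← LinearMap.sum_single_apply (fun _ : ι => κ → B) (r.T b)]
    exact Submodule.sum_mem _ fun s _ =>
      map_smul_top_mem (LinearMap.single B (fun _ : ι => κ → B) s) (pi_mem_smul_top (h1 s))
  have hy : r.T b ∈ (J ^ n • (⊤ : Submodule B (κ → B))).map r.T := by
    rw [Submodule.map_smul'', Submodule.map_top]
    exact hc n ⟨hT, ⟨b, rfl⟩⟩
  obtain ⟨y, hy, hyT⟩ := hy
  obtain ⟨x, hx⟩ := r.exists_of_T_eq_zero hs hg (fun v hv => by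
    have : ∀ t, v t = 0 := fun t => by
      simpa using hBs _ (hv.map (LinearMap.proj (φ := fun _ : κ => B) t))
    simp [funext this]; rfl) (b := b - y) (by rw [map_sub, hyT, sub_self])
  refine ⟨x, fun i => ?_⟩
  obtain ⟨l, hl⟩ := (hb'.mono (Ideal.pow_le_pow_right (le_max_right _ _))) i
  refine ⟨l + r.k, ?_⟩
  have h2 : a i ^ l • (a i ^ k • r.Φ x - r.Φ (m i)) ∈ J ^ n • (⊤ : Submodule B (κ → B)) := by
    rw [hx, smul_sub (a i ^ k), sub_right_comm, smul_sub (a i ^ l)]
    exact sub_mem hl (Submodule.smul_mem _ _ (Submodule.smul_mem _ _ hy))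
  have h3 := map_smul_top_mem (r.S i) h2
  rw [map_smul, map_sub, map_smul, r.retract, r.retract, smul_comm (a i ^ k), ← smul_sub,
    smul_smul, ← pow_add] at h3
  exact h3

theorem vanish [IsNoetherianRing B] [Finite κ] (r : Retract a M κ) {J : Ideal B}
    (hs : Sep a M ⊥) (hV : Vanish a B J) : Vanish a M J := by
  intro n
  obtain ⟨c, hc⟩ := exists_artinRees (LinearMap.range r.Φ) J
  obtain ⟨p, hp⟩ := hV (n + c)
  refine ⟨p, fun x hx => ?_⟩
  have h1 : r.Φ x ∈ J ^ (n + c) • (⊤ : Submodule B (κ → B)) := pi_mem_smul_top fun t =>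
    mem_smul_top_self.mp (hp _ ((hx.map r.Φ).map (LinearMap.proj (φ := fun _ : κ => B) t)))
  have h2 : r.Φ x ∈ (J ^ n • (⊤ : Submodule B M)).map r.Φ := by
    rw [Submodule.map_smul'', Submodule.map_top]
    exact hc n ⟨h1, ⟨x, rfl⟩⟩
  obtain ⟨y, hy, hyx⟩ := h2
  exact r.injective hs hyx ▸ hy

end Retract

end

end Groth.Agent.H80.Clopen
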