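import Groth.Agent.Lib.FEt.EquivClopen
import Groth.Agent.Lib.FEt.Coproduct

/-!
# A fully faithful restriction lifts clopen subsets
-/

set_option autoImplicit false
set_option backward.isDefEq.respectTransparency false

universe u

open CategoryTheory CategoryTheory.Limits AlgebraicGeometry

namespace Groth.Agent.H80.Clopen

open Groth.Agent.Lib.FEt

variable {X X' : Scheme.{u}} (g : X' ⟶ X)

theorem meetsClopens_of_fullyFaithful [(FEt.restrict g).Full] [(FEt.restrict g).Faithful] :
    Conservative.MeetsClopens X (Set.range g.base) := by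
  intro s hs hne
  by_contra hn
  let T : FEt.Cat X := EquivClopen.triv X
  let V : T.left.Opens := ⟨s, hs.2⟩
  let Z := Summand.clopenSub T V hs.1
  have hempty : IsEmpty ((FEt.restrict g).obj Z).left := ⟨fun t => hn (by
    refine ⟨g.base ((pullback.snd Z.hom g).base t), ?_, ⟨_, rfl⟩⟩
    have h1 := congrArg (fun m : (pullback Z.hom g : Scheme.{u}) ⟶ X => m.base t) pullback.condition
    show g.base _ ∈ s
    exact Set.mem_of_eq_of_mem h1.symm
      (SetLike.coe_mem ((pullback.fst Z.hom g).base t : V)))⟩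
  let a := Coproduct.isInitialEmpty.to Z
  have : IsIso ((MorphismProperty.Over.forget FEt.prop.{u} ⊤ X' ⋙ Over.forget X').map
      ((FEt.restrict g).map a)) :=
    @isIso_of_isEmpty _ _ ((FEt.restrict g).map a).left hempty
  have : IsIso ((FEt.restrict g).map a) :=
    isIso_of_reflects_iso _ (MorphismProperty.Over.forget FEt.prop.{u} ⊤ X' ⋙ Over.forget X')
  have : IsIso a := isIso_of_reflects_iso a (FEt.restrict g)
  obtain ⟨y, hy⟩ := hne
  exact isEmptyElim (α := (⊥_ Scheme.{u})) ((inv a).left.base ⟨y, hy⟩)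

theorem exists_clopen_of_full [(FEt.restrict g).Full] (Y : FEt.Cat X)
    (C : Set (pullback Y.hom g : Scheme.{u})) (hC : IsClopen C) :
    ∃ D : Set Y.left, IsClopen D ∧ (pullback.fst Y.hom g).base ⁻¹' D = C := by
  let P : Scheme.{u} := pullback Y.hom g
  let V : P.Opens := ⟨C, hC.2⟩
  let V' : P.Opens := ⟨Cᶜ, hC.1.isOpen_compl⟩
  have hcompl : IsCompl V.ι.opensRange V'.ι.opensRange := by
    rw [Scheme.Opens.opensRange_ι, Scheme.Opens.opensRange_ι]
    exact ⟨disjoint_iff.mpr (TopologicalSpace.Opens.ext (Set.inter_compl_self _)),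
      codisjoint_iff.mpr (TopologicalSpace.Opens.ext (Set.union_compl_self _))⟩
  let hcl := (nonempty_isColimit_binaryCofanMk_of_isCompl V.ι V'.ι hcompl).some
  let YY := Coproduct.sum Y Y
  let inl' : Y.left ⟶ YY.left := coprod.inl
  let inr' : Y.left ⟶ YY.left := coprod.inr
  let s : P ⟶ YY.left := hcl.desc (BinaryCofan.mk (V.ι ≫ pullback.fst Y.hom g ≫ inl')
    (V'.ι ≫ pullback.fst Y.hom g ≫ inr'))
  have hs₁ : V.ι ≫ s = V.ι ≫ pullback.fst Y.hom g ≫ inl' := hcl.fac _ ⟨.left⟩
  have hs₂ : V'.ι ≫ s = V'.ι ≫ pullback.fst Y.hom g ≫ inr' := hcl.fac _ ⟨.right⟩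
  have hw : s ≫ YY.hom = pullback.snd Y.hom g ≫ g := by
    refine hcl.hom_ext ?_
    rintro ⟨_ | _⟩
    · change V.ι ≫ s ≫ YY.hom = V.ι ≫ pullback.snd Y.hom g ≫ g
      rw [reassoc_of% hs₁, ← pullback.condition]
      exact congrArg (fun m => V.ι ≫ pullback.fst Y.hom g ≫ m) (coprod.inl_desc _ _)
    · change V'.ι ≫ s ≫ YY.hom = V'.ι ≫ pullback.snd Y.hom g ≫ g
      rw [reassoc_of% hs₂, ← pullback.condition]
      exact congrArg (fun m => V'.ι ≫ pullback.fst Y.hom g ≫ m) (coprod.inr_desc _ _)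
  let β : (FEt.restrict g).obj Y ⟶ (FEt.restrict g).obj YY :=
    MorphismProperty.Over.homMk (pullback.lift s (pullback.snd Y.hom g) hw) (pullback.lift_snd _ _ _)
  obtain ⟨b, hb⟩ := (FEt.restrict g).map_surjective β
  have hcomp : pullback.fst Y.hom g ≫ b.left = s := by
    rw [← Basic.restrict_map_fst g b, hb]
    exact pullback.lift_fst _ _ _
  have hc := isCompl_range_inl_inr (X := Y.left) (Y := Y.left)
  have hinl : IsClopen (Set.range inl'.base) := by
    refine ⟨?_, inl'.isOpenEmbedding.isOpen_range⟩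
    rw [show Set.range inl'.base = (Set.range inr'.base)ᶜ from (eq_compl_iff_isCompl.mpr hc)]
    exact inr'.isOpenEmbedding.isOpen_range.isClosed_compl
  refine ⟨b.left.base ⁻¹' Set.range inl'.base, hinl.preimage b.left.continuous, ?_⟩
  ext x
  change b.left.base ((pullback.fst Y.hom g).base x) ∈ Set.range inl'.base ↔ x ∈ C
  rw [show b.left.base ((pullback.fst Y.hom g).base x) = s.base x from congrArg (fun m : P ⟶ YY.left => m.base x) hcomp]
  by_cases hx : x ∈ C
  · refine iff_of_true ⟨(pullback.fst Y.hom g).base x, ?_⟩ hx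
    have := congrArg (fun m : (V : Scheme.{u}) ⟶ YY.left => m.base ⟨x, hx⟩) hs₁
    exact this.symm
  · refine iff_of_false (fun h => ?_) hx
    have := congrArg (fun m : (V' : Scheme.{u}) ⟶ YY.left => m.base ⟨x, hx⟩) hs₂
    exact hc.disjoint.le_bot ⟨h, ⟨(pullback.fst Y.hom g).base x, this.symm⟩⟩

end Groth.Agent.H80.Clopen
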