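import Groth.Agent.H80.Clopen.Basic
import Groth.Agent.H80.Extend.FormalCompl
import Mathlib.RingTheory.Flat.Equalizer
import Mathlib.LinearAlgebra.TensorProduct.RightExactness

/-!
# Descent of idempotents from the completion
-/

set_option autoImplicit false
set_option backward.isDefEq.respectTransparency false

universe u

open TensorProduct IsLocalRing

namespace Groth.Agent.H80.Clopen

variable {A : Type u} [CommRing A] [IsNoetherianRing A] [IsLocalRing A]

local notation "Ah" => AdicCompletion (maximalIdeal A) A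

theorem exists_approx (n : ℕ) (c : Ah) :
    ∃ c₀ : A, c - algebraMap A Ah c₀ ∈ (maximalIdeal A ^ n).map (algebraMap A Ah) := by
  obtain ⟨c₀, hc₀⟩ := Submodule.Quotient.mk_surjective _
    (AdicCompletion.eval (maximalIdeal A) A n c)
  refine ⟨c₀, ?_⟩
  have hmem : c - AdicCompletion.of (maximalIdeal A) A c₀ ∈
      maximalIdeal A ^ n • (⊤ : Submodule A Ah) := by
    rw [AdicCompletion.pow_smul_top_eq_ker_eval (maximalIdeal A).fg_of_isNoetherianRing,
      LinearMap.mem_ker, map_sub, ← hc₀]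
    exact sub_self _
  rw [Ideal.smul_top_eq_map] at hmem
  exact hmem

variable {M R : Type u} [CommRing M] [Algebra A M] [CommRing R] [Algebra A R]

theorem mk_injective (Q : Type u) [AddCommGroup Q] [Module A Q] :
    Function.Injective (TensorProduct.mk A Ah Q 1) := by
  have := Extend.faithfullyFlat_completion A
  exact Module.FaithfullyFlat.tensorProduct_mk_injective (A := A) (B := Ah) Q

/-- An idempotent on the completion whose trace is algebraic gives an approximate idempotent. -/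
theorem exists_almost_idempotent (ρ : M →ₐ[A] R) (M₀ : Subalgebra A M)
    (hM₀ : ∀ x : M, ∀ z ∈ maximalIdeal A, ∃ n : ℕ, z ^ n • x ∈ M₀)
    (ê : Ah ⊗[A] M) (hê : IsIdempotentElem ê) (c : R)
    (hc : ρ.toLinearMap.lTensor Ah ê = 1 ⊗ₜ[A] c) :
    ∃ m : M, ρ m = c ∧
      m * m - m ∈ maximalIdeal A • Subalgebra.toSubmodule M₀ := by
  have := Extend.faithfullyFlat_completion A
  -- `c` is in the range
  obtain ⟨m₀, hm₀⟩ : c ∈ LinearMap.range ρ.toLinearMap := by
    rw [← Submodule.Quotient.mk_eq_zero]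
    refine mk_injective (A := A) (R ⧸ LinearMap.range ρ.toLinearMap) ?_
    rw [map_zero]
    change (1 : Ah) ⊗ₜ[A] (LinearMap.range ρ.toLinearMap).mkQ c = 0
    rw [← LinearMap.lTensor_tmul, ← hc, ← LinearMap.lTensor_comp_apply, LinearMap.range_mkQ_comp,
      LinearMap.lTensor_zero, LinearMap.zero_apply]
  -- the correction lies in the kernel
  let K := LinearMap.ker ρ.toLinearMap
  obtain ⟨κ, hκ⟩ : ê - (1 : Ah) ⊗ₜ[A] m₀ ∈ Set.range (K.subtype.lTensor Ah) := by
    refine (Module.Flat.lTensor_exact Ah (LinearMap.exact_subtype_ker_map ρ.toLinearMap) _).mp ?_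
    rw [map_sub, hc, LinearMap.lTensor_tmul, hm₀, sub_self]
  obtain ⟨S, hS⟩ := TensorProduct.exists_finset κ
  classical
  -- the elements occurring
  let E : Finset M := {1, m₀} ∪ S.image fun t => (t.2 : M)
  obtain ⟨r, hr⟩ : ∃ r : ℕ, ∀ x ∈ E, ∀ y ∈ E, ∀ z ∈ maximalIdeal A ^ r, z • (x * y) ∈ M₀ := by
    have key : ∀ x : M, ∃ r : ℕ, ∀ z ∈ maximalIdeal A ^ r, z • x ∈ M₀ := fun x => by
      let N : Ideal A := (Subalgebra.toSubmodule M₀).comap (LinearMap.toSpanSingleton A M x)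
      have hle : maximalIdeal A ≤ N.radical := fun z hz => (hM₀ x z hz).imp fun n hn => hn
      obtain ⟨r, hr⟩ := Ideal.exists_pow_le_of_le_radical_of_fg hle
        (maximalIdeal A).fg_of_isNoetherianRing
      exact ⟨r, fun z hz => hr hz⟩
    choose r hr using key
    refine ⟨(E ×ˢ E).sup fun p => r (p.1 * p.2), fun x hx y hy z hz => hr _ z ?_⟩
    exact Ideal.pow_le_pow_right (Finset.le_sup (f := fun p : M × M => r (p.1 * p.2))
      (Finset.mk_mem_product hx hy)) hz
  choose c₀ hc₀ using exists_approx (A := A) (r + 1)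
  let k : M := ∑ t ∈ S, c₀ t.1 • (t.2 : M)
  let δ : Ah ⊗[A] M := ∑ t ∈ S, (t.1 - algebraMap A Ah (c₀ t.1)) ⊗ₜ[A] (t.2 : M)
  refine ⟨m₀ + k, ?_, ?_⟩
  · have hk : ρ k = 0 := by
      simp only [k, map_sum, map_smul]
      exact Finset.sum_eq_zero fun t _ => by rw [show ρ (t.2 : M) = 0 from t.2.2, smul_zero]
    rw [map_add, hk, add_zero]
    exact hm₀
  -- the target
  let L : Submodule A M := maximalIdeal A • Subalgebra.toSubmodule M₀
  let SL : Submodule A (Ah ⊗[A] M) := LinearMap.range (L.subtype.lTensor Ah)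
  have hSL : ∀ d ∈ (maximalIdeal A ^ (r + 1)).map (algebraMap A Ah), ∀ (b : Ah),
      ∀ x ∈ E, ∀ y ∈ E, (d * b) ⊗ₜ[A] (x * y) ∈ SL := by
    intro d hd b x hx y hy
    have hd' : d ∈ maximalIdeal A ^ (r + 1) • (⊤ : Submodule A Ah) := by
      rw [Ideal.smul_top_eq_map]; exact hd
    induction hd' using Submodule.smul_induction_on' with
    | smul z hz e _ =>
      rw [smul_mul_assoc, TensorProduct.smul_tmul]
      refine ⟨(e * b) ⊗ₜ[A] ⟨z • (x * y), ?_⟩, rfl⟩
      rw [pow_succ'] at hz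
      refine Submodule.mul_induction_on hz (fun z₁ hz₁ z₂ hz₂ => ?_) fun z₁ z₂ h1 h2 => by
        rw [add_smul]; exact add_mem h1 h2
      rw [mul_smul]
      exact Submodule.smul_mem_smul hz₁ (hr x hx y hy z₂ hz₂)
    | add d₁ h₁ d₂ h₂ ih₁ ih₂ =>
      rw [Ideal.smul_top_eq_map] at h₁ h₂
      rw [add_mul, TensorProduct.add_tmul]
      exact add_mem (ih₁ h₁) (ih₂ h₂)
  have hδ : ê - δ = (1 : Ah) ⊗ₜ[A] (m₀ + k) := by
    have h1 : ê = (1 : Ah) ⊗ₜ[A] m₀ + ∑ t ∈ S, t.1 ⊗ₜ[A] (t.2 : M) := by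
      rw [← sub_eq_iff_eq_add', ← hκ, hS, map_sum]
      exact Finset.sum_congr rfl fun t _ => LinearMap.lTensor_tmul _ _ _ _
    rw [h1, TensorProduct.tmul_add, TensorProduct.tmul_sum, add_sub_assoc, ← Finset.sum_sub_distrib]
    congr 1
    refine Finset.sum_congr rfl fun t _ => ?_
    rw [TensorProduct.sub_tmul, sub_sub_cancel, Algebra.algebraMap_eq_smul_one, TensorProduct.smul_tmul]
  let SE : Submodule A (Ah ⊗[A] M) := Submodule.span A {w | ∃ b : Ah, ∃ x ∈ E, w = b ⊗ₜ[A] x}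
  have hmul : ∀ w ∈ SE, δ * w ∈ SL := fun w hw => by
    induction hw using Submodule.span_induction with
    | mem w hw =>
      obtain ⟨b, x, hx, rfl⟩ := hw
      rw [Finset.sum_mul]
      refine sum_mem fun t ht => ?_
      rw [Algebra.TensorProduct.tmul_mul_tmul]
      exact hSL _ (hc₀ t.1) b _ (Finset.mem_union_right _ (Finset.mem_image_of_mem _ ht)) x hx
    | zero => rw [mul_zero]; exact zero_mem _
    | add w w' _ _ h h' => rw [mul_add]; exact add_mem h h'
    | smul z w _ h => rw [mul_smul_comm]; exact SL.smul_mem z h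
  have hmemE : ∀ (b : Ah), ∀ x ∈ E, b ⊗ₜ[A] x ∈ SE :=
    fun b x hx => Submodule.subset_span ⟨b, x, hx, rfl⟩
  have hδE : δ ∈ SE := sum_mem fun t ht =>
    hmemE _ _ (Finset.mem_union_right _ (Finset.mem_image_of_mem _ ht))
  have hêE : ê ∈ SE := by
    rw [← sub_add_cancel ê ((1 : Ah) ⊗ₜ[A] m₀), ← hκ, hS, map_sum]
    exact add_mem (sum_mem fun t ht => hmemE _ _ (Finset.mem_union_right _
      (Finset.mem_image_of_mem _ ht))) (hmemE _ _ (Finset.mem_union_left _ (by simp)))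
  have h1E : (1 : Ah ⊗[A] M) ∈ SE := hmemE 1 1 (Finset.mem_union_left _ (by simp))
  have hy : (1 : Ah) ⊗ₜ[A] ((m₀ + k) * (m₀ + k) - (m₀ + k)) ∈ SL := by
    rw [TensorProduct.tmul_sub, ← one_mul (1 : Ah), ← Algebra.TensorProduct.tmul_mul_tmul, one_mul,
      ← hδ]
    rw [show (ê - δ) * (ê - δ) - (ê - δ) = δ * (1 - ê - ê + δ) by linear_combination hê.eq]
    exact hmul _ (add_mem (sub_mem (sub_mem h1E hêE) hêE) hδE)
  -- descend
  rw [← Submodule.Quotient.mk_eq_zero]
  refine mk_injective (A := A) (M ⧸ L) ?_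
  rw [map_zero]
  obtain ⟨η, hη⟩ := hy
  change (1 : Ah) ⊗ₜ[A] L.mkQ ((m₀ + k) * (m₀ + k) - (m₀ + k)) = 0
  have hL : L.mkQ ∘ₗ L.subtype = 0 :=
    LinearMap.ext fun x => (Submodule.Quotient.mk_eq_zero L).mpr x.2
  rw [← LinearMap.lTensor_tmul, ← hη, ← LinearMap.lTensor_comp_apply, hL, LinearMap.lTensor_zero,
    LinearMap.zero_apply]

end Groth.Agent.H80.Clopen
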