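import Groth.Agent.H80.Clopen.Basic
import Mathlib.RingTheory.Ideal.Operations
import Mathlib.Tactic.LinearCombination

/-!
# Sections modulo an ideal from regular pairs, formal functions along a principal ideal
-/

set_option autoImplicit false

namespace Groth.Agent.H80.Clopen

variable {B : Type*} [CommRing B] {ι : Type*} (a : ι → B)

/-- `f` is regular modulo `I`. -/
def RegMod (I : Ideal B) (f : B) : Prop := ∀ x, f * x ∈ I → x ∈ I

theorem RegMod.pow {I : Ideal B} {f : B} (h : RegMod I f) : ∀ n, RegMod I (f ^ n)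
  | 0, x, hx => by simpa using hx
  | n + 1, x, hx => h.pow n x (h _ (by rwa [pow_succ', mul_assoc] at hx))

/-- A regular pair stays regular when the first element is raised to a power. -/
theorem RegMod.sup_pow {I : Ideal B} {f g : B} (hf : RegMod I f)
    (hg : RegMod (I ⊔ Ideal.span {f}) g) : ∀ n, RegMod (I ⊔ Ideal.span {f ^ n}) g
  | 0, x, _ => by simp
  | n + 1, x, hx => by
    have h1 : x ∈ I ⊔ Ideal.span {f} := hg x (sup_le_sup_left
      (Ideal.span_singleton_le_span_singleton.mpr (dvd_pow_self f n.succ_ne_zero)) I hx)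
    obtain ⟨i, hi, _, hy, rfl⟩ := Submodule.mem_sup.mp h1
    obtain ⟨y, rfl⟩ := Ideal.mem_span_singleton'.mp hy
    obtain ⟨i', hi', _, hz, hxz⟩ := Submodule.mem_sup.mp hx
    obtain ⟨z, rfl⟩ := Ideal.mem_span_singleton'.mp hz
    have h2 : g * y - z * f ^ n ∈ I := hf _ (by
      rw [show f * (g * y - z * f ^ n) = i' - g * i by rw [pow_succ] at hxz; linear_combination -hxz]
      exact sub_mem hi' (Ideal.mul_mem_left _ _ hi))
    have h3 : y ∈ I ⊔ Ideal.span {f ^ n} := RegMod.sup_pow hf hg n y (by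
      rw [← sub_add_cancel (g * y) (z * f ^ n)]
      exact add_mem (Submodule.mem_sup_left h2)
        (Submodule.mem_sup_right (Ideal.mem_span_singleton'.mpr ⟨z, rfl⟩)))
    obtain ⟨i'', hi'', _, hw, rfl⟩ := Submodule.mem_sup.mp h3
    obtain ⟨w, rfl⟩ := Ideal.mem_span_singleton'.mp hw
    rw [show i + (i'' + w * f ^ n) * f = (i + i'' * f) + w * f ^ (n + 1) by ring]
    exact add_mem (Submodule.mem_sup_left (add_mem hi (Ideal.mul_mem_right _ _ hi'')))
      (Submodule.mem_sup_right (Ideal.mem_span_singleton'.mpr ⟨w, rfl⟩))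

variable [Finite ι]

theorem exists_pow_eq {I : Ideal B} {f : B} (hf : f ∈ (Ideal.span (Set.range a) ⊔ I).radical)
    (K : ℕ) : ∃ N : ℕ, ∀ (S : Ideal B), I ≤ S → ∀ y : B,
      (∀ i, a i ^ K * y ∈ S) → f ^ N * y ∈ S := by
  have := Fintype.ofFinite ι
  have hle : Ideal.span (Set.range a) ⊔ I ≤
      (Ideal.span (Set.range fun i => a i ^ K) ⊔ I).radical := by
    refine sup_le (Ideal.span_le.mpr ?_) (le_sup_right.trans Ideal.le_radical)
    rintro _ ⟨i, rfl⟩
    exact ⟨K, Submodule.mem_sup_left (Ideal.subset_span ⟨i, rfl⟩)⟩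
  obtain ⟨N, hN⟩ := (Ideal.radical_le_radical_iff.mpr hle) hf
  refine ⟨N, fun S hS y hy => ?_⟩
  obtain ⟨u, hu, v, hv, huv⟩ := Submodule.mem_sup.mp hN
  rw [← huv, add_mul]
  refine add_mem ?_ (Ideal.mul_mem_right _ _ (hS hv))
  obtain ⟨c, rfl⟩ := Ideal.mem_span_range_iff_exists_fun.mp hu
  rw [Finset.sum_mul]
  exact sum_mem fun i _ => by rw [mul_assoc]; exact Ideal.mul_mem_left _ _ (hy i)

omit [Finite ι] in
theorem exists_coeff {I : Ideal B} {f : B} (hf : f ∈ (Ideal.span (Set.range a) ⊔ I).radical)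
    (K : ℕ) [Fintype ι] : ∃ (N : ℕ) (c : ι → B), f ^ N - ∑ i, c i * a i ^ K ∈ I := by
  have hle : Ideal.span (Set.range a) ⊔ I ≤
      (Ideal.span (Set.range fun i => a i ^ K) ⊔ I).radical := by
    refine sup_le (Ideal.span_le.mpr ?_) (le_sup_right.trans Ideal.le_radical)
    rintro _ ⟨i, rfl⟩
    exact ⟨K, Submodule.mem_sup_left (Ideal.subset_span ⟨i, rfl⟩)⟩
  obtain ⟨N, hN⟩ := (Ideal.radical_le_radical_iff.mpr hle) hf
  obtain ⟨u, hu, v, hv, huv⟩ := Submodule.mem_sup.mp hN
  obtain ⟨c, rfl⟩ := Ideal.mem_span_range_iff_exists_fun.mp hu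
  exact ⟨N, c, by rw [← huv, add_sub_cancel_left]; exact hv⟩

theorem sep_of_regMod {I : Ideal B} {f : B} (hf : f ∈ (Ideal.span (Set.range a) ⊔ I).radical)
    (hreg : RegMod I f) : Sep a B I := fun x hx => by
  obtain ⟨L, hL⟩ := exists_common (I • (⊤ : Submodule B B)) a (fun _ => x) hx
  obtain ⟨N, hN⟩ := exists_pow_eq a hf L
  exact mem_smul_top_self.mpr
    (hreg.pow N x (hN I le_rfl x fun i => mem_smul_top_self.mp (hL i)))

/-- A common exponent in a compatible family. -/
theorem Compat.exists_exact {I : Ideal B} {k : ℕ} {m : ι → B} (h : Compat a I k m) :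
    ∃ l, ∀ i j, a j ^ (k + l) * (a i ^ l * m i) - a i ^ (k + l) * (a j ^ l * m j) ∈ I := by
  obtain ⟨l, hl⟩ := exists_common (I • (⊤ : Submodule B B)) (fun t : ι × ι => a t.1 * a t.2)
    (fun t => a t.2 ^ k • m t.1 - a t.1 ^ k • m t.2) fun t => h t.1 t.2
  refine ⟨l, fun i j => ?_⟩
  have := mem_smul_top_self.mp (hl (i, j))
  simp only [smul_eq_mul] at this
  convert this using 1
  ring

theorem glue_of_regMod {I : Ideal B} {f g : B} (hf : f ∈ (Ideal.span (Set.range a) ⊔ I).radical)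
    (hg : g ∈ (Ideal.span (Set.range a) ⊔ I).radical) (hfr : RegMod I f)
    (hgr : RegMod (I ⊔ Ideal.span {f}) g) : Glue a B I := by
  have := Fintype.ofFinite ι
  intro k m hm
  obtain ⟨l, hl⟩ := hm.exists_exact
  let K := k + l
  let m' : ι → B := fun i => a i ^ l * m i
  obtain ⟨N, c, hc⟩ := exists_coeff a hf K
  obtain ⟨N', d, hd⟩ := exists_coeff a hg K
  have key : ∀ (e : ι → B) (T : B), T - ∑ i, e i * a i ^ K ∈ I →
      ∀ j, a j ^ K * (∑ i, e i * m' i) - T * m' j ∈ I := fun e T hT j => by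
    have h1 : a j ^ K * (∑ i, e i * m' i) - (∑ i, e i * a i ^ K) * m' j ∈ I := by
      rw [Finset.mul_sum, Finset.sum_mul, ← Finset.sum_sub_distrib]
      refine sum_mem fun i _ => ?_
      rw [show a j ^ K * (e i * m' i) - e i * a i ^ K * m' j =
        e i * (a j ^ K * m' i - a i ^ K * m' j) by ring]
      exact Ideal.mul_mem_left _ _ (hl i j)
    have := sub_mem h1 (Ideal.mul_mem_right (m' j) _ hT)
    convert this using 1
    ring
  let F := ∑ i, c i * m' i
  let G := ∑ i, d i * m' i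
  have hsep : g ^ N' * F - f ^ N * G ∈ I := by
    refine mem_smul_top_self.mp (sep_of_regMod a hf hfr _ fun j => ⟨K, mem_smul_top_self.mpr ?_⟩)
    have := sub_mem (Ideal.mul_mem_left _ (g ^ N') (key c _ hc j))
      (Ideal.mul_mem_left _ (f ^ N) (key d _ hd j))
    convert this using 1
    simp only [smul_eq_mul, F, G]
    ring
  have hF : F ∈ I ⊔ Ideal.span {f ^ N} := (hfr.sup_pow hgr N).pow N' F (by
    rw [← sub_add_cancel (g ^ N' * F) (f ^ N * G)]
    exact add_mem (Submodule.mem_sup_left hsep)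
      (Submodule.mem_sup_right (Ideal.mem_span_singleton'.mpr ⟨G, mul_comm _ _⟩)))
  obtain ⟨v, hv, _, hx, hvx⟩ := Submodule.mem_sup.mp hF
  obtain ⟨x, rfl⟩ := Ideal.mem_span_singleton'.mp hx
  refine ⟨x, fun j => ⟨l, mem_smul_top_self.mpr ?_⟩⟩
  refine hfr.pow N _ ?_
  have := sub_mem (key c _ hc j) (Ideal.mul_mem_left _ (a j ^ K) hv)
  convert this using 1
  simp only [smul_eq_mul, m', K]
  linear_combination (a j ^ (k + l)) * hvx

/-- Čech cocycles of numerators are coboundaries (`H¹ = 0`). -/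
def H1Zero : Prop :=
  ∀ (K : ℕ) (u : ι → ι → B), (∀ i j, u i j + u j i = 0) →
    (∀ i j t, a t ^ K * u i j - a j ^ K * u i t + a i ^ K * u j t = 0) →
    ∃ (l : ℕ) (w : ι → B),
      ∀ i j, (a i * a j) ^ l * u i j = a j ^ (K + l) * w i - a i ^ (K + l) * w j

theorem h1Zero_of_regular {f : B} (hf : f ∈ (Ideal.span (Set.range a)).radical)
    (hfr : RegMod ⊥ f) (hglue : ∀ N, Glue a B (Ideal.span {f ^ N})) : H1Zero a := by
  have := Fintype.ofFinite ι
  intro K u hanti hcoc
  obtain ⟨N, c, hc⟩ := exists_coeff a (I := ⊥) (by simpa using hf) K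
  rw [Ideal.mem_bot, sub_eq_zero] at hc
  let W : ι → B := fun i => ∑ j, c j * u i j
  have hW : ∀ i t, a t ^ K * W i - a i ^ K * W t = f ^ N * u i t := fun i t => by
    rw [hc, Finset.sum_mul, Finset.mul_sum, Finset.mul_sum, ← Finset.sum_sub_distrib]
    refine Finset.sum_congr rfl fun j _ => ?_
    linear_combination c j * hcoc i j t - c j * a i ^ K * hanti j t
  obtain ⟨x, hx⟩ := hglue N K W fun i t => ⟨0, mem_smul_top_self.mpr (by
    rw [pow_zero, one_smul, smul_eq_mul, smul_eq_mul, hW]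
    exact Ideal.mul_mem_right _ _ (Ideal.subset_span rfl))⟩
  obtain ⟨l, hl⟩ := exists_common (Ideal.span {f ^ N} • (⊤ : Submodule B B)) a
    (fun i => a i ^ K • x - W i) hx
  choose w hw using fun i => Ideal.mem_span_singleton'.mp (mem_smul_top_self.mp (hl i))
  refine ⟨l, fun i => -w i, fun i j => ?_⟩
  refine sub_eq_zero.mp (Ideal.mem_bot.mp (hfr.pow N _ (Ideal.mem_bot.mpr ?_)))
  have h1 := hw i
  have h2 := hw j
  simp only [smul_eq_mul] at h1 h2
  linear_combination (a i ^ l * a j ^ l) * (-hW i j) + a j ^ (K + l) * h1 - a i ^ (K + l) * h2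

section Principal

variable {a} {φ : B} {c : ℕ}

theorem lift_of_principal (hg : Glue a B ⊥) (h1 : H1Zero a)
    (hc : ∀ n (x : B), φ ^ (n + c) * x = 0 → φ ^ c * x = 0) : Lift a B (Ideal.span {φ}) := by
  intro n
  refine ⟨n + c, fun k m hm => ?_⟩
  obtain ⟨l, hl⟩ := hm.exists_exact
  simp only [Ideal.span_singleton_pow] at hl
  choose u hu using fun i j => Ideal.mem_span_singleton'.mp (hl i j)
  let K := k + l
  let m' : ι → B := fun i => a i ^ l * m i
  let v : ι → ι → B := fun i j => φ ^ c * u i j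
  have hv : ∀ i j, a j ^ K * m' i - a i ^ K * m' j = φ ^ n * v i j := fun i j => by
    simp only [v, K, m']
    rw [← hu i j, pow_add φ n c]
    ring
  obtain ⟨l', w, hw⟩ := h1 K v
    (fun i j => by
      rw [← hc n (u i j + u j i) (by linear_combination hu i j + hu j i)]
      simp only [v]
      ring)
    (fun i j t => by
      rw [← hc n (a t ^ K * u i j - a j ^ K * u i t + a i ^ K * u j t)
        (by linear_combination (a t ^ K) * hu i j - (a j ^ K) * hu i t + (a i ^ K) * hu j t)]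
      simp only [v]
      ring)
  obtain ⟨x, hx⟩ := hg (K + l') (fun i => a i ^ l' * m' i - φ ^ n * w i) fun i j => ⟨0, by
    rw [pow_zero, one_smul, mem_smul_top_self, Ideal.mem_bot, smul_eq_mul, smul_eq_mul]
    linear_combination (a i * a j) ^ l' * hv i j + φ ^ n * hw i j⟩
  refine ⟨x, fun i => ?_⟩
  obtain ⟨l'', hl''⟩ := hx i
  rw [mem_smul_top_self, Ideal.mem_bot, smul_eq_mul, smul_eq_mul] at hl''
  refine ⟨l'' + (l + l'), mem_smul_top_self.mpr ?_⟩
  rw [Ideal.span_singleton_pow, Ideal.mem_span_singleton']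
  refine ⟨-(a i ^ l'' * w i), ?_⟩
  simp only [smul_eq_mul, K, m'] at hl'' ⊢
  linear_combination -hl''

theorem vanish_of_principal (hs : Sep a B ⊥) (hg : Glue a B ⊥)
    (hc : ∀ n (x : B), φ ^ (n + c) * x = 0 → φ ^ c * x = 0) : Vanish a B (Ideal.span {φ}) := by
  intro n
  refine ⟨n + c, fun x hx => mem_smul_top_self.mpr ?_⟩
  obtain ⟨l, hl⟩ := exists_common (Ideal.span {φ} ^ (n + c) • (⊤ : Submodule B B)) a (fun _ => x) hx
  simp only [Ideal.span_singleton_pow, smul_eq_mul, Ideal.mul_top] at hl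
  choose y hy using fun i => Ideal.mem_span_singleton'.mp (hl i)
  obtain ⟨z, hz⟩ := hg l (fun i => φ ^ c * y i) fun i j => ⟨0, by
    rw [pow_zero, one_smul, mem_smul_top_self, Ideal.mem_bot, smul_eq_mul, smul_eq_mul,
      ← hc n (a j ^ l * y i - a i ^ l * y j) (by linear_combination a j ^ l * hy i - a i ^ l * hy j)]
    ring⟩
  have := hs (x - φ ^ n * z) fun i => by
    obtain ⟨l', hl'⟩ := hz i
    rw [mem_smul_top_self, Ideal.mem_bot, smul_eq_mul, smul_eq_mul] at hl'
    refine ⟨l' + l, ?_⟩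
    rw [mem_smul_top_self, Ideal.mem_bot, smul_eq_mul]
    linear_combination -φ ^ n * hl' - a i ^ l' * hy i
  rw [mem_smul_top_self, Ideal.mem_bot, sub_eq_zero] at this
  rw [this, Ideal.span_singleton_pow]
  exact Ideal.mul_mem_right _ _ (Ideal.subset_span rfl)

end Principal

/-- A pair which is regular modulo every power of `J` is regular. -/
theorem regMod_bot_of_forall [IsNoetherianRing B] {J : Ideal B} (hJ : J ≤ Ideal.jacobson ⊥) {f : B}
    (h : ∀ n, RegMod (J ^ (n + 1)) f) : RegMod ⊥ f := fun x hx => by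
  rw [show (⊥ : Ideal B) = ⨅ n : ℕ, J ^ n by
    simpa [smul_eq_mul] using (Ideal.iInf_pow_smul_eq_bot_of_le_jacobson (M := B) J hJ).symm]
  refine Submodule.mem_iInf _ |>.mpr fun n => ?_
  exact Ideal.pow_le_pow_right n.le_succ (h n x (by rw [Ideal.mem_bot.mp hx]; exact zero_mem _))

end Groth.Agent.H80.Clopen
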