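import Groth.Agent.H80.Clopen.Scheme
import Groth.Agent.H80.Clopen.Regular
import Groth.Agent.Lib.Depth.Basic
import Groth.Prelude.Def_FEt
import Mathlib.RingTheory.Regular.IsSMulRegular

/-!
# The punctured spectrum of a local ring and regular sequences
-/

set_option autoImplicit false
set_option backward.isDefEq.respectTransparency false

universe u

open CategoryTheory CategoryTheory.Limits AlgebraicGeometry IsLocalRing RingTheory.Sequence

namespace Groth.Agent.H80.Clopen

section

variable {B : Type u} [CommRing B]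

theorem regMod_of_isSMulRegular {rs : List B} {f : B}
    (h : IsSMulRegular (B ⧸ (Ideal.ofList rs • ⊤ : Submodule B B)) f) :
    RegMod (Ideal.ofList rs) f := fun x hx => by
  have := isSMulRegular_quotient_iff_mem_of_smul_mem _ _ |>.mp h x
    (by simpa [smul_eq_mul] using hx)
  simpa [smul_eq_mul] using this

theorem regMod_pair {f g : B} (h : IsWeaklyRegular B [f, g]) :
    RegMod ⊥ f ∧ RegMod (⊥ ⊔ Ideal.span {f}) g := by
  refine ⟨?_, ?_⟩
  · simpa using regMod_of_isSMulRegular (rs := []) (h.regular_mod_prev 0 (by simp))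
  · simpa using regMod_of_isSMulRegular (rs := [f]) (h.regular_mod_prev 1 (by simp))

theorem regMod_triple {f g h : B} (hr : IsWeaklyRegular B [f, g, h]) :
    RegMod ⊥ f ∧ RegMod (⊥ ⊔ Ideal.span {f}) g ∧
      RegMod (Ideal.span {f} ⊔ Ideal.span {g}) h := by
  refine ⟨?_, ?_, ?_⟩
  · simpa using regMod_of_isSMulRegular (rs := []) (hr.regular_mod_prev 0 (by simp))
  · simpa using regMod_of_isSMulRegular (rs := [f]) (hr.regular_mod_prev 1 (by simp))
  · simpa using regMod_of_isSMulRegular (rs := [f, g]) (hr.regular_mod_prev 2 (by simp))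

/-- In a regular triple the first element may be raised to a power. -/
theorem regMod_pow_third {f g h : B} (hg : RegMod (⊥ ⊔ Ideal.span {f}) g)
    (hh : RegMod (Ideal.span {f} ⊔ Ideal.span {g}) h) (hf : RegMod ⊥ f) :
    ∀ N, RegMod (Ideal.span {f ^ N} ⊔ Ideal.span {g}) h
  | 0, x, _ => by simp
  | N + 1, x, hx => by
    rw [bot_sup_eq] at hg
    have h1 : x ∈ Ideal.span {f} ⊔ Ideal.span {g} := hh x (sup_le_sup_right
      (Ideal.span_singleton_le_span_singleton.mpr (dvd_pow_self f N.succ_ne_zero)) _ hx)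
    obtain ⟨_, hy, _, hw, rfl⟩ := Submodule.mem_sup.mp h1
    obtain ⟨y, rfl⟩ := Ideal.mem_span_singleton'.mp hy
    obtain ⟨w, rfl⟩ := Ideal.mem_span_singleton'.mp hw
    obtain ⟨_, hz, _, hv, hxz⟩ := Submodule.mem_sup.mp hx
    obtain ⟨z, rfl⟩ := Ideal.mem_span_singleton'.mp hz
    obtain ⟨v, rfl⟩ := Ideal.mem_span_singleton'.mp hv
    obtain ⟨v', hv'⟩ := Ideal.mem_span_singleton'.mp (hg (v - h * w)
      (Ideal.mem_span_singleton'.mpr ⟨h * y - z * f ^ N, by
        rw [pow_succ] at hxz; linear_combination -hxz⟩))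
    have h2 : h * y - z * f ^ N - v' * g = 0 := Ideal.mem_bot.mp (hf _ (Ideal.mem_bot.mpr (by
      rw [pow_succ] at hxz; linear_combination -hxz - g * hv')))
    have h3 : y ∈ Ideal.span {f ^ N} ⊔ Ideal.span {g} :=
      regMod_pow_third (by rwa [bot_sup_eq]) hh hf N y (Submodule.mem_sup.mpr
        ⟨z * f ^ N, Ideal.mem_span_singleton'.mpr ⟨z, rfl⟩, v' * g,
          Ideal.mem_span_singleton'.mpr ⟨v', rfl⟩, by linear_combination -h2⟩)
    obtain ⟨_, hp, _, hq, hpq⟩ := Submodule.mem_sup.mp h3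
    obtain ⟨p, rfl⟩ := Ideal.mem_span_singleton'.mp hp
    obtain ⟨q, rfl⟩ := Ideal.mem_span_singleton'.mp hq
    exact Submodule.mem_sup.mpr ⟨p * f ^ (N + 1), Ideal.mem_span_singleton'.mpr ⟨p, rfl⟩,
      (q * f + w) * g, Ideal.mem_span_singleton'.mpr ⟨q * f + w, rfl⟩,
      by linear_combination f * hpq⟩

variable [IsNoetherianRing B] [IsLocalRing B]

variable (B) in
/-- Finitely many generators of the maximal ideal. -/
theorem exists_generators : ∃ (n : ℕ) (a : Fin n → B), Ideal.span (Set.range a) = maximalIdeal B :=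
  Submodule.fg_iff_exists_fin_generating_family.mp (IsNoetherian.noetherian (maximalIdeal B))

omit [IsNoetherianRing B] in
theorem mem_puncturedSpec_iff {ι : Type*} {a : ι → B} (ha : Ideal.span (Set.range a) = maximalIdeal B)
    (p : Spec (CommRingCat.of B)) :
    p ∈ FEt.puncturedSpec B ↔ ∃ i, a i ∉ (p : PrimeSpectrum B).asIdeal := by
  change (p : PrimeSpectrum B) ≠ closedPoint B ↔ _
  rw [← not_forall, not_iff_not]
  constructor
  · intro h i
    rw [h]
    exact ha.le (Ideal.subset_span ⟨i, rfl⟩)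
  · intro h
    refine PrimeSpectrum.ext ((IsLocalRing.le_maximalIdeal (p : PrimeSpectrum B).2.ne_top).antisymm ?_)
    exact ha ▸ Ideal.span_le.mpr (Set.range_subset_iff.mpr h)

omit [IsNoetherianRing B] in
theorem exists_triple (h : (3 : ℕ∞) ≤ LocCoh.depth B B) :
    ∃ f g k : B, f ∈ maximalIdeal B ∧ g ∈ maximalIdeal B ∧ k ∈ maximalIdeal B ∧
      IsWeaklyRegular B [f, g, k] := by
  obtain ⟨rs, hlen, hmem, hreg⟩ := (Lib.Depth.Basic.le_depth_iff 3).mp h
  match rs, hlen with
  | [f, g, k], _ => exact ⟨f, g, k, hmem f (by simp), hmem g (by simp), hmem k (by simp),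
      hreg.toIsWeaklyRegular⟩

omit [IsNoetherianRing B] in
theorem exists_pair (h : (2 : ℕ∞) ≤ LocCoh.depth B B) :
    ∃ f g : B, f ∈ maximalIdeal B ∧ g ∈ maximalIdeal B ∧ IsWeaklyRegular B [f, g] := by
  obtain ⟨rs, hlen, hmem, hreg⟩ := (Lib.Depth.Basic.le_depth_iff 2).mp h
  match rs, hlen with
  | [f, g], _ => exact ⟨f, g, hmem f (by simp), hmem g (by simp), hreg.toIsWeaklyRegular⟩

/-- Formal functions along a principal ideal on the punctured spectrum, depth at least three. -/
theorem exists_charts_of_depth_three (hB : (3 : ℕ∞) ≤ LocCoh.depth B B) (φ : B) :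
    ∃ (n : ℕ) (a : Fin n → B), Charts a (FEt.puncturedSpec B) ∧
      Lift a B (Ideal.span {φ}) ∧ Vanish a B (Ideal.span {φ}) := by
  obtain ⟨n, a, ha⟩ := exists_generators B
  obtain ⟨f, g, k, hf, hg, hk, hreg⟩ := exists_triple hB
  obtain ⟨h1, h2, h3⟩ := regMod_triple hreg
  have mem : ∀ {x : B}, x ∈ maximalIdeal B → ∀ I : Ideal B,
      x ∈ (Ideal.span (Set.range a) ⊔ I).radical :=
    fun hx I => Ideal.le_radical (Submodule.mem_sup_left (ha ▸ hx))
  have hs : Sep a B ⊥ := sep_of_regMod a (mem hf _) h1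
  have hgl : Glue a B ⊥ := glue_of_regMod a (mem hf _) (mem hg _) h1 h2
  have hH1 : H1Zero a := h1Zero_of_regular a (Ideal.le_radical (ha ▸ hf)) h1 fun N =>
    glue_of_regMod a (mem hg _) (mem hk _)
      (by simpa using h1.sup_pow h2 N) (regMod_pow_third h2 h3 h1 N)
  obtain ⟨c, hc⟩ := monotone_stabilizes_iff_noetherian.mpr (inferInstance : IsNoetherian B B)
    ⟨fun n => LinearMap.ker (LinearMap.mulLeft B (φ ^ n)),
      fun n m hnm x (hx : φ ^ n * x = 0) => by
        change φ ^ m * x = 0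
        rw [← Nat.sub_add_cancel hnm, pow_add, mul_assoc, hx, mul_zero]⟩
  have hc' : ∀ n (x : B), φ ^ (n + c) * x = 0 → φ ^ c * x = 0 := fun n x hx =>
    ((hc (n + c) (Nat.le_add_left _ _)).ge (show x ∈ LinearMap.ker _ from hx) :)
  exact ⟨n, a, ⟨⟨mem_puncturedSpec_iff ha⟩, hs, hgl⟩, lift_of_principal hgl hH1 hc',
    vanish_of_principal hs hgl hc'⟩

end

/-- The trace of `V(J)` on an open. -/
theorem range_fst_quotient {B C : Type u} [CommRing B] [CommRing C]
    (U : (Spec (CommRingCat.of B)).Opens) (π : B →+* C) (hπ : Function.Surjective π) :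
    IsClosedImmersion (pullback.fst U.ι (Spec.map (CommRingCat.ofHom π))) ∧
      Set.range (pullback.fst U.ι (Spec.map (CommRingCat.ofHom π))).base =
        {x | RingHom.ker π ≤ ((U.ι.base x : Spec (CommRingCat.of B)) : PrimeSpectrum B).asIdeal} := by
  have : IsClosedImmersion (Spec.map (CommRingCat.ofHom π)) := IsClosedImmersion.spec_of_surjective _ hπ
  refine ⟨inferInstance, ?_⟩
  rw [Scheme.Pullback.range_fst]
  ext x
  change ((U.ι.base x : Spec (CommRingCat.of B)) : PrimeSpectrum B) ∈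
    Set.range (PrimeSpectrum.comap π) ↔ _
  rw [range_comap_of_surjective _ _ hπ]
  rfl

end Groth.Agent.H80.Clopen
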