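import Groth.Agent.H80.Clopen.Scheme
import Groth.Agent.H80.Clopen.Clopens
import Groth.Agent.H80.Clopen.Descend
import Groth.Agent.H80.Clopen.Principal
import Groth.Agent.H63.GrpIdentity
import Groth.Agent.Lib.Excellent.CompletionNoetherian
import Mathlib.RingTheory.IntegralClosure.IsIntegralClosure.Basic

/-!
# Full faithfulness descends from the completion
-/

set_option autoImplicit false
set_option backward.isDefEq.respectTransparency false

universe u

open CategoryTheory CategoryTheory.Limits AlgebraicGeometry IsLocalRing TensorProduct Polynomial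

namespace Groth.Agent.H80.Clopen

/-- An element integral on a chart becomes globally integral after scaling. -/
theorem exists_isIntegral_smul {B M : Type*} [CommRing B] [CommRing M] [Algebra B M] (b : B)
    (Ml : Type*) [CommRing Ml] [Algebra B Ml] [Algebra M Ml] [IsScalarTower B M Ml]
    [IsLocalization.Away (algebraMap B M b) Ml] (x : M) (hx : IsIntegral B (algebraMap M Ml x)) :
    IsIntegral B (b • x) := by
  obtain ⟨P, hP, hPx⟩ := hx
  obtain ⟨s, hs⟩ := IsLocalization.Away.exists_of_eq (S := Ml) (algebraMap B M b)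
    (a := aeval x P) (b := 0) (by rw [map_zero, ← aeval_algebraMap_apply]; exact hPx)
  refine ⟨X ^ s * scaleRoots P b, (monic_X_pow s).mul ((monic_scaleRoots_iff b).mpr hP), ?_⟩
  rw [eval₂_mul, eval₂_X_pow, Algebra.smul_def, scaleRoots_eval₂_mul, mul_pow,
    show eval₂ (algebraMap B M) x P = aeval x P from rfl]
  rw [mul_zero] at hs
  linear_combination (x ^ s * algebraMap B M b ^ P.natDegree) * hs

theorem eq_of_basicOpen_eq {X : Scheme.{u}} {d e : Γ(X, ⊤)} (hd : IsIdempotentElem d)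
    (he : IsIdempotentElem e) (h : X.basicOpen d = X.basicOpen e) : d = e := by
  refine TopCat.Presheaf.section_ext X.sheaf ⊤ d e fun x hx => ?_
  have hd' := hd.map (X.presheaf.germ ⊤ x hx).hom
  have he' := he.map (X.presheaf.germ ⊤ x hx).hom
  by_cases hu : IsUnit (X.presheaf.germ ⊤ x hx d)
  · have hu' : IsUnit (X.presheaf.germ ⊤ x hx e) :=
      (X.mem_basicOpen e x hx).mp (h ▸ (X.mem_basicOpen d x hx).mpr hu)
    exact (hu.mul_left_cancel (hd'.eq.trans (mul_one _).symm)).trans
      (hu'.mul_left_cancel (he'.eq.trans (mul_one _).symm)).symm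
  · have hu' : ¬ IsUnit (X.presheaf.germ ⊤ x hx e) := fun hc =>
      hu ((X.mem_basicOpen d x hx).mp (h ▸ (X.mem_basicOpen e x hx).mpr hc))
    have key : ∀ t : X.presheaf.stalk x, IsIdempotentElem t → ¬ IsUnit t → t = 0 := fun t ht hn => by
      have := (IsLocalRing.isUnit_or_isUnit_one_sub_self t).resolve_left hn
      exact this.mul_left_eq_zero.mp (by rw [mul_sub, mul_one, ht.eq, sub_self])
    exact (key _ hd' hu).trans (key _ he' hu').symm

variable {A : Type u} [CommRing A] [IsNoetherianRing A] [IsLocalRing A]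

local notation "Ah" => AdicCompletion (maximalIdeal A) A

/-- The completion map. -/
noncomputable abbrev cpl (A : Type u) [CommRing A] [IsLocalRing A] :
    Spec (CommRingCat.of (AdicCompletion (maximalIdeal A) A)) ⟶ Spec (CommRingCat.of A) :=
  Spec.map (CommRingCat.ofHom (algebraMap A (AdicCompletion (maximalIdeal A) A)))

theorem exists_tensor_equiv {W P : Scheme.{u}} [CompactSpace W] [QuasiSeparatedSpace W]
    (v : W ⟶ Spec (CommRingCat.of A)) (p : P ⟶ W) (q : P ⟶ Spec (CommRingCat.of Ah))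
    (H : IsPullback p q v (cpl A)) :
    letI := (str v).toAlgebra
    ∃ e : Ah ⊗[A] Γ(W, ⊤) ≃+* Γ(P, ⊤), ∀ b x, e (b ⊗ₜ[A] x) = str q b * p.appTop.hom x := by
  let := (str v).toAlgebra
  have := Extend.faithfullyFlat_completion A
  have : Flat (cpl A) := (HasRingHomProperty.Spec_iff (P := @Flat)).mpr
    (RingHom.flat_algebraMap_iff.mpr inferInstance)
  have h1 := (Lib.ZeroCyc99.FlatLocalAffine.isPushout_appTop H).flip
  have h2 : CategoryTheory.IsPushout (CommRingCat.ofHom (algebraMap A Ah))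
      (CommRingCat.ofHom (algebraMap A Γ(W, ⊤)))
      (CommRingCat.ofHom (str q)) p.appTop := by
    refine h1.of_iso (Scheme.ΓSpecIso _) (Scheme.ΓSpecIso _) (Iso.refl _) (Iso.refl _) ?_ ?_ ?_ ?_
    · exact Scheme.ΓSpecIso_naturality _
    · rw [RingHom.algebraMap_toAlgebra, str, CommRingCat.ofHom_hom, Iso.hom_inv_id_assoc]
      simp
    · rw [str, CommRingCat.ofHom_hom, Iso.hom_inv_id_assoc]
      simp
    · simp
  let h3 := CommRingCat.isPushout_tensorProduct A Ah Γ(W, ⊤)
  let e := (h3.isoPushout ≪≫ h2.isoPushout.symm).commRingCatIsoToRingEquiv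
  have hl : ∀ b, e (b ⊗ₜ[A] 1) = str q b := fun b =>
    congrArg (fun m : CommRingCat.of Ah ⟶ Γ(P, ⊤) => m.hom b)
      (show _ ≫ (h3.isoPushout ≪≫ h2.isoPushout.symm).hom = CommRingCat.ofHom (str q) by
        rw [Iso.trans_hom, ← Category.assoc, h3.inl_isoPushout_hom, Iso.symm_hom,
          h2.inl_isoPushout_inv])
  have hr : ∀ x, e ((1 : Ah) ⊗ₜ[A] x) = p.appTop.hom x := fun x =>
    congrArg (fun m : Γ(W, ⊤) ⟶ Γ(P, ⊤) => m.hom x)
      (show _ ≫ (h3.isoPushout ≪≫ h2.isoPushout.symm).hom = p.appTop by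
        rw [Iso.trans_hom, ← Category.assoc, h3.inr_isoPushout_hom, Iso.symm_hom,
          h2.inr_isoPushout_inv])
  exact ⟨e, fun b x => by
    rw [← hl, ← hr, ← map_mul, Algebra.TensorProduct.tmul_mul_tmul, mul_one, one_mul]⟩

/-- A finite subalgebra with the same localisations. -/
theorem exists_finite_subalgebra {ι : Type} [Finite ι] {a : ι → A}
    {U : (Spec (CommRingCat.of A)).Opens} (hU : Cover a U)
    {W : Scheme.{u}} (q : W ⟶ (U : Scheme.{u})) (hq : FEt.prop.{u} q) :
    letI := (str (q ≫ U.ι)).toAlgebra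
    ∃ G : Set Γ(W, ⊤), G.Finite ∧ (∀ x ∈ G, IsIntegral A x) ∧
      ∀ i x, ∃ l : ℕ, a i ^ l • x ∈ Algebra.adjoin A G := by
  classical
  let := (str (q ≫ U.ι)).toAlgebra
  obtain ⟨_, _⟩ := compactSpace_cover hU q hq
  have : IsFinite q := hq.1
  choose N hN hcov using fun i => (exists_local hU q hq i).1
  choose gen hgen using fun i => hN i
  have key : ∀ i (x : Γ(W, ⊤)), ∃ l : ℕ, IsIntegral A (a i ^ l • x) := by
    intro i x
    let f := algebraMap A Γ(W, ⊤) (a i)
    let Ml := Γ(W, W.basicOpen f)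
    let : Algebra Γ(W, ⊤) Ml := (W.presheaf.map (homOfLE (le_top : W.basicOpen f ≤ ⊤)).op).hom.toAlgebra
    let : Algebra A Ml := ((algebraMap Γ(W, ⊤) Ml).comp (algebraMap A Γ(W, ⊤))).toAlgebra
    have : IsScalarTower A Γ(W, ⊤) Ml := IsScalarTower.of_algebraMap_eq' rfl
    have : IsLocalization.Away f Ml := isLocalization_of_eq f rfl
    -- finiteness over the localisation
    let Bl := Localization.Away (a i)
    have hu : IsUnit (algebraMap A Ml (a i)) :=
      IsLocalization.Away.algebraMap_isUnit (S := Ml) f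
    let ψ : Bl →+* Ml := IsLocalization.Away.lift (a i) hu
    let : Algebra Bl Ml := ψ.toAlgebra
    have : IsScalarTower A Bl Ml :=
      IsScalarTower.of_algebraMap_eq fun r => (IsLocalization.Away.lift_eq (a i) hu r).symm
    have : Module.Finite Bl Ml := by
      refine ⟨⟨(gen i).image (algebraMap Γ(W, ⊤) Ml), ?_⟩⟩
      rw [eq_top_iff]
      intro y _
      obtain ⟨n, z, hz⟩ := IsLocalization.Away.surj f y
      obtain ⟨l, hl⟩ := hcov i z
      have hy : algebraMap Γ(W, ⊤) Ml (a i ^ l • z) = algebraMap A Ml (a i) ^ (l + n) * y := by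
        rw [Algebra.smul_def, map_mul, map_pow, map_pow, ← hz, ← IsScalarTower.algebraMap_apply,
          pow_add]
        change _ = _
        ring
      obtain ⟨v, hv⟩ : IsUnit (algebraMap A Bl (a i) ^ (l + n)) :=
        (IsLocalization.Away.algebraMap_isUnit (S := Bl) (a i)).pow _
      have hmem : algebraMap Γ(W, ⊤) Ml (a i ^ l • z) ∈
          Submodule.span Bl ((gen i).image (algebraMap Γ(W, ⊤) Ml) : Set Ml) := by
        rw [Finset.coe_image]
        rw [← hgen i] at hl
        have := Submodule.mem_map_of_mem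
          (f := (IsScalarTower.toAlgHom A Γ(W, ⊤) Ml).toLinearMap) hl
        rw [Submodule.map_span] at this
        exact Submodule.span_le_restrictScalars A Bl _ this
      rw [hy] at hmem
      have := Submodule.smul_mem _ (↑v⁻¹ : Bl) hmem
      rwa [IsScalarTower.algebraMap_apply A Bl Ml, ← map_pow, ← hv, Algebra.smul_def, ← mul_assoc,
        ← map_mul, Units.inv_mul, map_one, one_mul] at this
    obtain ⟨⟨_, l, rfl⟩, hl⟩ := IsIntegral.exists_multiple_integral_of_isLocalization
      (R := A) (Submonoid.powers (a i)) (Rₘ := Bl) (algebraMap Γ(W, ⊤) Ml x)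
      (Algebra.IsIntegral.isIntegral _)
    refine ⟨l + 1, ?_⟩
    rw [pow_succ', mul_smul]
    refine exists_isIntegral_smul (a i) Ml _ ?_
    rw [Algebra.smul_def, map_mul, ← IsScalarTower.algebraMap_apply, ← Algebra.smul_def]
    exact hl
  choose L hL using key
  have := Fintype.ofFinite ι
  classical
  refine ⟨⋃ i, (fun x => a i ^ L i x • x) '' (gen i : Set Γ(W, ⊤)),
    Set.finite_iUnion fun i => (gen i).finite_toSet.image _, ?_, fun i x => ?_⟩
  · rintro _ ⟨_, ⟨i, rfl⟩, y, -, rfl⟩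
    exact hL i y
  obtain ⟨l, hl⟩ := hcov i x
  rw [← hgen i] at hl
  let T := (gen i).sup (L i)
  refine ⟨T + l, ?_⟩
  rw [pow_add, mul_smul]
  generalize a i ^ l • x = z at hl ⊢
  induction hl using Submodule.span_induction with
  | mem y hy =>
    rw [show T = (T - L i y) + L i y from (Nat.sub_add_cancel (Finset.le_sup (f := L i) hy)).symm,
      pow_add, mul_smul]
    exact Subalgebra.smul_mem _ (Algebra.subset_adjoin (s := ⋃ i, (fun x => a i ^ L i x • x) ''
      (gen i : Set Γ(W, ⊤))) (Set.mem_iUnion.mpr ⟨i, y, hy, rfl⟩)) _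
  | zero => rw [smul_zero]; exact zero_mem _
  | add y z _ _ hy hz => rw [smul_add]; exact add_mem hy hz
  | smul c y _ hy => rw [smul_comm]; exact Subalgebra.smul_mem _ hy c

/-- A prime of all functions over a prime of a subalgebra with the same localisations. -/
theorem exists_prime_over {B M : Type*} [CommRing B] [CommRing M] [Algebra B M] (b : B)
    (M₁ : Subalgebra B M) (hM₁ : ∀ x, ∃ l : ℕ, b ^ l • x ∈ M₁) (p : Ideal M₁) [hp : p.IsPrime]
    (hb : algebraMap B M₁ b ∉ p) :
    ∃ P : Ideal M, P.IsPrime ∧ ∀ z : M₁, z ∈ p ↔ (z : M) ∈ P := by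
  let S : Submonoid M := p.primeCompl.map M₁.val
  have key : ∀ y ∈ p.map M₁.val, ∃ (l : ℕ), ∃ z : M₁, z ∈ p ∧ (z : M) = b ^ l • y := by
    intro y hy'
    induction hy' using Submodule.span_induction with
    | mem y hy =>
      obtain ⟨y, hy, rfl⟩ := hy
      exact ⟨0, y, hy, by simp⟩
    | zero => exact ⟨0, 0, zero_mem _, by simp⟩
    | add y y' _ _ hy hy' =>
      obtain ⟨l, z, hz, e⟩ := hy
      obtain ⟨l', z', hz', e'⟩ := hy'
      refine ⟨l + l', algebraMap B M₁ (b ^ l') * z + algebraMap B M₁ (b ^ l) * z',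
        add_mem (p.mul_mem_left _ hz) (p.mul_mem_left _ hz'), ?_⟩
      simp only [Subalgebra.coe_add, Subalgebra.coe_mul, Subalgebra.coe_algebraMap, e, e',
        Algebra.smul_def, map_pow, SubmonoidClass.coe_pow]
      ring
    | smul r y _ hy =>
      obtain ⟨l, z, hz, e⟩ := hy
      obtain ⟨l', hr⟩ := hM₁ r
      refine ⟨l + l', ⟨_, hr⟩ * z, p.mul_mem_left _ hz, ?_⟩
      simp only [Subalgebra.coe_mul, e, Algebra.smul_def, smul_eq_mul, map_pow, Algebra.algebraMap_self, RingHom.id_apply]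
      ring
  have hdisj : Disjoint ((p.map M₁.val : Ideal M) : Set M) S := by
    rw [Set.disjoint_left]
    rintro _ hz ⟨z, hzp, rfl⟩
    obtain ⟨l, z', hz', e⟩ := key _ hz
    have : z' = algebraMap B M₁ b ^ l * z := Subtype.ext (by
      rw [e]; simp [Algebra.smul_def])
    rw [this] at hz'
    exact (hp.mem_or_mem hz').elim (fun h => hb (hp.mem_of_pow_mem _ h)) hzp
  obtain ⟨P, hPp, hPle, hPdisj⟩ := Ideal.exists_le_prime_disjoint _ S hdisj
  exact ⟨P, hPp, fun z => ⟨fun h => hPle (Ideal.mem_map_of_mem _ h), fun h => by_contra fun hz =>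
    Set.disjoint_left.mp hPdisj h ⟨z, hz, rfl⟩⟩⟩

theorem notMem_iff_mem_basicOpen {X : Scheme.{u}} (x : X) (y : Γ(X, ⊤)) :
    y ∉ ((X.toSpecΓ.base x : Spec Γ(X, ⊤)) : PrimeSpectrum Γ(X, ⊤)).asIdeal ↔ x ∈ X.basicOpen y := by
  rw [← Scheme.toSpecΓ_preimage_basicOpen]
  rfl

variable {n : ℕ} {a : Fin n → A} {U : (Spec (CommRingCat.of A)).Opens} (hU : Cover a U)

omit [IsNoetherianRing A] [IsLocalRing A] in
theorem preimage_basicOpen_str {W : Scheme.{u}} (v : W ⟶ Spec (CommRingCat.of A)) (r : A) (x : W) :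
    str v r ∈ ((W.toSpecΓ.base x : Spec Γ(W, ⊤)) : PrimeSpectrum Γ(W, ⊤)).asIdeal ↔
      r ∈ ((v.base x : Spec (CommRingCat.of A)) : PrimeSpectrum A).asIdeal := by
  exact Iff.of_eq (congrArg (r ∈ ·) (asIdeal_apply v x)).symm

include hU in
/-- An almost idempotent cutting out `C` gives a clopen. -/
theorem exists_clopen_of_almost (ha : Ideal.span (Set.range a) = maximalIdeal A) (f : A)
    [HenselianRing A (Ideal.span {f})] {W P₀ : Scheme.{u}} (w : W ⟶ (U : Scheme.{u}))
    (hw : FEt.prop.{u} w) (fst₀ : P₀ ⟶ W)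
    (hrange : ∀ x : W, x ∈ Set.range fst₀.base ↔
      f ∈ (((w ≫ U.ι).base x : Spec (CommRingCat.of A)) : PrimeSpectrum A).asIdeal)
    (C : Set P₀) (c : Γ(P₀, ⊤)) (hc : IsIdempotentElem c) (hcC : (P₀.basicOpen c : Set P₀) = C) :
    letI := (str (w ≫ U.ι)).toAlgebra
    ∀ (G : Set Γ(W, ⊤)), G.Finite → (∀ x ∈ G, IsIntegral A x) →
      (∀ i x, ∃ l : ℕ, a i ^ l • x ∈ Algebra.adjoin A G) → ∀ m : Γ(W, ⊤), fst₀.appTop.hom m = c →
      m * m - m ∈ maximalIdeal A • Subalgebra.toSubmodule (Algebra.adjoin A G) →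
      ∃ D : Set W, IsClopen D ∧ fst₀.base ⁻¹' D = C := by
  let := (str (w ≫ U.ι)).toAlgebra
  intro G hGfin hGint hGcov m hρm hy
  let M₁ := Algebra.adjoin A (G ∪ {m})
  have hG₁ : Algebra.adjoin A G ≤ M₁ := Algebra.adjoin_mono Set.subset_union_left
  have hmint : IsIntegral A m := by
    have hy0 : m * m - m ∈ Algebra.adjoin A G :=
      (Submodule.smul_le_right : maximalIdeal A • Subalgebra.toSubmodule (Algebra.adjoin A G) ≤ _) hy
    have : Algebra.IsIntegral A (Algebra.adjoin A G) :=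
      Algebra.IsIntegral.adjoin fun x hx => hGint x hx
    refine isIntegral_trans (A := Algebra.adjoin A G) m ⟨X ^ 2 - X - Polynomial.C ⟨_, hy0⟩, ?_, ?_⟩
    · monicity!
    · simp only [eval₂_sub, eval₂_X_pow, eval₂_X, eval₂_C]
      change m ^ 2 - m - (m * m - m) = 0
      ring
  have hint : ∀ x ∈ G ∪ {m}, IsIntegral A x := by
    rintro x (hx | rfl)
    exacts [hGint x hx, hmint]
  have : Module.Finite A M₁ := Module.Finite.iff_fg.mpr
    (fg_adjoin_of_finite (hGfin.union (Set.finite_singleton m)) hint)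
  let J : Ideal M₁ := (Ideal.span {f}).map (algebraMap A M₁)
  have : HenselianRing M₁ J.radical := by
    have := Lib.Henselian.Pair.henselianRing_of_isIntegral (Ideal.span {f}) M₁
    exact Lib.Henselian.Pair.henselianRing_radical J
  let m₁ : M₁ := ⟨m, Algebra.subset_adjoin (Set.mem_union_right _ rfl)⟩
  have hy₁ : m₁ * m₁ - m₁ ∈ J.radical := by
    rw [Ideal.radical_eq_sInf]
    refine Submodule.mem_sInf.mpr fun p ⟨hJp, hp⟩ => ?_
    by_cases hall : ∀ i, algebraMap A M₁ (a i) ∈ p
    · have hmp : maximalIdeal A ≤ Ideal.comap (algebraMap A M₁) p := by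
        rw [← ha, Ideal.span_le]; rintro _ ⟨i, rfl⟩; exact hall i
      have : ∃ y : M₁, y ∈ p ∧ (y : Γ(W, ⊤)) = m * m - m := by
        refine Submodule.smul_induction_on hy (fun z hz x hx => ?_) fun _ _ h1 h2 => ?_
        · exact ⟨algebraMap A M₁ z * ⟨x, hG₁ hx⟩, Ideal.mul_mem_right _ p (hmp hz), by
            simp [Algebra.smul_def]⟩
        · obtain ⟨y, hy1, e1⟩ := h1
          obtain ⟨y', hy2, e2⟩ := h2
          exact ⟨y + y', add_mem hy1 hy2, by simp [e1, e2]⟩
      obtain ⟨y, hy', hyy⟩ := this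
      exact (Subtype.ext hyy : y = m₁ * m₁ - m₁) ▸ hy'
    · push Not at hall
      obtain ⟨i, hi⟩ := hall
      have := hp
      obtain ⟨P, hPp, hin⟩ := exists_prime_over (a i) M₁
        (fun x => (hGcov i x).imp fun l hl => hG₁ hl) p hi
      obtain ⟨x, hx⟩ := mem_range_toSpecΓ hU w hw i ⟨P, hPp⟩ fun h => hi ((hin _).mpr h)
      have hxP : ((W.toSpecΓ.base x : Spec Γ(W, ⊤)) : PrimeSpectrum Γ(W, ⊤)).asIdeal = P :=
        congrArg PrimeSpectrum.asIdeal hx
      obtain ⟨x₀, rfl⟩ := (hrange x).mpr ((preimage_basicOpen_str (w ≫ U.ι) f x).mp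
        (hxP ▸ (hin (algebraMap A M₁ f)).mp (hJp (Ideal.mem_map_of_mem _ (Ideal.subset_span rfl)))))
      rw [hin, ← hxP]
      by_contra hcon
      have h0 := (notMem_iff_mem_basicOpen _ _).mp hcon
      change x₀ ∈ fst₀ ⁻¹ᵁ W.basicOpen (m * m - m) at h0
      rw [Scheme.preimage_basicOpen_top, show fst₀.appTop (m * m - m) = 0 by
        change fst₀.appTop.hom (m * m - m) = 0
        rw [map_sub, map_mul, hρm, hc.eq, sub_self], Scheme.basicOpen_zero] at h0
      exact h0
  obtain ⟨e, he, hem⟩ := Lib.Henselian.Pair.exists_isIdempotentElem_lift J.radical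
    (B := M₁) (b := m₁) (by rwa [Algebra.algebraMap_self, Ideal.map_id])
  rw [Algebra.algebraMap_self, Ideal.map_id] at hem
  let tS : W → PrimeSpectrum Γ(W, ⊤) := fun x => W.toSpecΓ.base x
  have htS : Continuous tS := W.toSpecΓ.continuous
  refine ⟨tS ⁻¹' (PrimeSpectrum.basicOpen (e : Γ(W, ⊤)) : Set _),
    IsClopen.preimage (PrimeSpectrum.isClopen_iff.mpr ⟨(e : Γ(W, ⊤)), he.map M₁.val, rfl⟩) htS, ?_⟩
  ext x₀
  let P := tS (fst₀.base x₀)
  have hfP : algebraMap A Γ(W, ⊤) f ∈ P.asIdeal :=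
    (preimage_basicOpen_str _ f _).mpr ((hrange _).mp ⟨x₀, rfl⟩)
  have hrad : J.radical ≤ P.asIdeal.comap M₁.val :=
    ((P.2.comap M₁.val).isRadical.radical_le_iff).mpr
      (Ideal.map_le_iff_le_comap.mpr (Ideal.span_le.mpr (Set.singleton_subset_iff.mpr hfP)))
  have hsub : (e : Γ(W, ⊤)) - m ∈ P.asIdeal := hrad hem
  change (e : Γ(W, ⊤)) ∉ P.asIdeal ↔ x₀ ∈ C
  have : (e : Γ(W, ⊤)) ∈ P.asIdeal ↔ m ∈ P.asIdeal :=
    ⟨fun h => by simpa using sub_mem h hsub, fun h => by simpa using add_mem hsub h⟩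
  rw [this, notMem_iff_mem_basicOpen]
  change x₀ ∈ fst₀ ⁻¹ᵁ W.basicOpen m ↔ _
  rw [Scheme.preimage_basicOpen_top, show fst₀.appTop m = c from hρm]
  exact Set.ext_iff.mp hcC x₀

set_option maxHeartbeats 1600000 in
include hU in
/-- The clopen of the completed cover gives an idempotent with algebraic trace. -/
theorem exists_trace {Z₀ : Scheme.{u}} (g : Z₀ ⟶ (U : Scheme.{u})) [IsClosedImmersion g]
    [(FEt.restrict (pullback.fst (pullback.fst U.ι (cpl A)) g)).Full]
    (Y : FEt.Cat (U : Scheme.{u})) (C : Set (pullback Y.hom g : Scheme.{u})) (hC : IsClopen C) :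
    letI := (str ((show Y.left ⟶ (U : Scheme.{u}) from Y.hom) ≫ U.ι)).toAlgebra
    letI := (str (pullback.fst (show Y.left ⟶ (U : Scheme.{u}) from Y.hom) g ≫
      (show Y.left ⟶ (U : Scheme.{u}) from Y.hom) ≫ U.ι)).toAlgebra
    ∃ (ρ : Γ(Y.left, ⊤) →ₐ[A] Γ(pullback Y.hom g, ⊤)) (ê : Ah ⊗[A] Γ(Y.left, ⊤))
      (c : Γ(pullback Y.hom g, ⊤)),
      (∀ x, ρ x = (pullback.fst Y.hom g).appTop.hom x) ∧ IsIdempotentElem ê ∧ IsIdempotentElem c ∧
        ((pullback Y.hom g).basicOpen c : Set _) = C ∧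
          ρ.toLinearMap.lTensor Ah ê = 1 ⊗ₜ[A] c := by
  let s := pullback.fst U.ι (cpl A)
  have := Extend.faithfullyFlat_completion A
  let w : Y.left ⟶ (U : Scheme.{u}) := Y.hom
  have : IsFinite w := Y.prop.1
  let v := w ≫ U.ι
  obtain ⟨_, _⟩ := compactSpace_cover hU w Y.prop
  have : Y.left.IsQuasiAffine := quasiAffine hU w Y.prop
  let fst₀ : pullback w g ⟶ Y.left := pullback.fst w g
  have : IsClosedImmersion fst₀ := inferInstance
  -- the cover over the completed punctured spectrum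
  let Y' : FEt.Cat (pullback U.ι (cpl A) : Scheme.{u}) := (FEt.restrict s).obj Y
  let pY : Y'.left ⟶ Y.left := pullback.fst w s
  let Yh : Y'.left ⟶ (pullback U.ι (cpl A) : Scheme.{u}) := pullback.snd w s
  let qY : Y'.left ⟶ Spec (CommRingCat.of Ah) := Yh ≫ pullback.snd U.ι (cpl A)
  have hY : IsPullback pY qY v (cpl A) :=
    (IsPullback.of_hasPullback w s).paste_vert (IsPullback.of_hasPullback U.ι (cpl A))
  let k : pullback Yh (pullback.fst s g) ⟶ pullback w g :=
    pullback.lift (pullback.fst _ _ ≫ pY) (pullback.snd _ _ ≫ pullback.snd s g) (by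
      rw [Category.assoc, pullback.condition (f := w) (g := s), pullback.condition_assoc,
        Category.assoc, pullback.condition (f := s) (g := g)])
  obtain ⟨D', hD', hDC'⟩ := exists_clopen_of_full (pullback.fst s g) Y'
    (k.base ⁻¹' C) (hC.preimage k.continuous)
  obtain ⟨ê, hê, hêD⟩ := H63.GrpIdentity.exists_idem hD'
  obtain ⟨c, hc, hcC⟩ := H63.GrpIdentity.exists_idem hC
  -- algebra
  let := (str v).toAlgebra
  let v₀ := fst₀ ≫ v
  let : Algebra A Γ(pullback w g, ⊤) := (str v₀).toAlgebra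
  let ρ : Γ(Y.left, ⊤) →ₐ[A] Γ(pullback w g, ⊤) :=
    { fst₀.appTop.hom with
      commutes' := fun r => by
        change fst₀.appTop.hom (str v r) = str v₀ r
        simp only [str, v₀, Scheme.Hom.comp_appTop, CommRingCat.hom_comp, RingHom.comp_apply] }
  let T : Scheme.{u} := pullback v₀ (cpl A)
  let pT : T ⟶ pullback w g := pullback.fst _ _
  let qT : T ⟶ Spec (CommRingCat.of Ah) := pullback.snd _ _
  let lam : T ⟶ Y'.left := hY.lift (pT ≫ fst₀) qT (by rw [Category.assoc]; exact pullback.condition)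
  have hl1 : lam ≫ pY = pT ≫ fst₀ := hY.lift_fst _ _ _
  have hl2 : lam ≫ qY = qT := hY.lift_snd _ _ _
  let t₁ : T ⟶ pullback s g := pullback.lift (lam ≫ Yh) (pT ≫ pullback.snd w g) (by
    rw [Category.assoc, ← pullback.condition (f := w) (g := s), reassoc_of% hl1, Category.assoc,
      ← pullback.condition (f := w) (g := g)])
  let t : T ⟶ pullback Yh (pullback.fst s g) :=
    pullback.lift lam t₁ (pullback.lift_fst _ _ _).symm
  have htk : t ≫ k = pT := by
    apply pullback.hom_ext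
    · simp only [Category.assoc, k, pullback.lift_fst, t, pullback.lift_fst_assoc, hl1, fst₀]
    · simp only [Category.assoc, k, pullback.lift_snd, t, pullback.lift_snd_assoc, t₁]
  have htf : t ≫ pullback.fst _ _ = lam := pullback.lift_fst _ _ _
  have : CompactSpace (pullback w g : Scheme.{u}) :=
    QuasiCompact.compactSpace_of_compactSpace fst₀
  have : QuasiSeparatedSpace (pullback w g : Scheme.{u}) :=
    quasiSeparatedSpace_of_quasiSeparated fst₀
  obtain ⟨eM, heM⟩ := exists_tensor_equiv v pY qY hY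
  obtain ⟨eR, heR⟩ := exists_tensor_equiv v₀ pT qT (IsPullback.of_hasPullback _ _)
  have hcompat : ∀ z, eR (ρ.toLinearMap.lTensor Ah z) = lam.appTop.hom (eM z) := fun z => by
    induction z using TensorProduct.induction_on with
    | zero => simp
    | add z z' hz hz' => simp only [map_add, hz, hz']
    | tmul b x =>
      rw [LinearMap.lTensor_tmul, heR, heM, map_mul]
      congr 1
      · rw [← hl2]
        simp only [str, Scheme.Hom.comp_appTop, CommRingCat.hom_comp, RingHom.comp_apply]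
      · change pT.appTop.hom (fst₀.appTop.hom x) = _
        rw [← RingHom.comp_apply, ← CommRingCat.hom_comp, ← Scheme.Hom.comp_appTop, ← hl1,
          Scheme.Hom.comp_appTop]
        rfl
  have hcR : ρ.toLinearMap.lTensor Ah (eM.symm ê) = 1 ⊗ₜ[A] c := eR.injective (by
    rw [hcompat, RingEquiv.apply_symm_apply, heR, map_one, one_mul]
    refine eq_of_basicOpen_eq (hê.map _) (hc.map _) ?_
    rw [← Scheme.preimage_basicOpen_top, ← Scheme.preimage_basicOpen_top]
    ext x
    change lam.base x ∈ (Y'.left.basicOpen ê : Set Y'.left) ↔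
      pT.base x ∈ ((pullback w g).basicOpen c : Set _)
    rw [hêD, hcC, ← htk, ← htf]
    exact Set.ext_iff.mp hDC' (t.base x))
  exact ⟨ρ, eM.symm ê, c, fun _ => rfl, hê.map eM.symm, hc, hcC, hcR⟩

theorem full_and_faithful_of_completion (f : A) (hf : f ∈ maximalIdeal A)
    [HenselianRing A (Ideal.span {f})]
    (h : (FEt.restrict (pullback.fst (pullback.fst (FEt.puncturedSpec A).ι (cpl A))
        (pullback.fst (FEt.puncturedSpec A).ι
          (Spec.map (CommRingCat.ofHom (Ideal.Quotient.mk (Ideal.span {f}))))))).Full ∧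
      (FEt.restrict (pullback.fst (pullback.fst (FEt.puncturedSpec A).ι (cpl A))
        (pullback.fst (FEt.puncturedSpec A).ι
          (Spec.map (CommRingCat.ofHom (Ideal.Quotient.mk (Ideal.span {f}))))))).Faithful) :
    (FEt.restrict (pullback.fst (FEt.puncturedSpec A).ι
        (Spec.map (CommRingCat.ofHom (Ideal.Quotient.mk (Ideal.span {f})))))).Full ∧
      (FEt.restrict (pullback.fst (FEt.puncturedSpec A).ι
        (Spec.map (CommRingCat.ofHom (Ideal.Quotient.mk (Ideal.span {f})))))).Faithful := by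
  obtain ⟨_, _⟩ := h
  obtain ⟨n, a, ha⟩ := exists_generators A
  let U := FEt.puncturedSpec A
  have hU : Cover a U := ⟨mem_puncturedSpec_iff ha⟩
  let s := pullback.fst U.ι (cpl A)
  obtain ⟨_, hgr⟩ := range_fst_quotient U (Ideal.Quotient.mk (Ideal.span {f}))
    Ideal.Quotient.mk_surjective
  let g := pullback.fst U.ι (Spec.map (CommRingCat.ofHom (Ideal.Quotient.mk (Ideal.span {f}))))
  have := Extend.faithfullyFlat_completion A
  have : Surjective (cpl A) := ⟨PrimeSpectrum.comap_surjective_of_faithfullyFlat (A := A) (B := Ah)⟩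
  have : Flat (cpl A) := (HasRingHomProperty.Spec_iff (P := @Flat)).mpr
    (RingHom.flat_algebraMap_iff.mpr inferInstance)
  refine Lib.FEt.FullyFaithful.full_and_faithful g (fun t ht hne => ?_) fun Y C hC => ?_
  · obtain ⟨y, hy⟩ := hne
    obtain ⟨y', rfl⟩ := s.surjective y
    obtain ⟨z, hz, hz'⟩ := meetsClopens_of_fullyFaithful (pullback.fst s g) (s.base ⁻¹' t)
      (ht.preimage s.continuous) ⟨y', hy⟩
    rw [Scheme.Pullback.range_fst] at hz'
    exact ⟨s.base z, hz, hz'⟩
  let w : Y.left ⟶ (U : Scheme.{u}) := Y.hom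
  obtain ⟨ρ, ê, c, hρ, hê, hc, hcC, hcR⟩ := exists_trace hU g Y C hC
  obtain ⟨G, hGfin, hGint, hGcov⟩ := exists_finite_subalgebra hU w Y.prop
  let := (str (w ≫ U.ι)).toAlgebra
  have hM₀ : ∀ x : Γ(Y.left, ⊤), ∀ z ∈ maximalIdeal A, ∃ l : ℕ, z ^ l • x ∈ Algebra.adjoin A G := by
    intro x z hz
    let N : Ideal A := (Subalgebra.toSubmodule (Algebra.adjoin A G)).comap
      (LinearMap.toSpanSingleton A Γ(Y.left, ⊤) x)
    have : maximalIdeal A ≤ N.radical := by
      rw [← ha, Ideal.span_le]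
      rintro _ ⟨i, rfl⟩
      exact (hGcov i x).imp fun l hl => hl
    exact (this hz).imp fun l hl => hl
  let := (str (pullback.fst w g ≫ w ≫ U.ι)).toAlgebra
  obtain ⟨m, hρm, hy⟩ := exists_almost_idempotent ρ (Algebra.adjoin A G) hM₀ ê hê c hcR
  refine exists_clopen_of_almost hU ha f w Y.prop (pullback.fst Y.hom g) (fun x => ?_) C c hc hcC
    G hGfin hGint hGcov m ((hρ m).symm.trans hρm) hy
  change x ∈ Set.range (pullback.fst w g).base ↔ _
  rw [Scheme.Pullback.range_fst]
  change w.base x ∈ Set.range g.base ↔ _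
  rw [show Set.range g.base = _ from hgr]
  change RingHom.ker _ ≤ _ ↔ _
  rw [Ideal.mk_ker, Ideal.span_le, Set.singleton_subset_iff]
  rfl

end Groth.Agent.H80.Clopen
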