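import Groth.Agent.S17758
import Groth.Agent.H18.FEquidim.Cpl
import Groth.Agent.Lib.Excellent.CatenaryDim
import Groth.Agent.Lib.Adic.Complete
import Groth.Prelude.Def_LefX
import Groth.Prelude.Def_FEt
import Mathlib.RingTheory.Ideal.KrullsHeightTheorem

/-!
# Connectedness in dimension of punctured spectra of quotients
-/

set_option autoImplicit false
set_option linter.style.haveILetI false

universe u

open IsLocalRing TopologicalSpace Topology

namespace Groth.Agent.H80.ConnDim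

open Lib.Excellent.CatenaryDim

variable {A : Type u} [CommRing A]

section Top

variable {α : Type u} [TopologicalSpace α] {g : α → PrimeSpectrum A} (hg : IsEmbedding g)

include hg

theorem topologicalKrullDim_image [QuasiSober α] (Z : Set α) (hZ : IsClosed Z) :
    topologicalKrullDim Z = Order.krullDim ↥(g '' Z) := by
  haveI : T0Space α := hg.t0Space
  haveI : QuasiSober Z := hZ.isClosedEmbedding_subtypeVal.quasiSober
  let h : IsEmbedding (fun z : Z => g z.1) := hg.comp IsEmbedding.subtypeVal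
  let e : @OrderIso Z (↥(g '' Z))ᵒᵈ (specializationOrder Z).toLE _ :=
    RelIso.mk ((Equiv.Set.image g Z hg.injective).trans OrderDual.toDual) (fun {a b} => by
      change (g b.1) ≤ g a.1 ↔ b ⤳ a
      rw [PrimeSpectrum.le_iff_specializes]
      exact h.isInducing.specializes_iff)
  rw [topologicalKrullDim]
  exact (Order.krullDim_eq_of_orderIso (@OrderIso.trans _ _ _ _ (specializationOrder Z).toLE _ irreducibleSetEquivPoints e)).trans
    Order.krullDim_orderDual

theorem closure_mem_irreducibleComponents [QuasiSober α] (x : α)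
    (hx : ∀ y, g y ≤ g x → y = x) : closure {x} ∈ irreducibleComponents α := by
  refine ⟨isIrreducible_singleton.closure, fun T hT hle => ?_⟩
  have h1 : hT.genericPoint ⤳ x := by
    refine (hT.isGenericPoint_genericPoint_closure.specializes ?_)
    exact subset_closure (hle (subset_closure (Set.mem_singleton x)))
  have h2 := hx _ ((PrimeSpectrum.le_iff_specializes _ _).mpr (hg.isInducing.specializes_iff.mpr h1))
  intro t ht
  rw [← h2]
  exact (hT.isGenericPoint_genericPoint_closure.def ▸ subset_closure ht : t ∈ closure {hT.genericPoint})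

omit hg in
theorem exists_generic [QuasiSober α] {Z : Set α} (hZ : Z ∈ irreducibleComponents α) :
    ∃ x, Z = closure {x} ∧ ∀ y, y ⤳ x → x ⤳ y := by
  have hc := isClosed_of_mem_irreducibleComponents Z hZ
  obtain ⟨x, hx⟩ := QuasiSober.sober hZ.1 hc
  refine ⟨x, hx.def.symm, fun y hy => ?_⟩
  have hle : Z ⊆ closure {y} := by
    rw [← hx.def]
    exact specializes_iff_closure_subset.mp hy
  exact hx.specializes (hZ.2 isIrreducible_singleton.closure hle (subset_closure (Set.mem_singleton y)))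

theorem image_closure (x : α) : g '' closure {x} = {P | g x ≤ P} ∩ Set.range g := by
  ext P
  constructor
  · rintro ⟨y, hy, rfl⟩
    exact ⟨(PrimeSpectrum.le_iff_specializes _ _).mpr (hg.isInducing.specializes_iff.mpr
      (specializes_iff_mem_closure.mpr hy)), y, rfl⟩
  · rintro ⟨hP, y, rfl⟩
    exact ⟨y, specializes_iff_mem_closure.mp (hg.isInducing.specializes_iff.mp
      ((PrimeSpectrum.le_iff_specializes _ _).mp hP)), rfl⟩

end Top

variable [IsNoetherianRing A] [IsLocalRing A]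

theorem coheight_ne_top' (P : PrimeSpectrum A) : Order.coheight P ≠ ⊤ := coheight_ne_top P

theorem lt_closedPoint {P : PrimeSpectrum A} (h : P ≠ closedPoint A) : P < closedPoint A :=
  lt_of_le_of_ne (show P.asIdeal ≤ maximalIdeal A from IsLocalRing.le_maximalIdeal P.2.ne_top) h

/-- Upper bound for coheights. -/
theorem coheight_le_of_krullDim_lt {S : Set (PrimeSpectrum A)} {k : ℕ}
    (hS : ∀ P ∈ S, ∀ Q, P ≤ Q → Q ≠ closedPoint A → Q ∈ S)
    (hdim : Order.krullDim ↥S < (k : WithBot ℕ∞)) (P : PrimeSpectrum A) (hP : P ∈ S) :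
    Order.coheight P ≤ (k : ℕ∞) := by
  obtain ⟨n, hn⟩ := ENat.ne_top_iff_exists.1 (coheight_ne_top' P)
  rw [← hn, Nat.cast_le]
  by_contra hk
  obtain ⟨l, hl, hlen⟩ := Order.exists_series_of_le_coheight P (n := n) hn.le
  have hmem : ∀ i : Fin n, l ⟨i, by omega⟩ ∈ S := fun i => by
    have h1 : P ≤ l ⟨i, by omega⟩ := hl ▸ l.head_le _
    refine hS P hP _ h1 fun he => ?_
    have h2 : l ⟨i, by omega⟩ < l ⟨i + 1, by omega⟩ := l.strictMono (by exact Nat.lt_succ_self i.1)
    rw [he] at h2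
    exact not_le_of_gt h2 (IsLocalRing.le_maximalIdeal (l _).2.ne_top)
  let l' : LTSeries ↥S := LTSeries.mk (n - 1) (fun i => ⟨l ⟨i, by omega⟩, hmem ⟨i, by omega⟩⟩)
    (fun i j hij => l.strictMono (by exact hij))
  have h3 := (Order.LTSeries.length_le_krullDim l').trans_lt hdim
  have : n - 1 < k := by exact_mod_cast h3
  omega

theorem succ_length_le_coheight {S : Set (PrimeSpectrum A)} (hS : ∀ P ∈ S, P ≠ closedPoint A)
    (l : LTSeries ↥S) (P : PrimeSpectrum A) (hP : P ≤ l.head.1) :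
    ((l.length + 1 : ℕ) : ℕ∞) ≤ Order.coheight P := by
  let l' : LTSeries (PrimeSpectrum A) := (l.map Subtype.val (fun _ _ h => h)).snoc (closedPoint A)
    (lt_closedPoint (hS _ (l.last).2) |> fun h => by exact h)
  refine le_trans ?_ (Order.coheight_anti hP)
  refine le_trans (by simp [l'] <;> rfl) (Order.length_le_coheight (p := l') (le_of_eq ?_))
  simp [l', RelSeries.head, RelSeries.snoc]
  rfl

theorem krullDim_lt_of_coheight_le {S : Set (PrimeSpectrum A)} (hS : ∀ P ∈ S, P ≠ closedPoint A)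
    {k : ℕ} (h : ∀ P ∈ S, Order.coheight P ≤ (k : ℕ∞)) : Order.krullDim ↥S < (k : WithBot ℕ∞) := by
  cases isEmpty_or_nonempty ↥S with
  | inl he => rw [Order.krullDim_eq_bot]; exact WithBot.bot_lt_coe _
  | inr he =>
    obtain ⟨P⟩ := he
    have h1 : ∀ l : LTSeries ↥S, l.length + 1 ≤ k := fun l => by
      exact_mod_cast (succ_length_le_coheight hS l l.head.1 le_rfl).trans (h _ l.head.2)
    have hk : 1 ≤ k := le_trans (by omega) (h1 (RelSeries.singleton _ P))
    refine lt_of_le_of_lt (iSup_le fun l => ?_) (b := ((k - 1 : ℕ) : WithBot ℕ∞)) ?_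
    · exact_mod_cast (show l.length ≤ k - 1 by have := h1 l; omega)
    · exact_mod_cast (show k - 1 < k by omega)

/-- A prime of large coheight. -/
theorem le_krullDim_of_coheight {S : Set (PrimeSpectrum A)} {P : PrimeSpectrum A} {j : ℕ}
    (hS : ∀ Q, P ≤ Q → Q ≠ closedPoint A → Q ∈ S) (h : ((j + 1 : ℕ) : ℕ∞) ≤ Order.coheight P) :
    (j : WithBot ℕ∞) ≤ Order.krullDim ↥S := by
  obtain ⟨l, hl, hlen⟩ := Order.exists_series_of_le_coheight P h
  have hmem : ∀ i : Fin (j + 1), l ⟨i, by omega⟩ ∈ S := fun i => by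
    refine hS _ (hl ▸ l.head_le _) fun he => ?_
    have h2 : l ⟨i, by omega⟩ < l ⟨i + 1, by omega⟩ := l.strictMono (by exact Nat.lt_succ_self i.1)
    rw [he] at h2
    exact not_le_of_gt h2 (IsLocalRing.le_maximalIdeal (l _).2.ne_top)
  exact Order.le_krullDim_iff.mpr ⟨LTSeries.mk j (fun i => ⟨_, hmem i⟩)
    (fun a b hab => l.strictMono (by exact hab)), rfl⟩

/-- Coheight in the spectrum of a quotient by a prime. -/
theorem sub_card_le_coheight (hcat : ∀ p : Ideal A, CAlg.IsCatenary (A ⧸ p)) (s : Finset A)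
    {p Q : PrimeSpectrum A} (hpQ : p ≤ Q)
    (hQ : Q.asIdeal ∈ (Ideal.span (s : Set A)).minimalPrimes) :
    Order.coheight p ≤ Order.coheight Q + (s.card : ℕ∞) := by
  classical
  let π := Ideal.Quotient.mk p.asIdeal
  have hs : Function.Surjective π := Ideal.Quotient.mk_surjective
  have hker : RingHom.ker π = p.asIdeal := Ideal.mk_ker
  haveI : IsLocalRing (A ⧸ p.asIdeal) := .of_surjective' _ hs
  haveI hQp : (Q.asIdeal.map π).IsPrime :=
    Ideal.map_isPrime_of_surjective hs (hker.trans_le hpQ)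
  let Q' : PrimeSpectrum (A ⧸ p.asIdeal) := ⟨Q.asIdeal.map π, hQp⟩
  have hc : (Q.asIdeal.map π).comap π = Q.asIdeal := by
    rw [Ideal.comap_map_of_surjective π hs, ← RingHom.ker_eq_comap_bot, hker]
    exact sup_eq_left.2 hpQ
  have hmin : Q'.asIdeal ∈ (Ideal.span (↑(s.image π) : Set (A ⧸ p.asIdeal))).minimalPrimes := by
    refine ⟨⟨Q'.2, ?_⟩, ?_⟩
    · rw [Finset.coe_image, ← Ideal.map_span]
      exact Ideal.map_mono hQ.1.2
    · rintro J ⟨hJp, hJ⟩ hle
      rw [Finset.coe_image, ← Ideal.map_span, Ideal.map_le_iff_le_comap] at hJ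
      have := hQ.2 ⟨hJp.comap π, hJ⟩ ((Ideal.comap_mono hle).trans hc.le)
      calc Q.asIdeal.map π ≤ (J.comap π).map π := Ideal.map_mono this
        _ = J := Ideal.map_comap_of_surjective π hs J
  have hht : Q'.asIdeal.height ≤ (s.card : ℕ∞) :=
    (Ideal.height_le_card_of_mem_minimalPrimes_span_finset hmin).trans
      (by exact_mod_cast Finset.card_image_le)
  have heq := height_add_coheight_eq (hcat p.asIdeal) (fun P hP => by
    rw [IsDomain.minimalPrimes_eq_singleton_bot] at hP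
    cases hP
    exact ringKrullDim_eq_of_ringEquiv (RingEquiv.quotientBot _)) Q'
  rw [ringKrullDim_quotient_eq_coheight, WithBot.coe_inj] at heq
  have hcoh : Order.coheight Q' = Order.coheight Q := by
    have h1 : ringKrullDim ((A ⧸ p.asIdeal) ⧸ Q'.asIdeal) = ringKrullDim (A ⧸ Q.asIdeal) :=
      ringKrullDim_eq_of_ringEquiv (((DoubleQuot.quotQuotEquivQuotSup p.asIdeal Q.asIdeal)).trans
        (Ideal.quotEquivOfEq (sup_eq_right.2 hpQ)))
    rw [ringKrullDim_quotient_eq_coheight, ringKrullDim_quotient_eq_coheight, WithBot.coe_inj] at h1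
    exact h1
  rw [← heq, hcoh, add_comm]
  gcongr

/-- Points above a prime and finitely many equations. -/
theorem exists_ge_of_card_lt (P : PrimeSpectrum A) (s : Finset A) (hs : ↑s ⊆ (maximalIdeal A : Set A))
    (h : ((s.card : ℕ) : ℕ∞) < Order.coheight P) :
    ∃ R : PrimeSpectrum A, P ≤ R ∧ (↑s : Set A) ⊆ R.asIdeal ∧ R ≠ closedPoint A := by
  classical
  by_contra hne
  push Not at hne
  let π := Ideal.Quotient.mk P.asIdeal
  have hsur : Function.Surjective π := Ideal.Quotient.mk_surjective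
  haveI : IsLocalRing (A ⧸ P.asIdeal) := .of_surjective' _ hsur
  have hmin : maximalIdeal (A ⧸ P.asIdeal) ∈
      (Ideal.span (↑(s.image π) : Set (A ⧸ P.asIdeal))).minimalPrimes := by
    refine ⟨⟨inferInstance, ?_⟩, ?_⟩
    · rw [← IsLocalRing.map_maximalIdeal_of_surjective π hsur, Finset.coe_image, ← Ideal.map_span]
      exact Ideal.map_mono (Ideal.span_le.2 hs)
    · rintro J ⟨hJp, hJ⟩ _
      rw [Finset.coe_image, ← Ideal.map_span, Ideal.map_le_iff_le_comap, Ideal.span_le] at hJ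
      have hP : P.asIdeal ≤ J.comap π := (Ideal.mk_ker).symm.trans_le (Ideal.ker_le_comap π)
      have := hne ⟨J.comap π, hJp.comap π⟩ hP hJ
      have e : J.comap π = maximalIdeal A := congrArg PrimeSpectrum.asIdeal this
      calc maximalIdeal (A ⧸ P.asIdeal) = (maximalIdeal A).map π :=
            (IsLocalRing.map_maximalIdeal_of_surjective π hsur).symm
        _ = (J.comap π).map π := by rw [e]
        _ ≤ J := Ideal.map_comap_le
  have h1 := (Ideal.height_le_card_of_mem_minimalPrimes_span_finset hmin).trans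
    (show ((s.image π).card : ℕ∞) ≤ s.card by exact_mod_cast Finset.card_image_le)
  have h2 : ((maximalIdeal (A ⧸ P.asIdeal)).height : WithBot ℕ∞) = ringKrullDim (A ⧸ P.asIdeal) :=
    IsLocalRing.maximalIdeal_height_eq_ringKrullDim
  rw [ringKrullDim_quotient_eq_coheight, WithBot.coe_inj] at h2
  rw [h2] at h1
  exact not_lt.2 h1 h

omit [IsNoetherianRing A] in
theorem exists_ideal_of_closed {C : Set (PrimeSpectrum A)} (hC : IsClosed C) :
    ∃ J : Ideal A, C = PrimeSpectrum.zeroLocus (J : Set A) :=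
  (PrimeSpectrum.isClosed_iff_zeroLocus_ideal C).mp hC

/-- Few equations cutting a closed set down to the closed point. -/
theorem exists_cut {C : Set (PrimeSpectrum A)} (hC : IsClosed C) {k : ℕ}
    (h : ∀ P ∈ C, Order.coheight P ≤ (k : ℕ∞)) :
    ∃ s : Finset A, s.card ≤ k ∧ ↑s ⊆ (maximalIdeal A : Set A) ∧
      ∀ P ∈ C, (↑s : Set A) ⊆ P.asIdeal → P = closedPoint A := by
  classical
  obtain ⟨J, rfl⟩ := exists_ideal_of_closed hC
  by_cases hJ : J = ⊤
  · refine ⟨∅, Nat.zero_le _, by simp, fun P hP _ => absurd ?_ P.2.ne_top⟩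
    rw [PrimeSpectrum.mem_zeroLocus, SetLike.coe_subset_coe] at hP
    exact top_le_iff.1 (hJ ▸ hP)
  haveI : Nontrivial (A ⧸ J) := Ideal.Quotient.nontrivial_iff.mpr hJ
  let π := Ideal.Quotient.mk J
  have hsur : Function.Surjective π := Ideal.Quotient.mk_surjective
  haveI : IsLocalRing (A ⧸ J) := .of_surjective' _ hsur
  obtain ⟨t, ht, hcard⟩ := Ideal.exists_finset_card_eq_height_of_isNoetherianRing (maximalIdeal (A ⧸ J))
  have hdim : (maximalIdeal (A ⧸ J)).height ≤ (k : ℕ∞) := by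
    have h2 : ((maximalIdeal (A ⧸ J)).height : WithBot ℕ∞) = ringKrullDim (A ⧸ J) :=
      IsLocalRing.maximalIdeal_height_eq_ringKrullDim
    rw [← WithBot.coe_le_coe, h2, ringKrullDim_quotient]
    refine iSup_le fun l => ?_
    refine WithBot.coe_le_coe.mpr (le_trans ?_ (h _ l.head.2))
    exact Order.length_le_coheight (p := l.map Subtype.val fun _ _ h => h) le_rfl
  choose σ hσ using hsur
  refine ⟨t.image σ, Finset.card_image_le.trans (by exact_mod_cast hcard ▸ hdim), ?_, fun P hP hs => ?_⟩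
  · intro x hx
    obtain ⟨y, hy, rfl⟩ := Finset.mem_image.1 hx
    have : π (σ y) ∈ maximalIdeal (A ⧸ J) := (hσ y).symm ▸ ht.1.2 (Ideal.subset_span hy)
    exact fun hu => this (hu.map π)
  · rw [PrimeSpectrum.mem_zeroLocus, SetLike.coe_subset_coe] at hP
    haveI := Ideal.map_isPrime_of_surjective (f := π) Ideal.Quotient.mk_surjective (I := P.asIdeal)
      (Ideal.mk_ker.trans_le hP)
    have hle : Ideal.span (t : Set (A ⧸ J)) ≤ P.asIdeal.map π := Ideal.span_le.2 fun y hy => by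
      rw [← hσ y]
      exact Ideal.mem_map_of_mem π (hs (Finset.mem_image_of_mem σ hy))
    have he := ht.2 ⟨inferInstance, hle⟩ (IsLocalRing.le_maximalIdeal (Ideal.IsPrime.ne_top inferInstance))
    refine PrimeSpectrum.ext ((IsLocalRing.le_maximalIdeal P.2.ne_top).antisymm ?_)
    intro x hx
    have hx' : π x ∈ P.asIdeal.map π := by
      refine he ?_
      rw [← IsLocalRing.map_maximalIdeal_of_surjective π Ideal.Quotient.mk_surjective]
      exact Ideal.mem_map_of_mem π hx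
    rw [← Ideal.mem_comap, Ideal.comap_map_of_surjective π Ideal.Quotient.mk_surjective,
      ← RingHom.ker_eq_comap_bot, Ideal.mk_ker, sup_eq_left.2 hP] at hx'
    exact hx'

variable [IsAdicComplete (maximalIdeal A) A]

theorem preconnected_branch (p : PrimeSpectrum A) (s : Finset A) (hs : ↑s ⊆ (maximalIdeal A : Set A))
    (h : ((s.card + 2 : ℕ) : ℕ∞) ≤ Order.coheight p) :
    _root_.IsPreconnected {P : PrimeSpectrum A | p ≤ P ∧ (↑s : Set A) ⊆ P.asIdeal ∧ P ≠ closedPoint A} := by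
  classical
  let π := Ideal.Quotient.mk p.asIdeal
  have hsur : Function.Surjective π := Ideal.Quotient.mk_surjective
  haveI : IsLocalRing (A ⧸ p.asIdeal) := .of_surjective' _ hsur
  haveI : IsAdicComplete (maximalIdeal (A ⧸ p.asIdeal)) (A ⧸ p.asIdeal) := by
    have := Lib.Adic.Complete.isAdicComplete_quotient (I := maximalIdeal A) p.asIdeal
    rwa [IsLocalRing.map_maximalIdeal_of_surjective _ hsur] at this
  obtain ⟨d, hd⟩ := ENat.ne_top_iff_exists.1 (coheight_ne_top' p)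
  have hdim : ringKrullDim (A ⧸ p.asIdeal) = d := by
    rw [ringKrullDim_quotient_eq_coheight, ← hd]; rfl
  rw [← hd, Nat.cast_le] at h
  let f : Fin s.card → A ⧸ p.asIdeal := fun i => π (s.equivFin.symm i).1
  have hf : Ideal.span (Set.range f) = (Ideal.span (s : Set A)).map π := by
    rw [Ideal.map_span]
    congr 1
    ext y
    constructor
    · rintro ⟨i, rfl⟩; exact ⟨_, (s.equivFin.symm i).2, rfl⟩
    · rintro ⟨x, hx, rfl⟩; exact ⟨s.equivFin ⟨x, hx⟩, by simp [f]⟩
  have hne : Ideal.span (Set.range f) ≠ ⊤ := by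
    refine ne_top_of_le_ne_top (Ideal.IsMaximal.ne_top (inferInstance : (maximalIdeal _).IsMaximal)) ?_
    rw [hf, ← IsLocalRing.map_maximalIdeal_of_surjective π hsur]
    exact Ideal.map_mono (Ideal.span_le.2 hs)
  have hc := Groth.Agent.S17758.result (A ⧸ p.asIdeal) d hdim s.card h f _ hne rfl
  have himg : {P : PrimeSpectrum A | p ≤ P ∧ (↑s : Set A) ⊆ P.asIdeal ∧ P ≠ closedPoint A} =
      PrimeSpectrum.comap π '' {x | Ideal.span (Set.range f) ≤ x.asIdeal ∧
        x.asIdeal ≠ maximalIdeal (A ⧸ p.asIdeal)} := by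
    ext P
    constructor
    · rintro ⟨hp, hsP, hP⟩
      obtain ⟨x, rfl⟩ : P ∈ Set.range (PrimeSpectrum.comap π) := by
        rw [range_comap_of_surjective _ _ hsur, Ideal.mk_ker]
        exact hp
      refine ⟨x, ⟨?_, fun he => hP ?_⟩, rfl⟩
      · rw [hf, Ideal.map_le_iff_le_comap, Ideal.span_le]
        exact hsP
      · refine PrimeSpectrum.ext ?_
        show x.asIdeal.comap π = maximalIdeal A
        haveI : IsLocalHom π := IsLocalHom.of_surjective _ hsur
        rw [he]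
        exact IsLocalRing.maximalIdeal_comap π
    · rintro ⟨x, ⟨hx, hxm⟩, rfl⟩
      refine ⟨(Ideal.mk_ker).symm.trans_le (Ideal.ker_le_comap π), ?_, fun he => hxm ?_⟩
      · rw [hf, Ideal.map_le_iff_le_comap, Ideal.span_le] at hx
        exact hx
      · have e : x.asIdeal.comap π = maximalIdeal A := congrArg PrimeSpectrum.asIdeal he
        rw [← Ideal.map_comap_of_surjective π hsur x.asIdeal, e,
          IsLocalRing.map_maximalIdeal_of_surjective π hsur]
  rw [himg]
  exact hc.isPreconnected.image _ (PrimeSpectrum.continuous_comap π).continuousOn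

/-- The theorem on primes. -/
theorem core (k : ℕ) (hk : 1 ≤ k)
    (hb : ∀ T : Set (PrimeSpectrum A), IsClosed T →
      (∀ P ∈ T, P ≠ closedPoint A → Order.coheight P ≤ (k : ℕ∞)) →
      _root_.IsConnected (({closedPoint A}ᶜ : Set (PrimeSpectrum A)) \ T))
    (ha : ∀ p : PrimeSpectrum A, p.asIdeal ∈ minimalPrimes A → ((k + 2 : ℕ) : ℕ∞) ≤ Order.coheight p)
    (s : Finset A) (hs : ↑s ⊆ (maximalIdeal A : Set A)) (hsk : s.card ≤ k) :
    (∀ Q : PrimeSpectrum A, Q.asIdeal ∈ (Ideal.span (s : Set A)).minimalPrimes →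
      ((k - s.card + 2 : ℕ) : ℕ∞) ≤ Order.coheight Q) ∧
    ∀ T : Set (PrimeSpectrum A), IsClosed T →
      (∀ P ∈ T, (↑s : Set A) ⊆ P.asIdeal → P ≠ closedPoint A → Order.coheight P ≤ ((k - s.card : ℕ) : ℕ∞)) →
      _root_.IsConnected ((PrimeSpectrum.zeroLocus (s : Set A) \ {closedPoint A}) \ T) := by
  classical
  have hcat : ∀ p : Ideal A, CAlg.IsCatenary (A ⧸ p) := fun p =>
    (H18.FEquidim.Cpl.isUniversallyCatenary_of_complete A).2 (A ⧸ p) inferInstance
  have hA : ∀ Q : PrimeSpectrum A, Q.asIdeal ∈ (Ideal.span (s : Set A)).minimalPrimes →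
      ((k - s.card + 2 : ℕ) : ℕ∞) ≤ Order.coheight Q := by
    intro Q hQ
    obtain ⟨p, hp, hpQ⟩ := Ideal.exists_minimalPrimes_le (I := (⊥ : Ideal A)) (J := Q.asIdeal) bot_le
    have h1 := (ha ⟨p, hp.1.1⟩ hp).trans (sub_card_le_coheight hcat s (p := ⟨p, hp.1.1⟩) hpQ hQ)
    obtain ⟨c, hc⟩ := ENat.ne_top_iff_exists.1 (coheight_ne_top' Q)
    rw [← hc] at h1 ⊢
    rw [← Nat.cast_add, Nat.cast_le] at h1
    exact Nat.cast_le.2 (by omega)
  refine ⟨hA, fun T hT hTd => ?_⟩
  let Y : Set (PrimeSpectrum A) := PrimeSpectrum.zeroLocus (s : Set A) \ {closedPoint A}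
  -- generic points
  have hgen : ∀ P ∈ Y, ∃ Q, Q ≤ P ∧ Q ∈ Y ∧ Q ∉ T ∧
      ((k - s.card + 2 : ℕ) : ℕ∞) ≤ Order.coheight Q := by
    intro P hP
    obtain ⟨Q, hQ, hQP⟩ := Ideal.exists_minimalPrimes_le (I := Ideal.span (s : Set A)) (J := P.asIdeal)
      (Ideal.span_le.2 hP.1)
    let Q' : PrimeSpectrum A := ⟨Q, hQ.1.1⟩
    have h1 := hA Q' hQ
    have hm : Q' ≠ closedPoint A := fun he =>
      not_le_of_gt (lt_closedPoint (by simpa using hP.2)) (he ▸ (show Q' ≤ P from hQP))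
    refine ⟨Q', hQP, ⟨Ideal.span_le.1 hQ.1.2, hm⟩, fun hT' => ?_, h1⟩
    have := h1.trans (hTd Q' hT' (Ideal.span_le.1 hQ.1.2) hm)
    rw [Nat.cast_le] at this
    omega
  refine ⟨?_, ?_⟩
  · obtain ⟨P, hP, hPm⟩ : ∃ P, (↑s : Set A) ⊆ (P : PrimeSpectrum A).asIdeal ∧ P ≠ closedPoint A := by
      obtain ⟨Q, hQ⟩ := Ideal.nonempty_minimalPrimes (I := Ideal.span (s : Set A))
        (ne_top_of_le_ne_top (Ideal.IsMaximal.ne_top inferInstance) (Ideal.span_le.2 hs))
      refine ⟨⟨Q, hQ.1.1⟩, Ideal.span_le.1 hQ.1.2, fun he => ?_⟩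
      have h1 := hA ⟨Q, hQ.1.1⟩ hQ
      rw [he, show Order.coheight (closedPoint A) = 0 from Order.coheight_eq_zero.2 fun b _ =>
        IsLocalRing.le_maximalIdeal b.2.ne_top] at h1
      simp at h1
    obtain ⟨Q, -, hQY, hQT, -⟩ := hgen P ⟨hP, hPm⟩
    exact ⟨Q, hQY, hQT⟩
  intro u v hu hv hsub ⟨x₁, hx₁, hx₁u⟩ ⟨x₂, hx₂, hx₂v⟩
  by_contra hne
  rw [Set.not_nonempty_iff_eq_empty] at hne
  have hdis : ∀ P ∈ Y, P ∉ T → P ∈ u → P ∈ v → False := fun P hP hPT hPu hPv =>
    Set.eq_empty_iff_forall_notMem.1 hne P ⟨⟨hP, hPT⟩, hPu, hPv⟩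
  let C₁ := closure ((Y \ T) ∩ u)
  let C₂ := closure ((Y \ T) ∩ v)
  have hcovY : ∀ P ∈ Y, P ∈ C₁ ∨ P ∈ C₂ := by
    intro P hP
    obtain ⟨Q, hQP, hQY, hQT, -⟩ := hgen P hP
    have hsp := (PrimeSpectrum.le_iff_specializes Q P).1 hQP
    rcases hsub ⟨hQY, hQT⟩ with h | h
    · exact Or.inl (hsp.mem_closed isClosed_closure (subset_closure ⟨⟨hQY, hQT⟩, h⟩))
    · exact Or.inr (hsp.mem_closed isClosed_closure (subset_closure ⟨⟨hQY, hQT⟩, h⟩))
  have hCs : ∀ P, P ∈ C₁ ∨ P ∈ C₂ → (↑s : Set A) ⊆ P.asIdeal := by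
    intro P hP
    have h1 : ∀ w : Set (PrimeSpectrum A), closure ((Y \ T) ∩ w) ⊆ PrimeSpectrum.zeroLocus (s : Set A) :=
      fun w => closure_minimal (fun z hz => hz.1.1.1) (PrimeSpectrum.isClosed_zeroLocus _)
    exact hP.elim (fun h => h1 u h) (fun h => h1 v h)
  have hCT : ∀ P ∈ C₁ ∩ C₂, P ≠ closedPoint A → P ∈ T := by
    intro P hP hm
    by_contra hPT
    have hPY : P ∈ Y := ⟨hCs P (Or.inl hP.1), hm⟩
    rcases hsub ⟨hPY, hPT⟩ with h | h
    · obtain ⟨z, hzu, ⟨⟨hzY, hzT⟩, hzv⟩⟩ := mem_closure_iff.1 hP.2 u hu h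
      exact hdis z hzY hzT hzu hzv
    · obtain ⟨z, hzv, ⟨⟨hzY, hzT⟩, hzu⟩⟩ := mem_closure_iff.1 hP.1 v hv h
      exact hdis z hzY hzT hzu hzv
  obtain ⟨t, htk, htm, ht⟩ := exists_cut (isClosed_closure.inter isClosed_closure : IsClosed (C₁ ∩ C₂))
    (k := k - s.card) fun P hP => by
      by_cases hm : P = closedPoint A
      · rw [hm, Order.coheight_eq_zero.2 (show IsMax (closedPoint A) from fun b _ =>
          IsLocalRing.le_maximalIdeal b.2.ne_top)]
        exact zero_le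
      · exact hTd P (hCT P hP hm) (hCs P (Or.inl hP.1)) hm
  let G := s ∪ t
  have hGk : G.card ≤ k := (Finset.card_union_le _ _).trans (by omega)
  have hGm : ↑G ⊆ (maximalIdeal A : Set A) := by
    simp only [G, Finset.coe_union, Set.union_subset_iff]
    exact ⟨hs, htm⟩
  let B := fun p : PrimeSpectrum A => {P : PrimeSpectrum A | p ≤ P ∧ (↑G : Set A) ⊆ P.asIdeal ∧ P ≠ closedPoint A}
  have hBY : ∀ p P, P ∈ B p → P ∈ Y := fun p P hP =>
    ⟨fun z hz => hP.2.1 (Finset.mem_union_left _ hz), hP.2.2⟩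
  have hBd : ∀ p P, P ∈ B p → P ∈ C₁ → P ∈ C₂ → False := fun p P hP h1 h2 =>
    hP.2.2 (ht P ⟨h1, h2⟩ fun z hz => hP.2.1 (Finset.mem_union_right _ hz))
  have hBone : ∀ p : PrimeSpectrum A, p.asIdeal ∈ minimalPrimes A → B p ⊆ C₁ ∨ B p ⊆ C₂ := by
    intro p hp
    have hc := preconnected_branch p G hGm (le_trans (Nat.cast_le.2 (by omega)) (ha p hp))
    exact isPreconnected_closed_iff.1 hc |> fun h => by
      by_contra hcon
      push Not at hcon
      obtain ⟨⟨a, haB, ha1⟩, ⟨b, hbB, hb2⟩⟩ := Set.not_subset.1 hcon.1, Set.not_subset.1 hcon.2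
      obtain ⟨z, hz, hz1, hz2⟩ := h C₁ C₂ isClosed_closure isClosed_closure
        (fun z hz => hcovY z (hBY p z hz)) ⟨b, hbB, (hcovY b (hBY p b hbB)).resolve_right hb2⟩
        ⟨a, haB, (hcovY a (hBY p a haB)).resolve_left ha1⟩
      exact hBd p z hz hz1 hz2
  let M := {p : PrimeSpectrum A | p.asIdeal ∈ minimalPrimes A}
  have hMfin : M.Finite :=
    (minimalPrimes.finite_of_isNoetherianRing A).preimage (fun a _ b _ h => PrimeSpectrum.ext h)
  let V := fun C : Set (PrimeSpectrum A) => ⋃ p ∈ {p ∈ M | B p ⊆ C}, PrimeSpectrum.zeroLocus (p.asIdeal : Set A)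
  have hVc : ∀ C, IsClosed (V C) := fun C =>
    (hMfin.subset fun p hp => hp.1).isClosed_biUnion fun p _ => PrimeSpectrum.isClosed_zeroLocus _
  have hV : ∀ C P, P ∈ V C ↔ ∃ p ∈ M, B p ⊆ C ∧ p ≤ P := fun C P => by
    simp [V, and_assoc]
  -- both families are nonempty
  have hnonempty : ∀ (w : Set (PrimeSpectrum A)) (x : PrimeSpectrum A), x ∈ Y \ T → x ∈ w → IsOpen w →
      ∃ p ∈ M, ∃ z ∈ B p, z ∈ closure ((Y \ T) ∩ w) := by
    intro w x hx hxw hw
    obtain ⟨Q, hQx, hQY, hQT, hQh⟩ := hgen x hx.1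
    have hQw : Q ∈ w := ((PrimeSpectrum.le_iff_specializes Q x).1 hQx).mem_open hw hxw
    obtain ⟨p, hp, hpQ⟩ := Ideal.exists_minimalPrimes_le (I := (⊥ : Ideal A)) (J := Q.asIdeal) bot_le
    obtain ⟨R, hQR, htR, hRm⟩ := exists_ge_of_card_lt Q t htm
      (lt_of_lt_of_le (Nat.cast_lt.2 (by omega)) hQh)
    refine ⟨⟨p, hp.1.1⟩, hp, R, ⟨le_trans (show (⟨p, hp.1.1⟩ : PrimeSpectrum A) ≤ Q from hpQ) hQR, ?_, hRm⟩, ?_⟩
    · intro z hz
      rcases Finset.mem_union.1 hz with h | h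
      · exact hQR (hQY.1 h)
      · exact htR h
    · exact ((PrimeSpectrum.le_iff_specializes Q R).1 hQR).mem_closed isClosed_closure
        (subset_closure ⟨⟨hQY, hQT⟩, hQw⟩)
  have hW : ∀ P ∈ V C₁ ∩ V C₂, P ≠ closedPoint A → Order.coheight P ≤ (k : ℕ∞) := by
    intro P hP hm
    refine le_trans ?_ (Nat.cast_le.2 hGk)
    by_contra hlt
    obtain ⟨R, hPR, hGR, hRm⟩ := exists_ge_of_card_lt P G hGm (not_le.1 hlt)
    obtain ⟨p₁, -, hp₁, hp₁P⟩ := (hV _ _).1 hP.1
    obtain ⟨p₂, -, hp₂, hp₂P⟩ := (hV _ _).1 hP.2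
    exact hBd p₁ R ⟨hp₁P.trans hPR, hGR, hRm⟩ (hp₁ ⟨hp₁P.trans hPR, hGR, hRm⟩)
      (hp₂ ⟨hp₂P.trans hPR, hGR, hRm⟩)
  have hconn := hb (V C₁ ∩ V C₂) ((hVc _).inter (hVc _)) hW
  have hpnot : ∀ p ∈ M, p ∈ ({closedPoint A}ᶜ : Set (PrimeSpectrum A)) \ (V C₁ ∩ V C₂) := by
    intro p hp
    have h0 := ha p hp
    have hm : p ≠ closedPoint A := fun he => by
      rw [he, show Order.coheight (closedPoint A) = 0 from Order.coheight_eq_zero.2 fun b _ =>
        IsLocalRing.le_maximalIdeal b.2.ne_top] at h0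
      simp at h0
    refine ⟨hm, fun hW' => ?_⟩
    have := h0.trans (hW p hW' hm)
    rw [Nat.cast_le] at this
    omega
  obtain ⟨p₁, hp₁, z₁, hz₁, hz₁C⟩ := hnonempty u x₁ hx₁ hx₁u hu
  obtain ⟨p₂, hp₂, z₂, hz₂, hz₂C⟩ := hnonempty v x₂ hx₂ hx₂v hv
  have h1 : B p₁ ⊆ C₁ := (hBone p₁ hp₁).resolve_right fun h => hBd p₁ z₁ hz₁ hz₁C (h hz₁)
  have h2 : B p₂ ⊆ C₂ := (hBone p₂ hp₂).resolve_left fun h => hBd p₂ z₂ hz₂ (h hz₂) hz₂C
  obtain ⟨P, hP, hP12⟩ := isPreconnected_closed_iff.1 hconn.isPreconnected (V C₁) (V C₂) (hVc _) (hVc _)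
    (fun P hP => by
      obtain ⟨p, hp, hpP⟩ := Ideal.exists_minimalPrimes_le (I := (⊥ : Ideal A)) (J := P.asIdeal) bot_le
      exact (hBone ⟨p, hp.1.1⟩ hp).imp (fun h => (hV _ _).2 ⟨⟨p, hp.1.1⟩, hp, h, hpP⟩)
        (fun h => (hV _ _).2 ⟨⟨p, hp.1.1⟩, hp, h, hpP⟩))
    ⟨p₁, hpnot p₁ hp₁, (hV _ _).2 ⟨p₁, hp₁, h1, le_rfl⟩⟩ ⟨p₂, hpnot p₂ hp₂, (hV _ _).2 ⟨p₂, hp₂, h2, le_rfl⟩⟩
  exact hP.2 hP12

end Groth.Agent.H80.ConnDim

namespace Groth.Agent.H80.ConnDim

open AlgebraicGeometry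

variable {A : Type u} [CommRing A] [IsNoetherianRing A] [IsLocalRing A]

/-- A point of the punctured spectrum as a prime. -/
def pt (x : ↥(FEt.puncturedSpec A)) : PrimeSpectrum A := x.1

omit [IsNoetherianRing A] in
theorem isOpenEmbedding_pt : IsOpenEmbedding (pt (A := A)) :=
  (FEt.puncturedSpec A).2.isOpenEmbedding_subtypeVal

omit [IsNoetherianRing A] in
theorem range_pt : Set.range (pt (A := A)) = {closedPoint A}ᶜ := Subtype.range_coe

omit [IsNoetherianRing A] in
theorem pt_ne (x : ↥(FEt.puncturedSpec A)) : pt x ≠ closedPoint A :=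
  (range_pt (A := A)).le ⟨x, rfl⟩

instance : QuasiSober ↥(FEt.puncturedSpec A) :=
  (isOpenEmbedding_pt (A := A)).quasiSober

theorem ha_of {k : ℕ}
    (ha : ∀ Z ∈ irreducibleComponents ↥(FEt.puncturedSpec A), ((k + 1 : ℕ) : WithBot ℕ∞) ≤ topologicalKrullDim ↥Z)
    (hne : (Set.univ : Set ↥(FEt.puncturedSpec A)).Nonempty)
    (p : PrimeSpectrum A) (hp : p.asIdeal ∈ minimalPrimes A) :
    ((k + 2 : ℕ) : ℕ∞) ≤ Order.coheight p := by
  obtain ⟨x₀, -⟩ := hne
  have hpm : p ≠ closedPoint A := fun he => pt_ne x₀ <| PrimeSpectrum.ext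
    ((IsLocalRing.le_maximalIdeal (pt x₀).2.ne_top).antisymm
      (by
        have h := hp.2 ⟨(pt x₀).2, bot_le⟩ (by rw [he]; exact IsLocalRing.le_maximalIdeal (pt x₀).2.ne_top)
        rw [he] at h
        exact h))
  obtain ⟨x, rfl⟩ : p ∈ Set.range (pt (A := A)) := by rw [range_pt]; exact hpm
  have hg := (isOpenEmbedding_pt (A := A)).isEmbedding
  have hZ := closure_mem_irreducibleComponents hg x fun y hy =>
    hg.injective (le_antisymm hy (hp.2 ⟨(pt y).2, bot_le⟩ hy))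
  have h1 := ha _ hZ
  rw [topologicalKrullDim_image hg _ isClosed_closure, image_closure hg, range_pt] at h1
  obtain ⟨l, hl⟩ := Order.le_krullDim_iff.mp h1
  refine le_trans ?_ (succ_length_le_coheight (fun P hP => hP.2) l (pt x) l.head.2.1)
  rw [hl]

theorem hb_of {k : ℕ} (hb : LefX.ConnectedInDim ↥(FEt.puncturedSpec A) k) (T : Set (PrimeSpectrum A))
    (hT : IsClosed T) (hTd : ∀ P ∈ T, P ≠ closedPoint A → Order.coheight P ≤ (k : ℕ∞)) :
    _root_.IsConnected (({closedPoint A}ᶜ : Set (PrimeSpectrum A)) \ T) := by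
  have hg := (isOpenEmbedding_pt (A := A))
  have hc := hT.preimage hg.continuous
  have h := hb (pt ⁻¹' T) hc (by
    rw [topologicalKrullDim_image hg.isEmbedding _ hc, Set.image_preimage_eq_inter_range, range_pt]
    exact krullDim_lt_of_coheight_le (fun P hP => hP.2) fun P hP => hTd P hP.1 hP.2)
  have h2 := h.image pt hg.continuous.continuousOn
  rwa [← Set.preimage_compl, Set.image_preimage_eq_inter_range, range_pt, Set.inter_comm,
    ← Set.diff_eq] at h2

/-- Connectedness in dimension of the punctured spectrum of a quotient. -/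
theorem connectedInDim_quotient [IsAdicComplete (maximalIdeal A) A] (k : ℕ) (hk : 1 ≤ k)
    (ha : ∀ Z ∈ irreducibleComponents ↥(FEt.puncturedSpec A), ((k + 1 : ℕ) : WithBot ℕ∞) ≤ topologicalKrullDim ↥Z)
    (hb : LefX.ConnectedInDim ↥(FEt.puncturedSpec A) k) (m : ℕ) (hm : m ≤ k) (f : Fin m → A)
    (hf : ∀ i, f i ∈ maximalIdeal A) [IsLocalRing (A ⧸ Ideal.span (Set.range f))] :
    (∀ Z ∈ irreducibleComponents ↥(FEt.puncturedSpec (A ⧸ Ideal.span (Set.range f))),
      ((k - m + 1 : ℕ) : WithBot ℕ∞) ≤ topologicalKrullDim ↥Z) ∧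
      LefX.ConnectedInDim ↥(FEt.puncturedSpec (A ⧸ Ideal.span (Set.range f))) (k - m) := by
  classical
  let s : Finset A := Finset.univ.image f
  have hs' : (s : Set A) = Set.range f := by simp [s]
  have hsc : s.card ≤ m := Finset.card_image_le.trans (by simp)
  have hsm : ↑s ⊆ (maximalIdeal A : Set A) := by
    rw [hs']
    rintro _ ⟨i, rfl⟩
    exact hf i
  have hne : (Set.univ : Set ↥(FEt.puncturedSpec A)).Nonempty :=
    (hb ∅ isClosed_empty (by
      rw [topologicalKrullDim_image (isOpenEmbedding_pt (A := A)).isEmbedding _ isClosed_empty,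
        Set.image_empty, Order.krullDim_eq_bot]
      exact WithBot.bot_lt_coe _)).nonempty.mono (Set.subset_univ _)
  obtain ⟨hA, hC⟩ := core k hk (hb_of hb) (ha_of ha hne) s hsm (hsc.trans hm)
  let B := A ⧸ Ideal.span (Set.range f)
  let π : A →+* B := Ideal.Quotient.mk _
  have hsur : Function.Surjective π := Ideal.Quotient.mk_surjective
  let g : ↥(FEt.puncturedSpec B) → PrimeSpectrum A := fun x => PrimeSpectrum.comap π (pt x)
  have hce := PrimeSpectrum.isClosedEmbedding_comap_of_surjective B π hsur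
  have hg : IsEmbedding g := hce.isEmbedding.comp (isOpenEmbedding_pt (A := B)).isEmbedding
  have hpm : PrimeSpectrum.comap π (closedPoint B) = closedPoint A := by
    haveI : IsLocalHom π := IsLocalHom.of_surjective _ hsur
    exact PrimeSpectrum.ext (IsLocalRing.maximalIdeal_comap π)
  have hrange : Set.range g = PrimeSpectrum.zeroLocus (s : Set A) \ {closedPoint A} := by
    rw [show g = PrimeSpectrum.comap π ∘ pt from rfl, Set.range_comp, range_pt,
      Set.compl_eq_univ_diff, Set.image_sdiff hce.injective, Set.image_univ, Set.image_singleton, hpm,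
      range_comap_of_surjective _ _ hsur, Ideal.mk_ker, hs', PrimeSpectrum.zeroLocus_span]
  have hup : ∀ (x : ↥(FEt.puncturedSpec B)) (Q : PrimeSpectrum A), g x ≤ Q → Q ≠ closedPoint A →
      Q ∈ Set.range g := fun x Q hQ hQm => by
    rw [hrange]
    have hx : g x ∈ PrimeSpectrum.zeroLocus (s : Set A) :=
      ((hrange.le ⟨x, rfl⟩) : g x ∈ PrimeSpectrum.zeroLocus (s : Set A) \ {closedPoint A}).1
    exact ⟨Set.Subset.trans hx hQ, hQm⟩
  refine ⟨fun Z hZ => ?_, fun Z hZc hZd => ?_⟩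
  · obtain ⟨x, rfl, hx⟩ := exists_generic hZ
    rw [topologicalKrullDim_image hg _ isClosed_closure, image_closure hg]
    refine le_trans (by exact_mod_cast (show k - m + 1 ≤ k - s.card + 1 by omega))
      (le_krullDim_of_coheight (P := g x) (j := k - s.card + 1) (fun Q hQ hQm => ⟨hQ, hup x Q hQ hQm⟩)
        (hA (g x) ?_))
    have hxY := hrange.le ⟨x, rfl⟩
    refine ⟨⟨(g x).2, Ideal.span_le.2 hxY.1⟩, fun J ⟨hJ, hsJ⟩ hle => ?_⟩
    obtain ⟨y, hy⟩ : (⟨J, hJ⟩ : PrimeSpectrum A) ∈ Set.range g := by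
      rw [hrange]
      refine ⟨Ideal.span_le.1 hsJ, fun he => hxY.2 ?_⟩
      rw [Set.mem_singleton_iff] at he ⊢
      exact le_antisymm (IsLocalRing.le_maximalIdeal (g x).2.ne_top) (he ▸ hle)
    have h1 := hx y (hg.isInducing.specializes_iff.1 ((PrimeSpectrum.le_iff_specializes _ _).1 (hy ▸ hle)))
    have h2 := (PrimeSpectrum.le_iff_specializes _ _).2 (hg.isInducing.specializes_iff.2 h1)
    rw [hy] at h2
    exact h2
  · have hzero : IsClosed (PrimeSpectrum.zeroLocus (s : Set A)) := PrimeSpectrum.isClosed_zeroLocus _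
    obtain ⟨T, hT, hTZ⟩ := hg.isInducing.isClosed_iff.1 hZc
    rw [topologicalKrullDim_image hg _ hZc] at hZd
    have hZimg : g '' Z = T ∩ Set.range g := by rw [← hTZ, Set.image_preimage_eq_inter_range]
    rw [hZimg] at hZd
    have h := hC T hT fun P hP hsP hPm => by
      refine le_trans (coheight_le_of_krullDim_lt ?_ hZd P ⟨hP, by rw [hrange]; exact ⟨hsP, hPm⟩⟩) ?_
      · rintro P ⟨hP, ⟨x, rfl⟩⟩ Q hQ hQm
        exact ⟨((PrimeSpectrum.le_iff_specializes _ _).1 hQ).mem_closed hT hP, hup x Q hQ hQm⟩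
      · exact Nat.cast_le.2 (by omega)
    rw [← hrange] at h
    have himg : g '' Zᶜ = Set.range g \ T := by
      rw [← hTZ, ← Set.preimage_compl, Set.image_preimage_eq_inter_range, Set.inter_comm, Set.diff_eq]
    rw [← himg] at h
    exact ⟨h.nonempty.of_image, hg.isInducing.isPreconnected_image.1 h.isPreconnected⟩

end Groth.Agent.H80.ConnDim
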