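import Groth.Agent.H80.Clopen.Hypersurface
import Mathlib.RingTheory.Regular.RegularSequence
import Mathlib.RingTheory.Flat.Basic

/-!
# Regular sequences and purity along an ideal with free associated graded ring
-/

set_option autoImplicit false
set_option backward.isDefEq.respectTransparency false

universe u

open CategoryTheory CategoryTheory.Limits AlgebraicGeometry IsLocalRing RingTheory.Sequence

namespace Groth.Agent.H80.Clopen

section

variable {A : Type u} [CommRing A]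

/-- Regularity on a free module over `A ⧸ J`. -/
theorem mem_smul_top_of_free (J I : Ideal A) {z : A} (hz : RegMod (J ⊔ I) z) {M : Type u}
    [AddCommGroup M] [Module A M] [Module (A ⧸ J) M] [IsScalarTower A (A ⧸ J) M]
    [Module.Free (A ⧸ J) M] {m : M} (hm : z • m ∈ I • (⊤ : Submodule A M)) :
    m ∈ I • (⊤ : Submodule A M) := by
  let b := Module.Free.chooseBasis (A ⧸ J) M
  rw [← b.linearCombination_repr m, Finsupp.linearCombination_apply]
  refine Submodule.sum_mem _ fun i _ => ?_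
  obtain ⟨c, hc⟩ := Ideal.Quotient.mk_surjective (b.repr m i)
  have h2 : ∀ v ∈ I • (⊤ : Submodule A M), b.repr v i ∈ I.map (Ideal.Quotient.mk J) := fun v hv => by
    refine Submodule.smul_induction_on hv (fun a ha n _ => ?_) fun x y hx hy => ?_
    · rw [← IsScalarTower.algebraMap_smul (A ⧸ J) a n, map_smul, Finsupp.smul_apply, smul_eq_mul]
      exact Ideal.mul_mem_right _ _ (Ideal.mem_map_of_mem _ ha)
    · rw [map_add, Finsupp.add_apply]; exact add_mem hx hy
  have h3 := h2 _ hm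
  rw [← IsScalarTower.algebraMap_smul (A ⧸ J) z m, map_smul, Finsupp.smul_apply, smul_eq_mul,
    Ideal.Quotient.algebraMap_eq, ← hc, ← map_mul, Ideal.mem_quotient_iff_mem_sup, sup_comm] at h3
  obtain ⟨j, hj, y, hy, hc'⟩ := Submodule.mem_sup.mp (hz c h3)
  rw [← hc, ← hc', map_add, Ideal.Quotient.eq_zero_iff_mem.mpr hj, zero_add]
  change (Ideal.Quotient.mk J y) • b i ∈ _
  rw [← Ideal.Quotient.algebraMap_eq, IsScalarTower.algebraMap_smul]
  exact Submodule.smul_mem_smul hy trivial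

set_option backward.isDefEq.respectTransparency true in
theorem mkQ_mem_smul_top_iff (J I N : Ideal A) (v : ↥N) :
    (J • (⊤ : Submodule A ↥N)).mkQ v ∈ I • (⊤ : Submodule A (↥N ⧸ (J • (⊤ : Submodule A ↥N)))) ↔
      (v : A) ∈ I * N ⊔ J * N := by
  rw [← Submodule.range_mkQ (J • (⊤ : Submodule A ↥N)), ← Submodule.map_top, ← Submodule.map_smul'',
    ← Submodule.mem_comap, Submodule.comap_map_mkQ, ← Submodule.sup_smul, Submodule.mem_smul_top_iff,
    sup_comm, ← smul_eq_mul, ← smul_eq_mul, ← Submodule.sup_smul]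

set_option backward.isDefEq.respectTransparency true in
/-- An element regular modulo `J ⊔ I` is regular modulo `J ^ n ⊔ I`. -/
theorem regMod_pow_sup (J : Ideal A)
    (hgr : ∀ n : ℕ, Module.Free (A ⧸ J) (↥(J ^ n) ⧸ (J • (⊤ : Submodule A ↥(J ^ n)))))
    (I : Ideal A) {z : A} (hz : RegMod (J ⊔ I) z)
    (hI : ∀ n, I ⊓ J ^ n ≤ I * J ^ n ⊔ J ^ (n + 1)) : ∀ n, RegMod (J ^ n ⊔ I) z
  | 0, x, _ => by simp
  | n + 1, a, ha => by
    have hle : J ^ (n + 1) ≤ J ^ n := Ideal.pow_le_pow_right n.le_succ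
    obtain ⟨j, hj, i, hi, rfl⟩ := Submodule.mem_sup.mp
      (regMod_pow_sup J hgr I hz hI n a (sup_le_sup_right hle I ha))
    refine add_mem ?_ (Submodule.mem_sup_right hi)
    have hzj : z * j ∈ J ^ (n + 1) ⊔ I := by
      have := sub_mem ha (Submodule.mem_sup_right (I.mul_mem_left z hi) :
        z * i ∈ J ^ (n + 1) ⊔ I)
      rwa [mul_add, add_sub_cancel_right] at this
    obtain ⟨w, hw, i', hi', hwi⟩ := Submodule.mem_sup.mp hzj
    have h1 : z * j ∈ I * J ^ n ⊔ J ^ (n + 1) := by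
      rw [← hwi]
      refine add_mem (Submodule.mem_sup_right hw) (hI n ⟨hi', ?_⟩)
      rw [show i' = z * j - w by rw [← hwi]; ring]
      exact sub_mem (Ideal.mul_mem_left _ _ hj) (hle hw)
    have := hgr n
    have h2 : (J • (⊤ : Submodule A ↥(J ^ n))).mkQ ⟨j, hj⟩ ∈
        I • (⊤ : Submodule A (↥(J ^ n) ⧸ (J • (⊤ : Submodule A ↥(J ^ n))))) := by
      refine mem_smul_top_of_free J I hz ?_
      rw [← map_smul, mkQ_mem_smul_top_iff, ← pow_succ']
      exact h1
    rw [mkQ_mem_smul_top_iff, ← pow_succ'] at h2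
    have h3 := sup_le_sup_right (Ideal.mul_le_left (I := I) (J := J ^ n)) (J ^ (n + 1)) h2
    rw [sup_comm] at h3
    exact h3

theorem inf_le_span_one {K : Ideal A} {x : A} (hx : RegMod K x) :
    Ideal.span {x} ⊓ K ≤ Ideal.span {x} * K := fun a ⟨ha, haK⟩ => by
  obtain ⟨p, rfl⟩ := Ideal.mem_span_singleton'.mp ha
  rw [mul_comm p x] at haK ⊢
  exact Ideal.mul_mem_mul (Ideal.mem_span_singleton_self x) (hx p haK)

theorem inf_le_span_two {K : Ideal A} {x y : A} (hx : RegMod K x)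
    (hy : RegMod (K ⊔ Ideal.span {x}) y) :
    (Ideal.span {x} ⊔ Ideal.span {y}) ⊓ K ≤ (Ideal.span {x} ⊔ Ideal.span {y}) * K := by
  rintro a ⟨ha, haK⟩
  obtain ⟨_, hp, _, hq, rfl⟩ := Submodule.mem_sup.mp ha
  obtain ⟨p, rfl⟩ := Ideal.mem_span_singleton'.mp hp
  obtain ⟨q, rfl⟩ := Ideal.mem_span_singleton'.mp hq
  obtain ⟨k, hk, _, hr, rfl⟩ := Submodule.mem_sup.mp (hy q (Submodule.mem_sup.mpr
    ⟨p * x + q * y, haK, (-p) * x, Ideal.mem_span_singleton'.mpr ⟨-p, rfl⟩, by ring⟩))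
  obtain ⟨r, rfl⟩ := Ideal.mem_span_singleton'.mp hr
  have h1 : p + r * y ∈ K := hx _ (by
    have := sub_mem haK (Ideal.mul_mem_right y _ hk)
    convert this using 1
    ring)
  rw [show p * x + (k + r * x) * y = x * (p + r * y) + y * k by ring]
  exact add_mem (Ideal.mul_mem_mul (Submodule.mem_sup_left (Ideal.mem_span_singleton_self x)) h1)
    (Ideal.mul_mem_mul (Submodule.mem_sup_right (Ideal.mem_span_singleton_self y)) hk)

/-- `Ideal.span` version of the Krull intersection for a regular element. -/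
theorem regMod_of_forall [IsNoetherianRing A] {J : Ideal A} (hJ : J ≤ Ideal.jacobson ⊥) {I : Ideal A}
    {g : A} (h : ∀ n, RegMod (J ^ n ⊔ I) g) : RegMod I g := fun x hx => by
  rw [← Ideal.Quotient.eq_zero_iff_mem, ← Submodule.mem_bot (R := A),
    ← Ideal.iInf_pow_smul_eq_bot_of_le_jacobson (M := A ⧸ I) J hJ, Submodule.mem_iInf]
  intro n
  obtain ⟨j, hj, s, hs, rfl⟩ := Submodule.mem_sup.mp (h n x (Submodule.mem_sup_right hx))
  rw [map_add, Ideal.Quotient.eq_zero_iff_mem.mpr hs, add_zero,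
    show Ideal.Quotient.mk I j = j • (1 : A ⧸ I) by
      rw [Algebra.smul_def, mul_one]; rfl]
  exact Submodule.smul_mem_smul hj trivial

/-- A regular triple modulo `J` gives regular triples modulo all powers of `J`. -/
theorem regMod_triple_pow (J : Ideal A)
    (hgr : ∀ n : ℕ, Module.Free (A ⧸ J) (↥(J ^ n) ⧸ (J • (⊤ : Submodule A ↥(J ^ n))))) {x y z : A}
    (hx : RegMod J x) (hy : RegMod (J ⊔ Ideal.span {x}) y)
    (hz : RegMod (J ⊔ (Ideal.span {x} ⊔ Ideal.span {y})) z) (n : ℕ) :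
    RegMod (J ^ n) x ∧ RegMod (J ^ n ⊔ Ideal.span {x}) y ∧
      RegMod (J ^ n ⊔ (Ideal.span {x} ⊔ Ideal.span {y})) z := by
  have h1 : ∀ n, RegMod (J ^ n) x := fun n => by
    simpa using regMod_pow_sup J hgr ⊥ (by simpa using hx) (fun m => by simp) n
  have h2 : ∀ n, RegMod (J ^ n ⊔ Ideal.span {x}) y :=
    regMod_pow_sup J hgr _ hy fun m => (inf_le_span_one (h1 m)).trans le_sup_left
  exact ⟨h1 n, h2 n, regMod_pow_sup J hgr _ hz
    (fun m => (inf_le_span_two (h1 m) (h2 m)).trans le_sup_left) n⟩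

theorem isWeaklyRegular_of_regMod {x y z : A} (hx : RegMod ⊥ x) (hy : RegMod (Ideal.span {x}) y)
    (hz : RegMod (Ideal.span {x} ⊔ Ideal.span {y}) z) : IsWeaklyRegular A [x, y, z] := by
  refine ⟨fun i hi => ?_⟩
  rw [isSMulRegular_quotient_iff_mem_of_smul_mem]
  intro w hw
  rw [smul_eq_mul (α := Ideal A), Ideal.mul_top] at hw ⊢
  match i, hi with
  | 0, _ => simpa using hx w (by simpa using hw)
  | 1, _ => simpa using hy w (by simpa using hw)
  | 2, _ => simpa using hz w (by simpa using hw)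

theorem RegMod.map {B : Type u} [CommRing B] [Algebra A B] [Module.Flat A B] {I : Ideal A} {f : A}
    (h : RegMod I f) : RegMod (I.map (algebraMap A B)) (algebraMap A B f) := by
  have h0 : IsSMulRegular (A ⧸ I) f := by
    rw [isSMulRegular_quotient_iff_mem_of_smul_mem]
    exact fun x hx => h x hx
  have h1 : IsSMulRegular (TensorProduct A B (A ⧸ I)) (algebraMap A B f) :=
    h0.of_flat_of_isBaseChange (TensorProduct.isBaseChange A (A ⧸ I) B)
  have h2 : IsSMulRegular (TensorProduct A B (A ⧸ I)) f := fun u v huv =>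
    h1 (by simpa only [algebraMap_smul] using huv)
  intro w hw
  let e := TensorProduct.quotTensorEquivQuotSMul (R := A) B I
  let e' : TensorProduct A B (A ⧸ I) ≃ₗ[A] B ⧸ I • (⊤ : Submodule A B) :=
    (TensorProduct.comm A B (A ⧸ I)).trans e
  have h3 : IsSMulRegular (B ⧸ I • (⊤ : Submodule A B)) f := fun u v huv =>
    e'.symm.injective (h2 (by simpa only [map_smul] using congrArg e'.symm huv))
  rw [isSMulRegular_quotient_iff_mem_of_smul_mem] at h3
  have key : ∀ b : B, b ∈ I • (⊤ : Submodule A B) ↔ b ∈ I.map (algebraMap A B) := fun b => by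
    rw [Ideal.smul_top_eq_map]; rfl
  exact (key w).mp (h3 w ((key _).mpr (by rwa [Algebra.smul_def])))

/-- A triple in the maximal ideal, regular modulo every power of `J`. -/
theorem exists_triple_pow [IsNoetherianRing A] [IsLocalRing A] (J : Ideal A) [IsLocalRing (A ⧸ J)]
    (hd : (3 : ℕ∞) ≤ LocCoh.depth (A ⧸ J) (A ⧸ J))
    (hgr : ∀ n : ℕ, Module.Free (A ⧸ J) (↥(J ^ n) ⧸ (J • (⊤ : Submodule A ↥(J ^ n))))) :
    ∃ x y z : A, x ∈ maximalIdeal A ∧ y ∈ maximalIdeal A ∧ z ∈ maximalIdeal A ∧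
      ∀ n, RegMod (J ^ n) x ∧ RegMod (J ^ n ⊔ Ideal.span {x}) y ∧
        RegMod (J ^ n ⊔ (Ideal.span {x} ⊔ Ideal.span {y})) z := by
  obtain ⟨x', y', z', hx', hy', hz', hreg⟩ := exists_triple hd
  obtain ⟨h1, h2, h3⟩ := regMod_triple hreg
  obtain ⟨x, rfl⟩ := Ideal.Quotient.mk_surjective x'
  obtain ⟨y, rfl⟩ := Ideal.Quotient.mk_surjective y'
  obtain ⟨z, rfl⟩ := Ideal.Quotient.mk_surjective z'
  have hm : ∀ {a : A}, Ideal.Quotient.mk J a ∈ maximalIdeal (A ⧸ J) → a ∈ maximalIdeal A :=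
    fun {a} ha => fun hu => ha (hu.map _)
  have pull : ∀ (I : Ideal A) (f : A), RegMod (I.map (Ideal.Quotient.mk J)) (Ideal.Quotient.mk J f) →
      RegMod (J ⊔ I) f := fun I f h a ha => by
    rw [sup_comm, ← Ideal.mem_quotient_iff_mem_sup] at ha ⊢
    exact h _ (by rwa [← map_mul])
  refine ⟨x, y, z, hm hx', hm hy', hm hz', fun n => regMod_triple_pow J hgr ?_ ?_ ?_ n⟩
  · simpa using pull ⊥ x (by simpa using h1)
  · exact pull _ y (by simpa [Ideal.map_span] using h2)
  · exact pull _ z (by simpa [Ideal.map_sup, Ideal.map_span] using h3)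

theorem three_le_depth_of_gr_free [IsNoetherianRing A] [IsLocalRing A] (J : Ideal A) (hJ : J ≠ ⊤)
    [IsLocalRing (A ⧸ J)] (hd : (3 : ℕ∞) ≤ LocCoh.depth (A ⧸ J) (A ⧸ J))
    (hgr : ∀ n : ℕ, Module.Free (A ⧸ J) (↥(J ^ n) ⧸ (J • (⊤ : Submodule A ↥(J ^ n))))) :
    (3 : ℕ∞) ≤ LocCoh.depth A A := by
  obtain ⟨x, y, z, hx, hy, hz, h⟩ := exists_triple_pow J hd hgr
  have hjac : J ≤ Ideal.jacobson ⊥ :=
    (le_maximalIdeal hJ).trans (IsLocalRing.maximalIdeal_le_jacobson _)
  refine ((Lib.Depth.Basic.le_idealDepth_iff (I := maximalIdeal A) (M := A) 3).mpr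
    (Or.inr ⟨[x, y, z], rfl, by
      intro r hr
      simp only [List.mem_cons, List.not_mem_nil, or_false] at hr
      rcases hr with rfl | rfl | rfl <;> assumption, ?_⟩) :)
  exact isWeaklyRegular_of_regMod (regMod_of_forall hjac fun n => by simpa using (h n).1)
    (regMod_of_forall hjac fun n => (h n).2.1) (regMod_of_forall hjac fun n => (h n).2.2)

/-- Purity along an ideal with free associated graded ring. -/
theorem purityHolds_of_gr_free [IsNoetherianRing A] [IsLocalRing A] (J : Ideal A) (hJ : J ≠ ⊤)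
    [IsLocalRing (A ⧸ J)] (hd : (3 : ℕ∞) ≤ LocCoh.depth (A ⧸ J) (A ⧸ J))
    (hgr : ∀ n : ℕ, Module.Free (A ⧸ J) (↥(J ^ n) ⧸ (J • (⊤ : Submodule A ↥(J ^ n)))))
    (h0 : FEt.PurityHolds (A ⧸ J)) : FEt.PurityHolds A := by
  have hA := three_le_depth_of_gr_free J hJ hd hgr
  obtain ⟨x, y, z, hxm, hym, _, hreg⟩ := exists_triple_pow J hd hgr
  refine ⟨fun V => ?_⟩
  let U := FEt.puncturedSpec A
  let qA : Spec (CommRingCat.of (A ⧸ J)) ⟶ Spec (CommRingCat.of A) :=
    Spec.map (CommRingCat.ofHom (Ideal.Quotient.mk J))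
  -- extension over the closed subscheme
  let U₀ := FEt.puncturedSpec (A ⧸ J)
  have hloc : IsLocalHom (Ideal.Quotient.mk J) := IsLocalRing.surjective_units_map_of_local_ringHom
    (Ideal.Quotient.mk J) Ideal.Quotient.mk_surjective |> fun _ =>
      IsLocalHom.of_surjective _ Ideal.Quotient.mk_surjective
  have hcl : ∀ w : Spec (CommRingCat.of (A ⧸ J)), qA.base w ∈ U ↔ w ∈ U₀ := fun w => by
    refine not_congr ⟨fun h => ?_, fun h => ?_⟩
    · exact PrimeSpectrum.comap_injective_of_surjective _ Ideal.Quotient.mk_surjective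
        (h.trans (IsLocalRing.comap_closedPoint (Ideal.Quotient.mk J)).symm)
    · rw [show (w : PrimeSpectrum (A ⧸ J)) = closedPoint (A ⧸ J) from h]
      exact IsLocalRing.comap_closedPoint (Ideal.Quotient.mk J)
  let s₀ : (U₀ : Scheme.{u}) ⟶ (U : Scheme.{u}) :=
    liftOpen U (U₀.ι ≫ qA) fun w => (hcl _).mpr w.2
  have hs₀ : s₀ ≫ U.ι = U₀.ι ≫ qA := liftOpen_ι _ _ _
  obtain ⟨Y₀, ⟨eY⟩⟩ := h0.mem_essImage ((FEt.restrict s₀).obj V)
  let r₀ : pullback U.ι qA ⟶ (U₀ : Scheme.{u}) := liftOpen U₀ (pullback.snd U.ι qA) fun w => by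
    rw [← hcl, ← Scheme.Hom.comp_apply, ← pullback.condition, Scheme.Hom.comp_apply]
    exact ((pullback.fst U.ι qA).base w).2
  have hr₀ : r₀ ≫ U₀.ι = pullback.snd U.ι qA := liftOpen_ι _ _ _
  have hr₀' : r₀ ≫ s₀ = pullback.fst U.ι qA := by
    rw [← cancel_mono U.ι, Category.assoc, hs₀, ← Category.assoc, hr₀, pullback.condition]
  let e₀ : (FEt.restrict (pullback.snd U.ι qA)).obj Y₀ ≅
      (FEt.restrict (pullback.fst U.ι qA)).obj V :=
    eqToIso (by rw [hr₀]) ≪≫ (UnivHomeo.restrictComp r₀ U₀.ι).app Y₀ ≪≫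
      (FEt.restrict r₀).mapIso eY ≪≫ ((UnivHomeo.restrictComp r₀ s₀).app V).symm ≪≫
      eqToIso (by rw [hr₀'])
  -- the completion
  let A' := AdicCompletion (maximalIdeal A) A
  have := Extend.faithfullyFlat_completion A
  let φ : A →+* A' := algebraMap A A'
  have : IsAdicComplete (maximalIdeal A') A' :=
    AdicCompletion.isAdicComplete_of_fg (maximalIdeal A).fg_of_isNoetherianRing
  have : HenselianLocalRing A' := henselianLocalRing_of_complete A'
  let J' := J.map φ
  have hφm : ∀ {a : A}, a ∈ maximalIdeal A → φ a ∈ maximalIdeal A' := fun ha => by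
    rw [AdicCompletion.maximalIdeal_eq_map (R := A)]
    exact Ideal.mem_map_of_mem _ ha
  have hJ'm : J' ≤ maximalIdeal A' :=
    Ideal.map_le_iff_le_comap.mpr fun a ha => hφm (le_maximalIdeal hJ ha)
  have : HenselianRing A' J' :=
    Lib.Henselian.Basic.henselianRing_of_le (J := maximalIdeal A') hJ'm
  have hreg' : ∀ m, RegMod (J' ^ m) (φ x) ∧ RegMod (J' ^ m ⊔ Ideal.span {φ x}) (φ y) := fun m => by
    refine ⟨?_, ?_⟩
    · rw [← Ideal.map_pow]; exact (hreg m).1.map
    · rw [← Ideal.map_pow, ← Set.image_singleton, ← Ideal.map_span, ← Ideal.map_sup]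
      exact (hreg m).2.1.map
  let U' := FEt.puncturedSpec A'
  obtain ⟨n, a, ha⟩ := exists_generators A'
  have mem : ∀ {w : A'}, w ∈ maximalIdeal A' → ∀ I : Ideal A',
      w ∈ (Ideal.span (Set.range a) ⊔ I).radical :=
    fun hw I => Ideal.le_radical (Submodule.mem_sup_left (ha ▸ hw))
  have hjac : J' ≤ Ideal.jacobson ⊥ := hJ'm.trans (IsLocalRing.maximalIdeal_le_jacobson _)
  have hfr : RegMod ⊥ (φ x) := regMod_bot_of_forall hjac fun m => (hreg' (m + 1)).1
  have hgr' : RegMod (⊥ ⊔ Ideal.span {φ x}) (φ y) := regMod_span_of_forall hjac fun m => (hreg' m).2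
  have hcharts : Charts a U' := ⟨⟨mem_puncturedSpec_iff ha⟩, sep_of_regMod a (mem (hφm hxm) _) hfr,
    glue_of_regMod a (mem (hφm hxm) _) (mem (hφm hym) _) hfr hgr'⟩
  let qA' : Spec (CommRingCat.of (A' ⧸ J')) ⟶ Spec (CommRingCat.of A') :=
    Spec.map (CommRingCat.ofHom (Ideal.Quotient.mk J'))
  obtain ⟨_, hg⟩ := range_fst_quotient U' (Ideal.Quotient.mk J') Ideal.Quotient.mk_surjective
  obtain ⟨_, _⟩ := full_and_faithful hcharts J'
    (lift_of_glue fun m => glue_of_regMod a (mem (hφm hxm) _) (mem (hφm hym) _) (hreg' m).1 (hreg' m).2)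
    (vanish_of_sep fun m => sep_of_regMod a (mem (hφm hxm) _) (hreg' m).1) _
    (by rw [hg, Ideal.mk_ker])
  let π : Spec (CommRingCat.of A') ⟶ Spec (CommRingCat.of A) := Spec.map (CommRingCat.ofHom φ)
  have : Flat π := (HasRingHomProperty.Spec_iff (P := @Flat)).mpr
    (RingHom.flat_algebraMap_iff.mpr inferInstance)
  have : Surjective π := ⟨PrimeSpectrum.comap_surjective_of_faithfullyFlat (A := A) (B := A')⟩
  let θ : Spec (CommRingCat.of (A' ⧸ J')) ⟶ Spec (CommRingCat.of (A ⧸ J)) :=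
    Spec.map (CommRingCat.ofHom (Ideal.quotientMap J' φ Ideal.le_comap_map))
  have hθ : θ ≫ qA = qA' ≫ π := by
    rw [← Spec.map_comp, ← Spec.map_comp]
    rfl
  have hmem : ∀ w : Spec (CommRingCat.of A'), w ∈ U' ↔ π.base w ∈ U := fun w => by
    refine not_congr ⟨fun h => ?_, fun h => ?_⟩
    · rw [show (w : PrimeSpectrum A') = closedPoint A' from h]
      exact PrimeSpectrum.ext (IsLocalRing.maximalIdeal_comap φ)
    · refine PrimeSpectrum.ext ((le_maximalIdeal (w : PrimeSpectrum A').2.ne_top).antisymm ?_)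
      refine (AdicCompletion.maximalIdeal_eq_map (R := A)).le.trans ?_
      rw [Ideal.map_le_iff_le_comap]
      exact (congrArg PrimeSpectrum.asIdeal h).ge
  let s : (U' : Scheme.{u}) ⟶ (U : Scheme.{u}) :=
    liftOpen U (U'.ι ≫ π) fun w => (hmem _).mp w.2
  have hs : s ≫ U.ι = U'.ι ≫ π := liftOpen_ι _ _ _
  have := Lib.FEt.HenselianPair.essSurj J'
  obtain ⟨Z, ⟨eZ⟩⟩ := this.mem_essImage ((FEt.restrict θ).obj Y₀)
  let V' := (FEt.restrict s).obj V
  let t : pullback U'.ι qA' ⟶ pullback U.ι qA :=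
    pullback.lift (pullback.fst _ _ ≫ s) (pullback.snd _ _ ≫ θ) (by
      rw [Category.assoc, hs, Category.assoc, hθ, pullback.condition_assoc])
  let e₁ : (FEt.restrict U'.ι).obj Z ≅ V' := (FEt.restrict (pullback.fst U'.ι qA')).preimageIso
    (restrictSquare _ U'.ι (pullback.snd U'.ι qA') qA' pullback.condition Z ≪≫
      (FEt.restrict (pullback.snd U'.ι qA')).mapIso eZ ≪≫
      restrictSquare _ θ t (pullback.snd U.ι qA) (pullback.lift_snd _ _ _).symm Y₀ ≪≫
      (FEt.restrict t).mapIso e₀ ≪≫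
      restrictSquare _ _ (pullback.fst U'.ι qA') s (pullback.lift_fst _ _ _) V)
  -- descend
  have hext : Extend.Ext V.hom U.ι π := by
    refine Extend.Ext.of_iso U.ι π V Z ?_
    let r : pullback U.ι π ⟶ (U' : Scheme.{u}) := liftOpen U' (pullback.snd U.ι π) fun w => by
      rw [hmem, ← Scheme.Hom.comp_apply, ← pullback.condition, Scheme.Hom.comp_apply]
      exact ((pullback.fst U.ι π).base w).2
    have hr : r ≫ U'.ι = pullback.snd U.ι π := liftOpen_ι _ _ _
    have hr' : r ≫ s = pullback.fst U.ι π := by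
      rw [← cancel_mono U.ι, Category.assoc, hs, ← Category.assoc, hr, pullback.condition]
    exact eqToIso (by rw [hr]) ≪≫ (UnivHomeo.restrictComp r U'.ι).app Z ≪≫
      (FEt.restrict r).mapIso e₁ ≪≫ ((UnivHomeo.restrictComp r s).app V).symm ≪≫
      eqToIso (by rw [hr'])
  have : CompactSpace ↥(U : Scheme.{u}) := isCompact_iff_compactSpace.mp
    (TopologicalSpace.NoetherianSpace.isCompact (α := PrimeSpectrum A) _)
  have hι : IsIso U.ι.appTop := by
    have h2 := Lib.FEt.DepthTwo.isIso_restriction_punctured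
      (le_trans (by norm_num) hA) (𝟙 (Spec (CommRingCat.of A)))
    have gen : ∀ (O : (Spec (CommRingCat.of A)).Opens) (h : O ≤ ⊤), O = U →
        IsIso ((Spec (CommRingCat.of A)).presheaf.map (homOfLE h).op) := by
      intro O h he; subst he; exact h2
    rw [Scheme.Opens.ι_appTop]
    exact gen _ _ U.ι_image_top
  obtain ⟨Y, w, j, hw, hp⟩ := Extend.ext_id_of_flat U.ι hι V.hom V.prop π hext
  exact ⟨MorphismProperty.Over.mk ⊤ w hw, UnivHomeo.nonempty_iso_of_isPullback U.ι V _ j hp⟩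

end

end Groth.Agent.H80.Clopen
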