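import Mathlib.RingTheory.Flat.Basic
import Mathlib.RingTheory.TensorProduct.Quotient
import Mathlib.LinearAlgebra.TensorProduct.Quotient
import Mathlib.RingTheory.LocalRing.ResidueField.Basic
import Mathlib.LinearAlgebra.FreeModule.Basic
import Mathlib.LinearAlgebra.Dimension.Free
import Mathlib.Algebra.Module.Torsion.Basic
import Mathlib.LinearAlgebra.Basis.VectorSpace

/-!
# The ideal of the closed fibre of a flat local algebra has free associated graded ring
-/

set_option autoImplicit false

universe u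

open TensorProduct

namespace Groth.Agent.H80.Clopen

variable {A B : Type u} [CommRing A] [CommRing B] [Algebra A B] [Module.Flat A B]

/-- For a flat algebra, the extended ideal is the base change of the ideal. -/
noncomputable def tensorIdealEquiv (K : Ideal A) : B ⊗[A] ↥K ≃ₗ[B] ↥(K.map (algebraMap A B)) := by
  let f : B ⊗[A] ↥K →ₗ[B] B :=
    LinearMap.liftBaseChange B ((Algebra.linearMap A B).comp K.subtype)
  refine (LinearEquiv.ofInjective f ?_).trans (LinearEquiv.ofEq _ _ ?_)
  · have he : ∀ t, f t = AlgebraTensorModule.rid A A B (K.subtype.lTensor B t) := fun t => by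
      induction t with
      | zero => simp
      | tmul b k => simp [f, Algebra.smul_def, mul_comm]
      | add x y hx hy => simp only [map_add, hx, hy]
    intro x y hxy
    rw [he, he] at hxy
    exact Module.Flat.lTensor_preserves_injective_linearMap K.subtype Subtype.val_injective
      ((AlgebraTensorModule.rid A A B).injective hxy)
  · rw [LinearMap.range_liftBaseChange, LinearMap.coe_range, LinearMap.coe_comp, Set.range_comp,
      Submodule.coe_subtype, Subtype.range_coe_subtype]
    rfl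

variable [IsLocalRing A]

theorem free_gr_fibre (n : ℕ) :
    Module.Free (B ⧸ (IsLocalRing.maximalIdeal A).map (algebraMap A B))
      (↥(((IsLocalRing.maximalIdeal A).map (algebraMap A B)) ^ n) ⧸
        (((IsLocalRing.maximalIdeal A).map (algebraMap A B)) • (⊤ : Submodule B
          ↥(((IsLocalRing.maximalIdeal A).map (algebraMap A B)) ^ n)))) := by
  let J := (IsLocalRing.maximalIdeal A).map (algebraMap A B)
  let M := ↥(IsLocalRing.maximalIdeal A ^ n)
  let k := IsLocalRing.ResidueField A
  let : Algebra k (B ⧸ J) := (Ideal.quotientMap J (algebraMap A B) Ideal.le_comap_map).toAlgebra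
  have : IsScalarTower A k (B ⧸ J) := IsScalarTower.of_algebraMap_eq fun _ => rfl
  have hfree : Module.Free (B ⧸ J) ((B ⧸ J) ⊗[k] (k ⊗[A] M)) := inferInstance
  let e₁ : (B ⧸ J) ⊗[k] (k ⊗[A] M) ≃ₗ[B ⧸ J] (B ⧸ J) ⊗[A] M :=
    AlgebraTensorModule.cancelBaseChange A k (B ⧸ J) (B ⧸ J) M
  let e₂ : (B ⧸ J) ⊗[A] M ≃ₗ[B ⧸ J] (B ⧸ J) ⊗[B] (B ⊗[A] M) :=
    (AlgebraTensorModule.cancelBaseChange A B (B ⧸ J) (B ⧸ J) M).symm
  let t : B ⊗[A] M ≃ₗ[B] ↥(J ^ n) :=
    (tensorIdealEquiv _).trans (LinearEquiv.ofEq _ _ (Ideal.map_pow _ _ _))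
  let e₃ : (B ⧸ J) ⊗[B] (B ⊗[A] M) ≃ₗ[B] ↥(J ^ n) ⧸ (J • (⊤ : Submodule B ↥(J ^ n))) :=
    (TensorProduct.congr (LinearEquiv.refl B (B ⧸ J)) t).trans
      (TensorProduct.quotTensorEquivQuotSMul ↥(J ^ n) J)
  exact Module.Free.of_equiv (e₁.trans (e₂.trans
    (e₃.extendScalarsOfSurjective Ideal.Quotient.mk_surjective)))

end Groth.Agent.H80.Clopen
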