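import Groth.Agent.H80.Clopen.LineLift

/-!
# Vanishing of `H¹` of the graded pieces
-/

set_option autoImplicit false

universe u

open IsLocalRing

namespace Groth.Agent.H80.Clopen

variable {A : Type u} [CommRing A] {ι : Type} [Finite ι] {a : ι → A}

theorem grH1_of_h1Zero [IsNoetherianRing A] (J : Ideal A)
    (hgr : ∀ n : ℕ, Module.Free (A ⧸ J) (↥(J ^ n) ⧸ (J • (⊤ : Submodule A ↥(J ^ n)))))
    (h : H1Zero fun i => Ideal.Quotient.mk J (a i)) : GrH1 a J := by
  intro n S u hu hanti hcoc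
  have := hgr n
  have : Module.Finite A ↥(J ^ n) := Module.Finite.iff_fg.mpr (IsNoetherian.noetherian _)
  have : Module.Finite (A ⧸ J) (↥(J ^ n) ⧸ (J • (⊤ : Submodule A ↥(J ^ n)))) :=
    Module.Finite.of_restrictScalars_finite A _ _
  classical
  let β := Module.Free.chooseBasis (A ⧸ J) (↥(J ^ n) ⧸ (J • (⊤ : Submodule A ↥(J ^ n))))
  let μ : ↥(J ^ n) → Module.Free.ChooseBasisIndex (A ⧸ J)
      (↥(J ^ n) ⧸ (J • (⊤ : Submodule A ↥(J ^ n)))) → (A ⧸ J) :=
    fun r t => β.repr ((J • (⊤ : Submodule A ↥(J ^ n))).mkQ r) t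
  have hμadd : ∀ r s t, μ (r + s) t = μ r t + μ s t := fun r s t => by simp [μ]
  have hμsmul : ∀ (c : A) r t, μ (c • r) t = Ideal.Quotient.mk J c * μ r t := fun c r t => by
    simp only [μ, map_smul]
    rw [← IsScalarTower.algebraMap_smul (A ⧸ J) c, map_smul, Finsupp.smul_apply, smul_eq_mul,
      Ideal.Quotient.algebraMap_eq]
  have hμzero : ∀ r, (∀ t, μ r t = 0) ↔ (r : A) ∈ J ^ (n + 1) := fun r => by
    have h1 : (∀ t, μ r t = 0) ↔ (J • (⊤ : Submodule A ↥(J ^ n))).mkQ r = 0 := by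
      refine ⟨fun h => β.repr.injective (Finsupp.ext fun t => ?_), fun h t => by simp only [μ]; rw [h]; simp⟩
      rw [map_zero]; exact h t
    rw [h1, Submodule.mkQ_apply, Submodule.Quotient.mk_eq_zero, Submodule.mem_smul_top_iff, pow_succ']
    rfl
  let U : ι → ι → ↥(J ^ n) := fun i j => ⟨u i j, hu i j⟩
  have hsolve : ∀ t, ∃ (l : ℕ) (w : ι → A ⧸ J), ∀ i j,
      (Ideal.Quotient.mk J (a i) * Ideal.Quotient.mk J (a j)) ^ l * μ (U i j) t =
        Ideal.Quotient.mk J (a j) ^ (S + l) * w i - Ideal.Quotient.mk J (a i) ^ (S + l) * w j := by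
    intro t
    refine h S (fun i j => μ (U i j) t) (fun i j => ?_) fun i j r => ?_
    · change μ (U i j) t + μ (U j i) t = 0
      rw [← hμadd]
      exact (hμzero _).mpr (hanti i j) t
    · have h1 := (hμzero (a r ^ S • U i j + (-(a j ^ S)) • U i r + a i ^ S • U j r)).mpr (by
        simpa [U, sub_eq_add_neg] using hcoc i j r) t
      rw [hμadd, hμadd, hμsmul, hμsmul, hμsmul, map_neg, map_pow, map_pow, map_pow] at h1
      change _ * μ (U i j) t - _ * μ (U i r) t + _ * μ (U j r) t = 0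
      linear_combination h1
  choose l w hw using hsolve
  have := Fintype.ofFinite (Module.Free.ChooseBasisIndex (A ⧸ J)
    (↥(J ^ n) ⧸ (J • (⊤ : Submodule A ↥(J ^ n)))))
  let L := Finset.univ.sup l
  have hl : ∀ t, l t ≤ L := fun t => Finset.le_sup (Finset.mem_univ t)
  let W' : ι → Module.Free.ChooseBasisIndex (A ⧸ J)
      (↥(J ^ n) ⧸ (J • (⊤ : Submodule A ↥(J ^ n)))) → (A ⧸ J) :=
    fun i t => Ideal.Quotient.mk J (a i) ^ (L - l t) * w t i
  have hlift : ∀ i, ∃ r : ↥(J ^ n), ∀ t, μ r t = W' i t := fun i => by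
    obtain ⟨r, hr⟩ := Submodule.mkQ_surjective (J • (⊤ : Submodule A ↥(J ^ n)))
      (β.repr.symm (Finsupp.equivFunOnFinite.symm (W' i)))
    exact ⟨r, fun t => by simp only [μ]; rw [hr, LinearEquiv.apply_symm_apply]; rfl⟩
  choose W hW using hlift
  refine ⟨L, fun i => (W i : A), fun i => (W i).2, fun i j => ?_⟩
  refine (hμzero ((a i * a j) ^ L • U i j +
    ((-(a j ^ (S + L))) • W i + a i ^ (S + L) • W j))).mp (fun t => ?_) |> fun h => by
      simpa [U, sub_eq_add_neg, add_comm, add_left_comm, add_assoc] using h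
  rw [hμadd, hμadd, hμsmul, hμsmul, hμsmul, hW, hW]
  simp only [W', map_neg, map_pow, map_mul]
  obtain ⟨d, hd⟩ := Nat.exists_eq_add_of_le (hl t)
  rw [hd, Nat.add_sub_cancel_left]
  linear_combination (Ideal.Quotient.mk J (a i) ^ d * Ideal.Quotient.mk J (a j) ^ d) * hw t i j

/-- The numerical hypotheses on the punctured spectrum along `J`. -/
theorem exists_setup [IsNoetherianRing A] [IsLocalRing A] (J : Ideal A) (hJ : J ≠ ⊤)
    [IsLocalRing (A ⧸ J)] (hd : (3 : ℕ∞) ≤ LocCoh.depth (A ⧸ J) (A ⧸ J))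
    (hgr : ∀ n : ℕ, Module.Free (A ⧸ J) (↥(J ^ n) ⧸ (J • (⊤ : Submodule A ↥(J ^ n)))))
    (a : ι → A) (ha : maximalIdeal A ≤ (Ideal.span (Set.range a)).radical) :
    Sep a A ⊥ ∧ Glue a A ⊥ ∧ (∀ n, Sep a A (J ^ n)) ∧ (∀ n, Glue a A (J ^ n)) ∧ GrH1 a J := by
  obtain ⟨x, y, z, hx, hy, hz, h⟩ := exists_triple_pow J hd hgr
  have mem : ∀ {w : A}, w ∈ maximalIdeal A → ∀ I : Ideal A,
      w ∈ (Ideal.span (Set.range a) ⊔ I).radical :=
    fun hw I => Ideal.radical_mono le_sup_left (ha hw)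
  have hjac : J ≤ Ideal.jacobson ⊥ :=
    (le_maximalIdeal hJ).trans (IsLocalRing.maximalIdeal_le_jacobson _)
  have hx0 : RegMod ⊥ x := regMod_bot_of_forall hjac fun m => (h (m + 1)).1
  have hy0 : RegMod (⊥ ⊔ Ideal.span {x}) y := regMod_span_of_forall hjac fun m => (h m).2.1
  refine ⟨sep_of_regMod a (mem hx _) hx0, glue_of_regMod a (mem hx _) (mem hy _) hx0 hy0,
    fun n => sep_of_regMod a (mem hx _) (h n).1,
    fun n => glue_of_regMod a (mem hx _) (mem hy _) (h n).1 (h n).2.1,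
    grH1_of_h1Zero J hgr ?_⟩
  obtain ⟨h1, h2, h3⟩ := h 1
  rw [pow_one] at h1 h2 h3
  let π := Ideal.Quotient.mk J
  have push : ∀ {I : Ideal A} {f : A}, RegMod (J ⊔ I) f → RegMod (I.map π) (π f) := fun {I f} hf w hw => by
    obtain ⟨w, rfl⟩ := Ideal.Quotient.mk_surjective w
    rw [← map_mul, Ideal.mem_quotient_iff_mem_sup, sup_comm] at hw
    rw [Ideal.mem_quotient_iff_mem_sup, sup_comm]
    exact hf w hw
  have g1 : RegMod ⊥ (π x) := by simpa using push (I := ⊥) (by simpa using h1)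
  have g2 : RegMod (⊥ ⊔ Ideal.span {π x}) (π y) := by
    simpa [Ideal.map_span] using push h2
  have g3 : RegMod (Ideal.span {π x} ⊔ Ideal.span {π y}) (π z) := by
    simpa [Ideal.map_sup, Ideal.map_span] using push h3
  have hrange : Ideal.span (Set.range fun i => π (a i)) = (Ideal.span (Set.range a)).map π := by
    rw [Ideal.map_span, ← Set.range_comp]; rfl
  have memq : ∀ {w : A}, w ∈ maximalIdeal A → ∀ I : Ideal (A ⧸ J),
      π w ∈ (Ideal.span (Set.range fun i => π (a i)) ⊔ I).radical := fun hw I => by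
    refine Ideal.radical_mono le_sup_left ?_
    rw [hrange]
    exact (Ideal.map_radical_le π) (Ideal.mem_map_of_mem π (ha hw))
  refine h1Zero_of_regular _ (by simpa using memq hx ⊥) g1 fun N => ?_
  exact glue_of_regMod _ (memq hy _) (memq hz _)
    (by simpa using g1.sup_pow g2 N) (regMod_pow_third g2 g3 g1 N)

end Groth.Agent.H80.Clopen
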