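import Groth.Agent.H80.Clopen.SeriesPurity
import Groth.Agent.H80.Extend.FormalCompl
import Groth.Agent.Lib.FEt.HenselianPair
import Groth.Agent.S0260
import Groth.Agent.Lib.Excellent.CompletionNoetherian

/-!
# Extension of covers from a hypersurface in depth three
-/

set_option autoImplicit false
set_option backward.isDefEq.respectTransparency false

universe u

open CategoryTheory CategoryTheory.Limits AlgebraicGeometry IsLocalRing

namespace Groth.Agent.H80.Clopen

open Groth.Agent.H80

theorem henselianLocalRing_of_complete (R : Type u) [CommRing R] [IsLocalRing R]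
    [IsAdicComplete (maximalIdeal R) R] : HenselianLocalRing R where
  is_henselian f hf a₀ h₁ h₂ :=
    HenselianRing.is_henselian (I := maximalIdeal R) f hf a₀ h₁ (h₂.map (Ideal.Quotient.mk _))

theorem exists_extension_of_hypersurface (A : Type u) [CommRing A] [IsNoetherianRing A]
    [IsLocalRing A] (hA : (3 : ℕ∞) ≤ LocCoh.depth A A) (f : A) (hf : f ∈ maximalIdeal A)
    (V : FEt.Cat (FEt.puncturedSpec A : Scheme.{u}))
    (hV : ∃ Y₀ : FEt.Cat (Spec (CommRingCat.of (A ⧸ Ideal.span {f}))),
      Nonempty ((FEt.restrict (pullback.snd (FEt.puncturedSpec A).ι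
        (Spec.map (CommRingCat.ofHom (Ideal.Quotient.mk (Ideal.span {f})))))).obj Y₀ ≅
        (FEt.restrict (pullback.fst (FEt.puncturedSpec A).ι
        (Spec.map (CommRingCat.ofHom (Ideal.Quotient.mk (Ideal.span {f})))))).obj V)) :
    ∃ Y : FEt.Cat (Spec (CommRingCat.of A)),
      Nonempty ((FEt.restrict (FEt.puncturedSpec A).ι).obj Y ≅ V) := by
  obtain ⟨Y₀, ⟨e₀⟩⟩ := hV
  let A' := AdicCompletion (maximalIdeal A) A
  have := Extend.faithfullyFlat_completion A
  let φ : A →+* A' := algebraMap A A'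
  have : IsAdicComplete (maximalIdeal A') A' :=
    AdicCompletion.isAdicComplete_of_fg (maximalIdeal A).fg_of_isNoetherianRing
  have : HenselianLocalRing A' := henselianLocalRing_of_complete A'
  have hA' : (3 : ℕ∞) ≤ LocCoh.depth A' A' := by
    refine hA.trans ((Lib.Depth.Local.idealDepth_le_baseChange (B := A') (M := A)
      (I := maximalIdeal A)).trans ?_)
    rw [Lib.Depth.Basic.idealDepth_congr _ (TensorProduct.AlgebraTensorModule.rid A A' A')]
    exact Lib.Depth.Basic.idealDepth_mono (AdicCompletion.maximalIdeal_eq_map (R := A)).ge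
      (Lib.Depth.Basic.smul_top_ne_top (M := A') (Ideal.IsPrime.ne_top' (I := maximalIdeal A')))
  let I := Ideal.span ({f} : Set A)
  let I' := Ideal.span ({φ f} : Set A')
  have hfm : φ f ∈ maximalIdeal A' := by
    rw [AdicCompletion.maximalIdeal_eq_map (R := A)]
    exact Ideal.mem_map_of_mem _ hf
  have : HenselianRing A' I' :=
    Lib.Henselian.Basic.henselianRing_of_le (J := maximalIdeal A')
      ((Ideal.span_singleton_le_iff_mem _).mpr hfm)
  let π : Spec (CommRingCat.of A') ⟶ Spec (CommRingCat.of A) := Spec.map (CommRingCat.ofHom φ)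
  have : Flat π := (HasRingHomProperty.Spec_iff (P := @Flat)).mpr
    (RingHom.flat_algebraMap_iff.mpr inferInstance)
  have : Surjective π := ⟨PrimeSpectrum.comap_surjective_of_faithfullyFlat (A := A) (B := A')⟩
  let θ : Spec (CommRingCat.of (A' ⧸ I')) ⟶ Spec (CommRingCat.of (A ⧸ I)) :=
    Spec.map (CommRingCat.ofHom (Ideal.quotientMap I' φ (Ideal.span_le.mpr
      (Set.singleton_subset_iff.mpr (show φ f ∈ I' from Ideal.subset_span rfl)))))
  let qA : Spec (CommRingCat.of (A ⧸ I)) ⟶ Spec (CommRingCat.of A) :=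
    Spec.map (CommRingCat.ofHom (Ideal.Quotient.mk I))
  let qA' : Spec (CommRingCat.of (A' ⧸ I')) ⟶ Spec (CommRingCat.of A') :=
    Spec.map (CommRingCat.ofHom (Ideal.Quotient.mk I'))
  have hθ : θ ≫ qA = qA' ≫ π := by
    rw [← Spec.map_comp, ← Spec.map_comp]
    rfl
  let U := FEt.puncturedSpec A
  let U' := FEt.puncturedSpec A'
  have hmem : ∀ x : Spec (CommRingCat.of A'), x ∈ U' ↔ π.base x ∈ U := fun x => by
    refine not_congr ⟨fun h => ?_, fun h => ?_⟩
    · rw [show (x : PrimeSpectrum A') = closedPoint A' from h]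
      exact PrimeSpectrum.ext (IsLocalRing.maximalIdeal_comap φ)
    · refine PrimeSpectrum.ext ((le_maximalIdeal (x : PrimeSpectrum A').2.ne_top).antisymm ?_)
      refine (AdicCompletion.maximalIdeal_eq_map (R := A)).le.trans ?_
      rw [Ideal.map_le_iff_le_comap]
      exact (congrArg PrimeSpectrum.asIdeal h).ge
  let s : (U' : Scheme.{u}) ⟶ (U : Scheme.{u}) :=
    liftOpen U (U'.ι ≫ π) fun x => (hmem _).mp x.2
  have hs : s ≫ U.ι = U'.ι ≫ π := liftOpen_ι _ _ _
  -- lift over the completion
  let Z₀ := (FEt.restrict θ).obj Y₀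
  have := Lib.FEt.HenselianPair.essSurj I'
  obtain ⟨Z, ⟨eZ⟩⟩ := this.mem_essImage Z₀
  let V' := (FEt.restrict s).obj V
  obtain ⟨_, _⟩ := Groth.Agent.S0260.result A' hA' (φ f) hfm
  let P' := pullback U'.ι qA'
  let t : P' ⟶ pullback U.ι qA := pullback.lift (pullback.fst _ _ ≫ s) (pullback.snd _ _ ≫ θ) (by
    rw [Category.assoc, hs, Category.assoc, hθ, pullback.condition_assoc])
  let e₁ : (FEt.restrict U'.ι).obj Z ≅ V' := (FEt.restrict (pullback.fst U'.ι qA')).preimageIso
    (restrictSquare _ U'.ι (pullback.snd U'.ι qA') qA' pullback.condition Z ≪≫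
      (FEt.restrict (pullback.snd U'.ι qA')).mapIso eZ ≪≫
      restrictSquare _ θ t (pullback.snd U.ι qA) (pullback.lift_snd _ _ _).symm Y₀ ≪≫
      (FEt.restrict t).mapIso e₀ ≪≫
      restrictSquare _ _ (pullback.fst U'.ι qA') s (pullback.lift_fst _ _ _) V)
  -- descend
  have hext : Extend.Ext V.hom U.ι π := by
    refine Extend.Ext.of_iso U.ι π V Z ?_
    let r : pullback U.ι π ⟶ (U' : Scheme.{u}) := liftOpen U' (pullback.snd U.ι π) fun x => by
      rw [hmem, ← Scheme.Hom.comp_apply, ← pullback.condition, Scheme.Hom.comp_apply]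
      exact ((pullback.fst U.ι π).base x).2
    have hr : r ≫ U'.ι = pullback.snd U.ι π := liftOpen_ι _ _ _
    have hr' : r ≫ s = pullback.fst U.ι π := by
      rw [← cancel_mono U.ι, Category.assoc, hs, ← Category.assoc, hr, pullback.condition]
    exact eqToIso (by rw [hr]) ≪≫ (UnivHomeo.restrictComp r U'.ι).app Z ≪≫
      (FEt.restrict r).mapIso e₁ ≪≫ ((UnivHomeo.restrictComp r s).app V).symm ≪≫
      eqToIso (by rw [hr'])
  have : CompactSpace ↥(U : Scheme.{u}) := isCompact_iff_compactSpace.mp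
    (TopologicalSpace.NoetherianSpace.isCompact (α := PrimeSpectrum A) _)
  have hι : IsIso U.ι.appTop := by
    have h2 := Lib.FEt.DepthTwo.isIso_restriction_punctured
      (le_trans (by norm_num) hA) (𝟙 (Spec (CommRingCat.of A)))
    have gen : ∀ (O : (Spec (CommRingCat.of A)).Opens) (h : O ≤ ⊤), O = U →
        IsIso ((Spec (CommRingCat.of A)).presheaf.map (homOfLE h).op) := by
      intro O h he; subst he; exact h2
    rw [Scheme.Opens.ι_appTop]
    exact gen _ _ U.ι_image_top
  obtain ⟨Y, y, j, hy, hp⟩ := Extend.ext_id_of_flat U.ι hι V.hom V.prop π hext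
  exact ⟨MorphismProperty.Over.mk ⊤ y hy, UnivHomeo.nonempty_iso_of_isPullback U.ι V _ j hp⟩

end Groth.Agent.H80.Clopen
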