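import Groth.Agent.H80.Clopen.Basic
import Groth.Agent.Lib.Henselian.Pair
import Mathlib.RingTheory.Localization.Away.Basic
import Mathlib.RingTheory.Spectrum.Prime.Topology

/-!
# Clopen subsets of the formal neighbourhood come from idempotents
-/

set_option autoImplicit false

open scoped Pointwise

namespace Groth.Agent.H80.Clopen

variable {B : Type*} [CommRing B] {ι : Type*} (a : ι → B) (M : Type*) [CommRing M] [Algebra B M]

/-- The points of the closed subscheme `V(I)` on the `i`-th chart. -/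
def chartSet (I : Ideal B) (i : ι) : Set (PrimeSpectrum M) :=
  {p | algebraMap B M (a i) ∉ p.asIdeal ∧ I.map (algebraMap B M) ≤ p.asIdeal}

/-- The quotient of the `i`-th chart by `I`. -/
abbrev ChartRing (I : Ideal B) (i : ι) : Type _ :=
  Localization.Away (Ideal.Quotient.mk (I.map (algebraMap B M)) (algebraMap B M (a i)))

/-- The map to the chart ring. -/
noncomputable def chartHom (I : Ideal B) (i : ι) : M →+* ChartRing a M I i :=
  (algebraMap (M ⧸ I.map (algebraMap B M)) (ChartRing a M I i)).comp (Ideal.Quotient.mk _)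

variable {a M}

theorem range_chartHom (I : Ideal B) (i : ι) :
    Set.range (PrimeSpectrum.comap (chartHom a M I i)) = chartSet a M I i := by
  rw [chartHom, PrimeSpectrum.comap_comp, Set.range_comp,
    PrimeSpectrum.localization_away_comap_range (ChartRing a M I i)
      (Ideal.Quotient.mk _ (algebraMap B M (a i)))]
  ext p
  constructor
  · rintro ⟨q, hq, rfl⟩
    exact ⟨hq, Ideal.mk_ker.symm.trans_le (Ideal.comap_mono bot_le)⟩
  · rintro ⟨h1, h2⟩
    obtain ⟨q, rfl⟩ : p ∈ Set.range (PrimeSpectrum.comap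
        (Ideal.Quotient.mk (I.map (algebraMap B M)))) := by
      rw [range_comap_of_surjective _ _ Ideal.Quotient.mk_surjective, Ideal.mk_ker]
      exact h2
    exact ⟨q, h1, rfl⟩

theorem mem_smul_top_iff {I : Ideal B} {x : M} :
    x ∈ I • (⊤ : Submodule B M) ↔ x ∈ I.map (algebraMap B M) := by
  rw [Ideal.smul_top_eq_map]; rfl

theorem exists_of_chartHom_eq_zero {I : Ideal B} {i : ι} {x : M} (h : chartHom a M I i x = 0) :
    ∃ l, a i ^ l • x ∈ I • (⊤ : Submodule B M) := by
  obtain ⟨l, hl⟩ := IsLocalization.Away.exists_of_eq (S := ChartRing a M I i)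
    (Ideal.Quotient.mk (I.map (algebraMap B M)) (algebraMap B M (a i)))
    (a := Ideal.Quotient.mk _ x) (b := 0) (h.trans (map_zero _).symm)
  refine ⟨l, mem_smul_top_iff.mpr ?_⟩
  rw [Algebra.smul_def, ← Ideal.Quotient.eq_zero_iff_mem, map_mul, map_pow, map_pow, hl, mul_zero]

/-- A relatively clopen subset of a chart of `V(I)` is cut out by a numerator. -/
theorem exists_numerator (I : Ideal B) (i : ι) {C : Set (PrimeSpectrum M)}
    (hC : IsClopen ((↑) ⁻¹' C : Set (chartSet a M I i))) :
    ∃ (k : ℕ) (m : M), (∀ k' ≥ k, ∃ l, a i ^ l • ((a i ^ (k' - k) • m) * (a i ^ (k' - k) • m) -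
        a i ^ k' • (a i ^ (k' - k) • m)) ∈ I • (⊤ : Submodule B M)) ∧
      ∀ p ∈ chartSet a M I i, p ∈ C ↔ m ∉ p.asIdeal := by
  let h := chartHom a M I i
  have hmem : ∀ r, PrimeSpectrum.comap h r ∈ chartSet a M I i := fun r =>
    range_chartHom (a := a) (M := M) I i ▸ Set.mem_range_self r
  have hclopen : IsClopen (PrimeSpectrum.comap h ⁻¹' C) :=
    hC.preimage ((PrimeSpectrum.continuous_comap h).subtype_mk hmem)
  obtain ⟨ε, hε, hεC⟩ := PrimeSpectrum.exists_idempotent_basicOpen_eq_of_isClopen hclopen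
  obtain ⟨k, m', hm'⟩ := IsLocalization.Away.surj
    (S := ChartRing a M I i) (Ideal.Quotient.mk (I.map (algebraMap B M)) (algebraMap B M (a i))) ε
  obtain ⟨m, rfl⟩ := Ideal.Quotient.mk_surjective m'
  have hα : IsUnit (h (algebraMap B M (a i))) :=
    IsLocalization.Away.algebraMap_isUnit (S := ChartRing a M I i)
      (Ideal.Quotient.mk (I.map (algebraMap B M)) (algebraMap B M (a i)))
  have hm : h m = ε * h (algebraMap B M (a i)) ^ k := hm'.symm
  refine ⟨k, m, fun k' hk' => exists_of_chartHom_eq_zero ?_, fun p hp => ?_⟩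
  · obtain ⟨d, rfl⟩ := Nat.exists_eq_add_of_le hk'
    change h _ = 0
    simp only [Nat.add_sub_cancel_left, Algebra.smul_def, map_sub, map_mul, map_pow, hm]
    linear_combination (h (algebraMap B M (a i)) ^ (d + k)) ^ 2 * hε.eq
  · obtain ⟨r, rfl⟩ := (range_chartHom (a := a) (M := M) I i).symm ▸ hp
    refine (Set.ext_iff.mp hεC r).trans ?_
    change ε ∉ r.asIdeal ↔ h m ∉ r.asIdeal
    rw [hm, r.asIdeal.mul_unit_mem_iff_mem (hα.pow k)]

theorem eq_zero_of_forall_mem {R : Type*} [CommRing R] {d u : R} (hd : d ^ 3 = u * d) (hu : IsUnit u)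
    (h : ∀ p : PrimeSpectrum R, d ∈ p.asIdeal) : d = 0 := by
  have hn : IsNilpotent d := nilpotent_iff_mem_prime.mpr fun P hP => h ⟨P, hP⟩
  have hn' : d * (d ^ 2 + -u) = 0 := by linear_combination hd
  exact (((hn.pow_of_pos (n := 2) (by norm_num)).isUnit_add_right_of_commute hu.neg
    (Commute.all _ _)).mul_left_eq_zero).mp hn'

/-- A relatively clopen subset of `V(I)` is cut out by compatible idempotent fractions. -/
theorem exists_numerators [Finite ι] (I : Ideal B) {C : Set (PrimeSpectrum M)}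
    (hC : ∀ i, IsClopen ((↑) ⁻¹' C : Set (chartSet a M I i))) :
    ∃ (k : ℕ) (m : ι → M),
      (∀ i, ∃ l, a i ^ l • (m i * m i - a i ^ k • m i) ∈ I • (⊤ : Submodule B M)) ∧
      Compat a I k m ∧ ∀ i, ∀ p ∈ chartSet a M I i, p ∈ C ↔ m i ∉ p.asIdeal := by
  choose k m hidem hmem using fun i => exists_numerator (a := a) I i (hC i)
  have := Fintype.ofFinite ι
  let K := Finset.univ.sup k
  have hk : ∀ i, k i ≤ K := fun i => Finset.le_sup (Finset.mem_univ i)
  let m' : ι → M := fun i => a i ^ (K - k i) • m i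
  have hmem' : ∀ i, ∀ p ∈ chartSet a M I i, p ∈ C ↔ m' i ∉ p.asIdeal := fun i p hp => by
    rw [hmem i p hp]
    simp only [m', Algebra.smul_def, map_pow]
    exact not_congr (p.2.mul_mem_iff_mem_or_mem.trans
      ⟨fun h => h.resolve_left fun h' => hp.1 (p.2.mem_of_pow_mem _ h'), Or.inr⟩).symm
  refine ⟨K, m', fun i => hidem i K (hk i), fun i j => ?_, hmem'⟩
  let Q := Localization.Away
    (Ideal.Quotient.mk (I.map (algebraMap B M)) (algebraMap B M (a i * a j)))
  let h : M →+* Q := (algebraMap (M ⧸ I.map (algebraMap B M)) Q).comp (Ideal.Quotient.mk _)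
  let α : ι → Q := fun t => h (algebraMap B M (a t))
  have hu : IsUnit (α i * α j) := by
    rw [← map_mul, ← map_mul]
    exact IsLocalization.Away.algebraMap_isUnit (S := Q)
      (Ideal.Quotient.mk (I.map (algebraMap B M)) (algebraMap B M (a i * a j)))
  have hI : ∀ x ∈ I • (⊤ : Submodule B M), h x = 0 := fun x hx => by
    change algebraMap (M ⧸ I.map (algebraMap B M)) Q (Ideal.Quotient.mk _ x) = 0
    rw [Ideal.Quotient.eq_zero_iff_mem.mpr (mem_smul_top_iff.mp hx), map_zero]
  have hid : ∀ t, IsUnit (α t) → h (m' t) * h (m' t) = α t ^ K * h (m' t) := fun t ht => by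
    obtain ⟨l, hl⟩ := hidem t K (hk t)
    have : α t ^ l * (h (m' t) * h (m' t) - α t ^ K * h (m' t)) = 0 := by
      simpa [Algebra.smul_def, α, m'] using hI _ hl
    exact sub_eq_zero.mp ((ht.pow l).mul_right_eq_zero.mp this)
  have hi := isUnit_of_mul_isUnit_left hu
  have hj := isUnit_of_mul_isUnit_right hu
  have hd : h (a j ^ K • m' i - a i ^ K • m' j) = 0 := by
    simp only [Algebra.smul_def, map_sub, map_mul, map_pow]
    refine eq_zero_of_forall_mem (u := (α i ^ K * α j ^ K) ^ 2) ?_ (((hi.pow K).mul (hj.pow K)).pow 2)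
      fun r => ?_
    · linear_combination ((α j ^ K * h (m' i) + α i ^ K * α j ^ K - 3 * (α i ^ K * h (m' j))) *
        α j ^ K * α j ^ K) * hid i hi - ((α i ^ K * h (m' j) + α i ^ K * α j ^ K -
        3 * (α j ^ K * h (m' i))) * α i ^ K * α i ^ K) * hid j hj
    · let p := PrimeSpectrum.comap h r
      have hα : ∀ {t}, IsUnit (α t) → algebraMap B M (a t) ∉ p.asIdeal :=
        fun ht hm => r.2.ne_top (Ideal.eq_top_of_isUnit_mem _ hm ht)
      have hp : I.map (algebraMap B M) ≤ p.asIdeal := fun x hx => by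
        change h x ∈ r.asIdeal
        rw [hI x (mem_smul_top_iff.mpr hx)]
        exact zero_mem _
      have hiff := (hmem' i p ⟨hα hi, hp⟩).symm.trans (hmem' j p ⟨hα hj, hp⟩)
      rw [not_iff_not] at hiff
      change _ ∈ r.asIdeal
      by_cases hmi : h (m' i) ∈ r.asIdeal
      · exact sub_mem (Ideal.mul_mem_left _ _ hmi) (Ideal.mul_mem_left _ _ (hiff.mp hmi))
      · have hmj : h (m' j) ∉ r.asIdeal := fun h' => hmi (hiff.mpr h')
        have e : ∀ t, IsUnit (α t) → h (m' t) ∉ r.asIdeal → h (m' t) - α t ^ K ∈ r.asIdeal :=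
          fun t ht hmt => (r.2.mem_or_mem (show h (m' t) * (h (m' t) - α t ^ K) ∈ r.asIdeal by
            rw [show h (m' t) * (h (m' t) - α t ^ K) = 0 by linear_combination hid t ht]
            exact zero_mem _)).resolve_left hmt
        have := sub_mem (Ideal.mul_mem_left _ (α j ^ K) (e i hi hmi))
          (Ideal.mul_mem_left _ (α i ^ K) (e j hj hmj))
        convert this using 1
        simp only [α]
        ring
  obtain ⟨l, hl⟩ := IsLocalization.Away.exists_of_eq (S := Q)
    (Ideal.Quotient.mk (I.map (algebraMap B M)) (algebraMap B M (a i * a j)))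
    (a := Ideal.Quotient.mk _ (a j ^ K • m' i - a i ^ K • m' j)) (b := 0)
    (hd.trans (map_zero _).symm)
  refine ⟨l, mem_smul_top_iff.mpr ?_⟩
  rw [Algebra.smul_def, ← Ideal.Quotient.eq_zero_iff_mem, map_mul, map_pow, map_pow, hl, mul_zero]

/-- An idempotent lying in every point of the charts is zero. -/
theorem eq_zero_of_idempotent [Module.Finite B M] (J : Ideal B) [HenselianRing B J]
    (hV : Vanish a M J) {e : M} (he : IsIdempotentElem e)
    (h : ∀ i, ∀ p ∈ chartSet a M J i, e ∈ p.asIdeal) : e = 0 := by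
  obtain ⟨n, hn⟩ := hV 1
  have hnull : Null a (J ^ n) e := fun i => by
    refine exists_of_chartHom_eq_zero (IsNilpotent.eq_zero_of_isIdempotentElem
      (he.map (chartHom a M (J ^ n) i)) (nilpotent_iff_mem_prime.mpr fun P hP => ?_))
    have hp : PrimeSpectrum.comap (chartHom a M (J ^ n) i) ⟨P, hP⟩ ∈ chartSet a M (J ^ n) i :=
      range_chartHom (a := a) (M := M) (J ^ n) i ▸ Set.mem_range_self _
    refine h i _ ⟨hp.1, ?_⟩
    have := (Ideal.map_pow (algebraMap B M) J n).ge.trans hp.2
    rcases Nat.eq_zero_or_pos n with rfl | hn0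
    · rw [pow_zero, Ideal.one_eq_top, top_le_iff] at this
      exact absurd this (PrimeSpectrum.comap _ ⟨P, hP⟩).2.ne_top
    · exact ((PrimeSpectrum.comap _ ⟨P, hP⟩).2.pow_le_iff hn0.ne').mp this
  have := mem_smul_top_iff.mp (hn e hnull)
  rw [pow_one] at this
  exact Lib.Henselian.Basic.eq_zero_of_isIdempotentElem
    (Lib.Henselian.Basic.map_le_jacobson_of_isIntegral HenselianRing.jac) he this

/-- Relatively clopen subsets of the formal neighbourhood come from idempotents. -/
theorem exists_idempotent [Finite ι] [Module.Finite B M] (J : Ideal B) [HenselianRing B J]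
    (hL : Lift a M J) (hV : Vanish a M J) {C : Set (PrimeSpectrum M)}
    (hC : ∀ i, IsClopen ((↑) ⁻¹' C : Set (chartSet a M J i))) :
    ∃ e : M, IsIdempotentElem e ∧ ∀ i, ∀ p ∈ chartSet a M J i, p ∈ C ↔ e ∉ p.asIdeal := by
  obtain ⟨N, hN⟩ := hV 1
  obtain ⟨n', hn'⟩ := hL (max N 1)
  let n := max n' (max N 1)
  have hn : n ≠ 0 := by omega
  have hset : ∀ i, chartSet a M (J ^ n) i = chartSet a M J i := fun i => by
    ext p
    exact and_congr_right fun _ => by rw [Ideal.map_pow, p.2.pow_le_iff hn]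
  obtain ⟨k, m, hidem, hcompat, hmem⟩ := exists_numerators (J ^ n) (fun i => hset i ▸ hC i)
  obtain ⟨x, hx⟩ := hn' k m (hcompat.mono (Ideal.pow_le_pow_right (le_max_left _ _)))
  have hN' : J ^ n ≤ J ^ N := Ideal.pow_le_pow_right (le_max_of_le_right (le_max_left _ _))
  have hx2 : x * x - x ∈ J.map (algebraMap B M) := by
    rw [← mem_smul_top_iff]
    have := hN (x * x - x) fun i => by
      obtain ⟨l, hl⟩ := (hx.mono (Ideal.pow_le_pow_right (le_max_left N 1))) i
      obtain ⟨l', hl'⟩ := hidem i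
      refine ⟨max l l' + (k + k), ?_⟩
      have h1 := smul_pow_mem_of_le hl (le_max_left l l')
      have h2 := smul_pow_mem_of_le (Submodule.smul_mono_left hN' hl') (le_max_right l l')
      have key : a i ^ (max l l' + (k + k)) • (x * x - x) =
          (a i ^ k • x + m i - algebraMap B M (a i ^ k)) *
            (a i ^ max l l' • (a i ^ k • x - m i)) +
          a i ^ max l l' • (m i * m i - a i ^ k • m i) := by
        simp only [Algebra.smul_def, map_pow]
        ring
      rw [key]
      exact add_mem (mem_smul_top_iff.mpr (Ideal.mul_mem_left _ _ (mem_smul_top_iff.mp h1))) h2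
    rwa [pow_one] at this
  obtain ⟨e, he, hex⟩ := Lib.Henselian.Pair.exists_isIdempotentElem_lift J hx2
  refine ⟨e, he, fun i p hp => ?_⟩
  rw [hmem i p (hset i ▸ hp), not_iff_not]
  obtain ⟨l, hl⟩ := (hx.mono (Ideal.pow_le_self (show max N 1 ≠ 0 by omega))) i
  have h1 : algebraMap B M (a i) ^ k * x - m i ∈ p.asIdeal := by
    have := hp.2 (mem_smul_top_iff.mp hl)
    simp only [Algebra.smul_def, map_pow] at this
    exact (p.2.mem_or_mem this).resolve_left fun h => hp.1 (p.2.mem_of_pow_mem _ h)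
  rw [← sub_add_cancel e x, Ideal.add_mem_iff_right _ (hp.2 hex)]
  refine ⟨fun hm => (p.2.mem_or_mem (show algebraMap B M (a i) ^ k * x ∈ p.asIdeal from
    sub_add_cancel (algebraMap B M (a i) ^ k * x) (m i) ▸ add_mem h1 hm)).resolve_left
      fun h => hp.1 (p.2.mem_of_pow_mem _ h), fun hxm => ?_⟩
  have := sub_mem (Ideal.mul_mem_left _ (algebraMap B M (a i) ^ k) hxm) h1
  simpa using this

end Groth.Agent.H80.Clopen
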