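import Groth.Agent.Lib.AffineCompl.Basic
import Groth.Agent.H97.GenLocusAffine
import Groth.Agent.S7616
import Groth.Agent.Lib.FEt.DepthTwo
import Groth.Agent.Lib.FEt.FullyFaithful
import Groth.Agent.H75.RedSub
import Groth.Agent.Lib.Cyc.DimFun
import Groth.Agent.Lib.Depth.Assoc
import Mathlib.AlgebraicGeometry.ZariskisMainTheorem

/-!
# Restriction of finite etale covers to an ample divisor is fully faithful
-/

set_option autoImplicit false
set_option linter.style.haveILetI false
set_option backward.isDefEq.respectTransparency false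

universe u

open CategoryTheory CategoryTheory.Limits AlgebraicGeometry TopologicalSpace

namespace Groth.Agent.H80.LefConn

open Groth.Agent.Lib

variable {X : Scheme.{u}} {L : X.Modules}

theorem support_zeroScheme (hL : PicF.IsInvertible L) (s : Coh.structureModule X ⟶ L) :
    ((PicF2.zeroScheme L s).support : Set X) = (CohB1.genLocus L s : Set X)ᶜ := by
  ext x
  obtain ⟨F, hxF, -⟩ := H95.ZeroSch.exists_frame hL (show x ∈ (⊤ : X.Opens) from trivial)
  let a := H95.ZeroSch.coord F (H95.ZeroSch.sv s F.V.1)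
  have hD := H26.ZeroFrame.zeroScheme_ideal_eq hL s F
  have hgen := Ample.GenLocus.genLocus_inf_eq F.he s (a := a) (H95.ZeroSch.coord_smul F _).symm
  rw [SetLike.mem_coe, Scheme.IdealSheafData.mem_support_iff_of_mem hxF, hD,
    Scheme.mem_zeroLocus_iff, Set.mem_compl_iff, SetLike.mem_coe]
  constructor
  · intro h hx
    exact h a (_root_.Ideal.mem_span_singleton_self a) (hgen.le ⟨hx, hxF⟩)
  · intro h b hb hxb
    obtain ⟨c, rfl⟩ := _root_.Ideal.mem_span_singleton'.1 hb
    rw [Scheme.basicOpen_mul] at hxb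
    exact h (hgen.ge hxb.2).1

variable (k : Type u) [Field k] (f : X ⟶ Spec (CommRingCat.of k)) [IsProper f]

include f in
theorem finite_of_subset_affine {G : X.Opens} (hG : IsAffineOpen G) {C : Set X} (hC : IsClosed C)
    (hCG : C ⊆ G) : C.Finite ∧ ∀ x ∈ C, IsClosed ({x} : Set X) := by
  let I := Scheme.IdealSheafData.vanishingIdeal ⟨C, hC⟩
  let ι := I.subschemeι
  have hr : Set.range ι.base = C := by
    rw [Scheme.IdealSheafData.range_subschemeι]
    rw [Scheme.IdealSheafData.coe_support_vanishingIdeal]; rfl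
  let j : I.subscheme ⟶ (G : Scheme.{u}) := IsOpenImmersion.lift G.ι ι (by
    rw [Scheme.Opens.range_ι, hr]; exact hCG)
  have hj : j ≫ G.ι = ι := IsOpenImmersion.lift_fac _ _ _
  haveI : IsClosedImmersion (j ≫ G.ι) := by rw [hj]; infer_instance
  haveI : IsClosedImmersion j := IsClosedImmersion.of_comp j G.ι
  haveI : IsAffine (G : Scheme.{u}) := hG
  haveI : IsAffine I.subscheme := isAffine_of_isAffineHom j
  haveI : IsFinite (ι ≫ f) := IsFinite.iff_isProper_and_isAffineHom.mpr ⟨inferInstance, inferInstance⟩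
  haveI : Subsingleton ↥(Spec (CommRingCat.of k)) := inferInstance
  have hfin : (Set.univ : Set I.subscheme).Finite := by
    rcases isEmpty_or_nonempty I.subscheme with h | ⟨⟨z⟩⟩
    · simp [Set.univ_eq_empty_iff.2 h]
    · refine ((ι ≫ f).finite_preimage_singleton ((ι ≫ f).base z)).subset fun w _ => ?_
      exact Subsingleton.elim _ _
  refine ⟨?_, ?_⟩
  · have := hfin.image ι.base
    rwa [Set.image_univ, hr] at this
  intro x hx
  obtain ⟨z, rfl⟩ := hr.ge hx
  haveI : DiscreteTopology I.subscheme := by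
    have h1 := (ι ≫ f).isDiscrete_preimage_singleton ((ι ≫ f).base z)
    rw [show (ι ≫ f).base ⁻¹' {(ι ≫ f).base z} = Set.univ from
      Set.eq_univ_of_forall fun w => Subsingleton.elim _ _] at h1
    exact discreteTopology_iff_isOpen_singleton.2 fun w => by
      have := isDiscrete_univ_iff.1 h1
      exact isOpen_discrete _
  rw [← Set.image_singleton]
  exact ι.isClosedEmbedding.isClosedMap _ (isClosed_discrete _)

/-- A chain of length two of specializations gives dimension at least two. -/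
theorem two_le_dim {T : Type u} [TopologicalSpace T] [T0Space T] {a b c : T} (hab : a ⤳ b)
    (hne : a ≠ b) (hbc : b ⤳ c) (hne' : b ≠ c) : (2 : WithBot ℕ∞) ≤ topologicalKrullDim T := by
  let g : T → IrreducibleCloseds T := fun x => ⟨closure {x}, isIrreducible_singleton.closure, isClosed_closure⟩
  have hlt : ∀ x y : T, x ⤳ y → x ≠ y → g y < g x := fun x y h hne => by
    refine lt_of_le_of_ne (specializes_iff_closure_subset.1 h) fun he => hne ?_
    exact (h.antisymm (specializes_iff_closure_subset.2 (congrArg ((↑) : IrreducibleCloseds T → Set T) he).ge)).eq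
  let l : LTSeries (IrreducibleCloseds T) :=
    ((RelSeries.singleton _ (g c)).snoc (g b) (hlt b c hbc hne')).snoc (g a) (by
      simp only [RelSeries.last_snoc]; exact hlt a b hab hne)
  exact Order.le_krullDim_iff.2 ⟨l, rfl⟩

theorem exists_chain {T : Type u} [TopologicalSpace T] [T0Space T] [QuasiSober T] {x : T}
    (h : (2 : WithBot ℕ∞) ≤ topologicalKrullDim (closure ({x} : Set T))) :
    ∃ b c : T, x ⤳ b ∧ x ≠ b ∧ b ⤳ c ∧ b ≠ c := by
  obtain ⟨l, hl⟩ := Order.le_krullDim_iff.1 (show ((2 : ℕ) : WithBot ℕ∞) ≤ _ from h)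
  haveI : QuasiSober (closure ({x} : Set T)) := isClosed_closure.isClosedEmbedding_subtypeVal.quasiSober
  let gp := fun i => (l i).2.genericPoint
  have hsp : ∀ i j, i < j → gp j ⤳ gp i ∧ gp j ≠ gp i := fun i j hij => by
    have hlt := l.strictMono hij
    have h1 : gp i ∈ (l j : Set (closure ({x} : Set T))) := hlt.le (by
      have := (l i).2.isGenericPoint_genericPoint (l i).3
      exact this.mem)
    refine ⟨((l j).2.isGenericPoint_genericPoint (l j).3).specializes h1, fun he => hlt.ne ?_⟩
    refine IrreducibleCloseds.ext ?_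
    have h1 := ((l i).2.isGenericPoint_genericPoint (l i).3).def
    have h2 := ((l j).2.isGenericPoint_genericPoint (l j).3).def
    exact h1.symm.trans ((congrArg (fun z => closure ({z} : Set (closure ({x} : Set T)))) he.symm).trans h2)
  have h1 := hsp ⟨0, by omega⟩ ⟨1, by omega⟩ Nat.zero_lt_one
  have h2 := hsp ⟨1, by omega⟩ ⟨2, by omega⟩ Nat.one_lt_two
  have hx : x ⤳ (gp ⟨1, by omega⟩).1 := specializes_iff_mem_closure.2 (gp _).2
  refine ⟨(gp ⟨1, by omega⟩).1, (gp ⟨0, by omega⟩).1, hx, fun he => h2.2 (Subtype.ext ?_),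
    (subtype_specializes_iff _ _).1 h1.1, fun he => h1.2 (Subtype.ext he)⟩
  have h3 : (gp ⟨2, by omega⟩).1 ⤳ x :=
    ((subtype_specializes_iff _ _).1 h2.1).trans (specializes_of_eq he.symm)
  exact ((h3.antisymm (specializes_iff_mem_closure.2 (gp _).2)).eq).trans he

variable [IsLocallyNoetherian X] (hL : CohB1.IsAmple L) (s : Coh.structureModule X ⟶ L)

include f hL in
/-- The trace on the divisor of an integral quasi-finite scheme finite over a neighbourhood. -/
theorem isConnected_trace {V : X.Opens} (hV : ((CohB1.genLocus L s : Set X))ᶜ ⊆ V)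
    {Z : Scheme.{u}} [IsIntegral Z] (g : Z ⟶ (V : Scheme.{u})) [IsFinite g]
    (hη : V.ι.base (g.base (genericPoint Z)) ∈ CohB1.genLocus L s)
    (hdim : (2 : WithBot ℕ∞) ≤
      topologicalKrullDim (closure ({V.ι.base (g.base (genericPoint Z))} : Set X))) :
    _root_.IsConnected ((g ≫ V.ι).base ⁻¹' (CohB1.genLocus L s : Set X)ᶜ) := by
  haveI : CompactSpace X := QuasiCompact.compactSpace_of_compactSpace f
  haveI : IsNoetherian X := ⟨⟩
  haveI : QuasiCompact V.ι := inferInstance
  let h := g ≫ V.ι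
  letI : X.Over (Spec (CommRingCat.of k)) := ⟨f⟩
  letI : Z.Over (Spec (CommRingCat.of k)) := ⟨h ≫ f⟩
  haveI : h.IsOver (Spec (CommRingCat.of k)) := ⟨rfl⟩
  haveI : LocallyOfFiniteType (X ↘ Spec (CommRingCat.of k)) := inferInstanceAs (LocallyOfFiniteType f)
  haveI : LocallyOfFiniteType (Z ↘ Spec (CommRingCat.of k)) := inferInstanceAs (LocallyOfFiniteType (h ≫ f))
  haveI : IsFinite h.fromNormalization := Groth.Agent.S7616.result k X Z h
  haveI : IsOpenImmersion h.toNormalization := inferInstance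
  let N := h.normalization
  let ν := h.fromNormalization
  let τ := h.toNormalization
  have hτν : τ ≫ ν = h := h.toNormalization_fromNormalization
  haveI : IsIntegral N := inferInstance
  let e := (_root_.PicLoc.pullbackStructureIso ν).symm
  let s' := e.hom ≫ (TensorMod.Pullback.pb ν).map s
  have hgen : (CohB1.genLocus _ s' : Set N) = ν.base ⁻¹' (CohB1.genLocus L s : Set X) := by
    rw [Ample.GenLocus.genLocus_pullback ν hL.1 s e]
    rfl
  have hL' := Ample.Pullback.isAmple_pullback ν (Ample.Pullback.isQuasiAffine_of_isAffineHom ν) hL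
  let n₀ := τ.base (genericPoint Z)
  have hn₀ : ν.base n₀ = h.base (genericPoint Z) := by
    rw [← Scheme.Hom.comp_apply, hτν]
  obtain ⟨b, c, hxb, hne, hbc, hne'⟩ := exists_chain hdim
  rw [show V.ι.base (g.base (genericPoint Z)) = h.base (genericPoint Z) from rfl, ← hn₀] at hxb hne
  obtain ⟨b', hb', rfl⟩ := ν.isClosedMap.specializingMap hxb
  obtain ⟨c', hc', rfl⟩ := ν.isClosedMap.specializingMap hbc
  have hdimN : (2 : WithBot ℕ∞) ≤ topologicalKrullDim N :=
    two_le_dim hb' (fun he => hne (congrArg ν.base he)) hc' (fun he => hne' (congrArg ν.base he))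
  have hc := AffineCompl.Basic.isConnected_compl_genLocus k (ν ≫ f) hdimN hL' s'
    ⟨n₀, hgen.ge (Set.mem_preimage.2 (hn₀.symm ▸ hη))⟩
  rw [hgen, ← Set.preimage_compl] at hc
  -- points of `N` over `V` come from `Z`
  have hrange : ν.base ⁻¹' (CohB1.genLocus L s : Set X)ᶜ ⊆ Set.range τ.base := by
    let P : N.Opens := ν ⁻¹ᵁ V
    let t : Z ⟶ (P : Scheme.{u}) := IsOpenImmersion.lift P.ι τ (by
      rw [Scheme.Opens.range_ι]; rintro _ ⟨z, rfl⟩
      show ν.base (τ.base z) ∈ V
      rw [← Scheme.Hom.comp_apply, hτν]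
      exact (g.base z).2)
    have ht : t ≫ P.ι = τ := IsOpenImmersion.lift_fac _ _ _
    have ht2 : t ≫ (ν ∣_ V) = g := by
      rw [← cancel_mono V.ι, Category.assoc, morphismRestrict_ι, reassoc_of% ht, hτν]
    haveI : IsFinite (ν ∣_ V) := MorphismProperty.of_isPullback (isPullback_morphismRestrict ν V).flip inferInstance
    haveI : IsFinite (t ≫ (ν ∣_ V)) := by rw [ht2]; infer_instance
    haveI : IsFinite t := IsFinite.of_comp t (ν ∣_ V)
    haveI : IsOpenImmersion (t ≫ P.ι) := by rw [ht]; infer_instance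
    haveI : IsOpenImmersion t := IsOpenImmersion.of_comp t P.ι
    haveI : PreconnectedSpace ↥(P : Scheme.{u}) :=
      Subtype.preconnectedSpace ((IrreducibleSpace.isIrreducible_univ N).isPreirreducible.open_subset
        P.2 (Set.subset_univ _)).isPreconnected
    have huniv : Set.range t.base = Set.univ :=
      IsClopen.eq_univ ⟨t.isClosedMap.isClosed_range, t.isOpenEmbedding.isOpen_range⟩ ⟨_, genericPoint Z, rfl⟩
    intro n hn
    obtain ⟨z, hz⟩ : (⟨n, hV hn⟩ : P) ∈ Set.range t.base := huniv.ge trivial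
    exact ⟨z, by rw [← ht, Scheme.Hom.comp_apply, hz]; rfl⟩
  have himg : τ.base '' (h.base ⁻¹' (CohB1.genLocus L s : Set X)ᶜ) =
      ν.base ⁻¹' (CohB1.genLocus L s : Set X)ᶜ := by
    ext n
    constructor
    · rintro ⟨z, hz, rfl⟩
      show ν.base (τ.base z) ∈ (CohB1.genLocus L s : Set X)ᶜ
      rw [← Scheme.Hom.comp_apply, hτν]; exact hz
    · intro hn
      obtain ⟨z, rfl⟩ := hrange hn
      refine ⟨z, ?_, rfl⟩
      rw [← hτν]; exact hn
  rw [← himg] at hc
  exact ⟨hc.nonempty.of_image, τ.isEmbedding.isInducing.isPreconnected_image.1 hc.isPreconnected⟩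

variable (hd : ∀ x : X, x ∈ CohB1.genLocus L s →
      (1 : WithBot ℕ∞) < (LocCoh.depth (X.presheaf.stalk x) (X.presheaf.stalk x) : WithBot ℕ∞) +
        topologicalKrullDim (closure ({x} : Set X)))

include hd in
theorem dim_of_minimal {x : X} (hx : x ∈ CohB1.genLocus L s) (hmin : ∀ y, y ⤳ x → y = x) :
    (2 : WithBot ℕ∞) ≤ topologicalKrullDim (closure ({x} : Set X)) := by
  have h := hd x hx
  have h0 := (Lib.Cyc.DimFun.ringKrullDim_stalk_eq_zero_iff x).2 hmin
  have h1 := Lib.Depth.Assoc.depth_le_ringKrullDim (R := X.presheaf.stalk x) (X.presheaf.stalk x)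
  rw [h0] at h1
  have h2 : LocCoh.depth (X.presheaf.stalk x) (X.presheaf.stalk x) = 0 :=
    nonpos_iff_eq_zero.1 (WithBot.coe_le_coe.1 h1)
  rw [h2, WithBot.coe_zero, zero_add] at h
  obtain ⟨d, hd'⟩ := WithBot.ne_bot_iff_exists.1 (ne_bot_of_gt h)
  rw [← hd'] at h ⊢
  exact WithBot.coe_le_coe.2 (Order.add_one_le_of_lt (WithBot.coe_lt_coe.1 h))

include hd in
theorem depth_of_closed {x : X} (hx : x ∈ CohB1.genLocus L s) (hcl : IsClosed ({x} : Set X)) :
    (2 : ℕ∞) ≤ LocCoh.depth (X.presheaf.stalk x) (X.presheaf.stalk x) := by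
  have h := hd x hx
  rw [hcl.closure_eq] at h
  haveI : Subsingleton ({x} : Set X) := ⟨fun a b => Subtype.ext (a.2.trans b.2.symm)⟩
  haveI : Nonempty ({x} : Set X) := ⟨⟨x, rfl⟩⟩
  haveI : IrreducibleSpace ({x} : Set X) :=
    { isPreirreducible_univ := Set.subsingleton_univ.isPreirreducible, toNonempty := inferInstance }
  rw [show topologicalKrullDim ({x} : Set X) = 0 by
    haveI : Subsingleton (IrreducibleCloseds ({x} : Set X)) := ⟨fun a b => IrreducibleCloseds.ext
      ((Subsingleton.eq_univ_of_nonempty a.2.nonempty).trans (Subsingleton.eq_univ_of_nonempty b.2.nonempty).symm)⟩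
    haveI : Nonempty (IrreducibleCloseds ({x} : Set X)) :=
      ⟨⟨Set.univ, IrreducibleSpace.isIrreducible_univ _, isClosed_univ⟩⟩
    exact Order.krullDim_eq_zero, add_zero] at h
  have := WithBot.coe_lt_coe.1 h
  exact Order.add_one_le_of_lt this

include f hL hd in
/-- Restriction to the divisor is fully faithful on covers of a neighbourhood. -/
theorem full_and_faithful {V : X.Opens} (hV : ((CohB1.genLocus L s : Set X))ᶜ ⊆ V)
    {Y' : Scheme.{u}} (j : Y' ⟶ (V : Scheme.{u})) [IsClosedImmersion j]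
    (hj : Set.range j.base = V.ι.base ⁻¹' (CohB1.genLocus L s : Set X)ᶜ) :
    (FEt.restrict j).Full ∧ (FEt.restrict j).Faithful := by
  haveI : CompactSpace X := QuasiCompact.compactSpace_of_compactSpace f
  haveI : IsNoetherian X := ⟨⟩
  let G := CohB1.genLocus L s
  have hG : IsAffineOpen G := H97.GenLocusAffine.isAffineOpen_genLocus f hL s
  -- facts on a cover
  have key : ∀ (W : FEt.Cat (V : Scheme.{u})) (C : Set W.left),
      C ⊆ (W.hom ≫ V.ι).base ⁻¹' (G : Set X)ᶜ →
      IsClosed C → IsClosed (((W.hom ≫ V.ι).base ⁻¹' (G : Set X)ᶜ) \ C) →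
      ∃ D : Set W.left, IsClopen D ∧ D ∩ ((W.hom ≫ V.ι).base ⁻¹' (G : Set X)ᶜ) = C ∧
        (∀ w, ∃ z ∈ irreducibleComponent w, (W.hom ≫ V.ι).base z ∈ (G : Set X)ᶜ) := by
    intro W C hCY hC hC'
    let p : W.left ⟶ (V : Scheme.{u}) := W.hom
    let q : W.left ⟶ X := p ≫ V.ι
    let YW := q.base ⁻¹' (G : Set X)ᶜ
    haveI : IsFinite p := W.prop.1
    haveI : Etale p := W.prop.2
    haveI : IsLocallyNoetherian (V : Scheme.{u}) := inferInstance
    haveI : IsLocallyNoetherian W.left := LocallyOfFiniteType.isLocallyNoetherian p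
    haveI : CompactSpace ↥(V : Scheme.{u}) := isCompact_iff_compactSpace.mp
      (TopologicalSpace.NoetherianSpace.isCompact (α := X) _)
    haveI : CompactSpace W.left := QuasiCompact.compactSpace_of_compactSpace p
    haveI : IsNoetherian W.left := ⟨⟩
    have hfin : (irreducibleComponents W.left).Finite := NoetherianSpace.finite_irreducibleComponents
    -- each component meets the trace in a connected set
    have hcomp : ∀ Z ∈ irreducibleComponents W.left, _root_.IsConnected (Z ∩ YW) ∧
        ∃ a b, a ∈ Z ∧ b ∈ Z ∧ ((∃ η, closure {η} = Z ∧ q.base η ∈ G) → a ≠ b) := by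
      intro Z hZ
      have hZc := isClosed_of_mem_irreducibleComponents Z hZ
      obtain ⟨η, hη⟩ := QuasiSober.sober hZ.1 hZc
      by_cases hηG : q.base η ∈ G
      swap
      · have hZY : Z ⊆ YW := fun z hz hzG => hηG ((((hη.specializes hz)).map q.continuous).mem_open G.2 hzG)
        refine ⟨by rw [Set.inter_eq_left.2 hZY]; exact hZ.1.isConnected, η, η, hη.mem, hη.mem, ?_⟩
        rintro ⟨η', hη', hG'⟩
        exact absurd (IsGenericPoint.eq (hη' : IsGenericPoint η' Z) hη ▸ hG') hηG
      let I := Scheme.IdealSheafData.vanishingIdeal (⟨Z, hZc⟩ : Closeds W.left)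
      let ι := I.subschemeι
      have hr : Set.range ι.base = Z := by
        rw [Scheme.IdealSheafData.range_subschemeι]
        rw [Scheme.IdealSheafData.coe_support_vanishingIdeal]; rfl
      haveI : IrreducibleSpace I.subscheme := by
        obtain ⟨e, he⟩ : η ∈ Set.range ι.base := hr.ge hη.mem
        have huniv : closure {e} = Set.univ := Set.eq_univ_of_forall fun z => by
          refine specializes_iff_mem_closure.1 (ι.isClosedEmbedding.isInducing.specializes_iff.1 ?_)
          rw [he]
          exact hη.specializes (hr.le ⟨z, rfl⟩)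
        rw [irreducibleSpace_def, Set.top_eq_univ, ← huniv]
        exact isIrreducible_singleton.closure
      haveI : IsReduced I.subscheme := H75.RedSub.isReduced_vanishingIdeal _
      haveI : IsIntegral I.subscheme := isIntegral_of_irreducibleSpace_of_isReduced _
      have hgenZ : ι.base (genericPoint I.subscheme) = η := by
        have h1 := (genericPoint_spec I.subscheme).image ι.continuous
        rw [Set.image_univ, hr, hZc.closure_eq] at h1
        exact h1.eq hη
      have hmin : ∀ y, y ⤳ q.base η → y = q.base η := by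
        intro y hy
        have hy' : y ∈ V := hy.mem_open V.2 (p.base η).2
        obtain ⟨w, hw, hwy⟩ := Flat.generalizingMap p
          (show (⟨y, hy'⟩ : (V : Scheme.{u})) ⤳ p.base η from
            V.ι.isOpenEmbedding.isInducing.specializes_iff.1 hy)
        have hwη : w = η := by
          have hle : Z ⊆ closure {w} := by
            rw [← hη.def]
            exact specializes_iff_closure_subset.mp hw
          have := hZ.2 isIrreducible_singleton.closure hle (subset_closure (Set.mem_singleton w))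
          exact ((hη.specializes this).antisymm hw).eq.symm
        subst hwη
        exact congrArg Subtype.val hwy.symm
      have h2 := dim_of_minimal s hd hηG hmin
      have hg := isConnected_trace k f hL s hV (ι ≫ p) (by
          show q.base (ι.base (genericPoint I.subscheme)) ∈ G
          rwa [hgenZ]) (by
          show (2 : WithBot ℕ∞) ≤ topologicalKrullDim (closure ({q.base (ι.base (genericPoint I.subscheme))} : Set X))
          rwa [hgenZ])
      have h3 := hg.image ι.base ι.continuous.continuousOn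
      rw [show ((ι ≫ p) ≫ V.ι).base ⁻¹' (CohB1.genLocus L s : Set X)ᶜ = ι.base ⁻¹' YW from rfl,
        Set.image_preimage_eq_inter_range, hr, Set.inter_comm] at h3
      obtain ⟨b, hbZ, hbY⟩ := h3.nonempty
      exact ⟨h3, η, b, hη.mem, hbZ, fun _ he => hbY (he ▸ hηG)⟩
    let A := ⋃ Z ∈ {Z ∈ irreducibleComponents W.left | (Z ∩ C).Nonempty}, Z
    let B := ⋃ Z ∈ {Z ∈ irreducibleComponents W.left | ¬ (Z ∩ C).Nonempty}, Z
    have hA : IsClosed A := (hfin.subset fun Z hZ => hZ.1).isClosed_biUnion fun Z hZ =>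
      isClosed_of_mem_irreducibleComponents Z hZ.1
    have hB : IsClosed B := (hfin.subset fun Z hZ => hZ.1).isClosed_biUnion fun Z hZ =>
      isClosed_of_mem_irreducibleComponents Z hZ.1
    have hcov : ∀ w, w ∈ A ∨ w ∈ B := fun w => by
      by_cases h : (irreducibleComponent w ∩ C).Nonempty
      · exact Or.inl (Set.mem_biUnion ⟨irreducibleComponent_mem_irreducibleComponents w, h⟩ mem_irreducibleComponent)
      · exact Or.inr (Set.mem_biUnion ⟨irreducibleComponent_mem_irreducibleComponents w, h⟩ mem_irreducibleComponent)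
    have hAY : A ∩ YW ⊆ C := by
      rintro z ⟨hzA, hzY⟩
      obtain ⟨Z, ⟨hZ, hZC⟩, hzZ⟩ := Set.mem_iUnion₂.1 hzA
      by_contra hzC
      obtain ⟨p, hp, hp1, hp2⟩ := isPreconnected_closed_iff.1 (hcomp Z hZ).1.isPreconnected C (YW \ C) hC hC'
        (fun w hw => by by_cases hwC : w ∈ C; exacts [Or.inl hwC, Or.inr ⟨hw.2, hwC⟩])
        (by obtain ⟨w, hw1, hw2⟩ := hZC; exact ⟨w, ⟨hw1, hCY hw2⟩, hw2⟩) ⟨z, ⟨hzZ, hzY⟩, hzY, hzC⟩
      exact hp2.2 hp1
    have hBY : B ∩ YW ⊆ YW \ C := by
      rintro z ⟨hzB, hzY⟩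
      obtain ⟨Z, ⟨hZ, hZC⟩, hzZ⟩ := Set.mem_iUnion₂.1 hzB
      exact ⟨hzY, fun h => hZC ⟨z, hzZ, h⟩⟩
    -- the intersection is finite, closed in `X`
    have hAB : ∀ w ∈ A ∩ B, q.base w ∈ G := fun w hw => by
      by_contra h
      exact (hBY ⟨hw.2, h⟩).2 (hAY ⟨hw.1, h⟩)
    have hK : closure (q.base '' (A ∩ B)) ⊆ (G : Set X) := by
      intro x hx
      by_contra hxG
      have hxV : x ∈ V := hV hxG
      obtain ⟨T, hT, hT'⟩ := V.ι.isOpenEmbedding.isInducing.isClosed_iff.1 (p.isClosedMap _ (hA.inter hB))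
      have hsub : q.base '' (A ∩ B) ⊆ T := by
        rintro _ ⟨w, hw, rfl⟩
        exact hT'.ge ⟨w, hw, rfl⟩
      obtain ⟨w, hw, hwx⟩ := hT'.le (show (⟨x, hxV⟩ : (V : Scheme.{u})) ∈ _ from closure_minimal hsub hT hx)
      exact hxG (by
        have := hAB w hw
        rwa [show q.base w = x from congrArg Subtype.val hwx] at this)
    obtain ⟨hKfin, hKc⟩ := finite_of_subset_affine k f hG isClosed_closure hK
    have hqc : ∀ w ∈ A ∩ B, IsClosed ({q.base w} : Set X) := fun w hw =>
      hKc _ (subset_closure ⟨w, hw, rfl⟩)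
    have hABc : ∀ w ∈ A ∩ B, IsClosed ({w} : Set W.left) := by
      intro w hw
      refine isClosed_of_closure_subset fun y hy => ?_
      have hy' : q.base y = q.base w :=
        closure_minimal (s := ({w} : Set W.left)) (t := q.base ⁻¹' {q.base w}) (fun z hz => congrArg q.base hz) ((hqc w hw).preimage q.continuous) hy
      have hpy : p.base y = p.base w := V.ι.isOpenEmbedding.injective hy'
      haveI := (p.isDiscrete_preimage_singleton (p.base w)).to_subtype
      have h' : (⟨w, rfl⟩ : (p.base ⁻¹' {p.base w} : Set W.left)) ⤳ ⟨y, hpy⟩ :=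
        Topology.IsInducing.subtypeVal.specializes_iff.mp (specializes_iff_mem_closure.2 hy)
      exact (congrArg Subtype.val h'.eq).symm
    have hempty : A ∩ B = ∅ := by
      by_contra hne
      obtain ⟨w, hwA, hwB⟩ := Set.nonempty_iff_ne_empty.2 hne
      have hw := hABc w ⟨hwA, hwB⟩
      have hqw := hqc w ⟨hwA, hwB⟩
      have hdep := depth_of_closed s hd (hAB w ⟨hwA, hwB⟩) hqw
      have hdepW := Lib.FEt.DepthTwo.two_le_depth_of_flat q w hdep
      have hconn := Lib.FEt.DepthTwo.isConnected_generalizations_scheme w hdepW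
      have hmeet : ∀ S ∈ irreducibleComponents W.left, w ∈ S →
          ∃ y, y ∈ S ∧ y ⤳ w ∧ y ≠ w := by
        intro S hS hwS
        have hSc := isClosed_of_mem_irreducibleComponents S hS
        obtain ⟨η, hη⟩ := QuasiSober.sober hS.1 hSc
        refine ⟨η, hη.mem, hη.specializes hwS, fun he => ?_⟩
        subst he
        obtain ⟨-, a, b, ha, hb, hab⟩ := hcomp S hS
        rw [← hη.def, hw.closure_eq] at ha hb
        exact hab ⟨η, hη.def, hAB η ⟨hwA, hwB⟩⟩ (ha.trans hb.symm)
      obtain ⟨S, hS, hwS⟩ := Set.mem_iUnion₂.1 hwA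
      obtain ⟨S', hS', hwS'⟩ := Set.mem_iUnion₂.1 hwB
      obtain ⟨a, haS, hag⟩ := hmeet S hS.1 hwS
      obtain ⟨b, hbS, hbg⟩ := hmeet S' hS'.1 hwS'
      obtain ⟨z, hz, hzA, hzB⟩ := isPreconnected_closed_iff.1 hconn.isPreconnected A B hA hB
        (fun z _ => hcov z) ⟨a, hag, Set.mem_biUnion hS haS⟩ ⟨b, hbg, Set.mem_biUnion hS' hbS⟩
      exact hz.2 ((hABc z ⟨hzA, hzB⟩).closure_eq.le (specializes_iff_mem_closure.1 hz.1)).symm
    have hcompl : Aᶜ = B := Set.Subset.antisymm (fun w hw => (hcov w).resolve_left hw)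
      fun w hw hwA => Set.eq_empty_iff_forall_notMem.1 hempty w ⟨hwA, hw⟩
    refine ⟨A, ⟨hA, by rw [← isClosed_compl_iff, hcompl]; exact hB⟩, ?_, ?_⟩
    · refine Set.Subset.antisymm hAY fun z hz => ⟨?_, hCY hz⟩
      exact Set.mem_biUnion ⟨irreducibleComponent_mem_irreducibleComponents z, z, mem_irreducibleComponent, hz⟩
        mem_irreducibleComponent
    · intro w
      obtain ⟨z, hz', hz⟩ := (hcomp _ (irreducibleComponent_mem_irreducibleComponents w)).1.nonempty
      exact ⟨z, hz', hz⟩
  refine Lib.FEt.FullyFaithful.full_and_faithful j (fun t ht hne => ?_) fun W C hC => ?_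
  · let T : FEt.Cat (V : Scheme.{u}) := MorphismProperty.Over.mk ⊤ (𝟙 _) (FEt.prop.id_mem _)
    have hYc : IsClosed ((T.hom ≫ V.ι).base ⁻¹' (G : Set X)ᶜ) :=
      G.2.isClosed_compl.preimage (T.hom ≫ V.ι).continuous
    obtain ⟨x, hx⟩ := hne
    obtain ⟨-, -, -, hmeet⟩ := key T ∅ (Set.empty_subset _) isClosed_empty (by rw [Set.sdiff_empty]; exact hYc)
    obtain ⟨z, hzx, hz⟩ := hmeet x
    refine ⟨z, ?_, ?_⟩
    · exact isIrreducible_irreducibleComponent.isConnected.isPreconnected.subset_isClopen ht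
        ⟨x, mem_irreducibleComponent, hx⟩ hzx
    · rw [hj]
      exact hz
  · let q := pullback.fst W.hom j
    have hq : Set.range q.base = W.hom.base ⁻¹' Set.range j.base := Scheme.Pullback.range_fst _ _
    rw [hj] at hq
    have hqc : Topology.IsClosedEmbedding q.base := q.isClosedEmbedding
    obtain ⟨D, hD, hDC, -⟩ := key W (q.base '' C) (by
        rintro _ ⟨c, -, rfl⟩; exact hq.le ⟨c, rfl⟩) (hqc.isClosedMap _ hC.1) (by
        rw [show (W.hom ≫ V.ι).base ⁻¹' ((G : Set X))ᶜ = Set.range q.base from hq.symm,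
          ← Set.image_univ, ← Set.image_sdiff hqc.injective]
        exact hqc.isClosedMap _ (isClosed_univ.sdiff hC.2))
    refine ⟨D, hD, ?_⟩
    rw [← hqc.injective.preimage_image C, ← hDC, Set.preimage_inter]
    exact (Set.inter_eq_left.2 fun z _ => (hq.le ⟨z, rfl⟩ : _)).symm

end Groth.Agent.H80.LefConn
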