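import Groth.Agent.H80.Clopen.GrFree

/-!
# Trivialisations of line bundles on a punctured spectrum lift along an ideal

Line bundles are handled through their module of sections with chartwise generators.
-/

set_option autoImplicit false

universe u

open IsLocalRing

namespace Groth.Agent.H80.Clopen

variable {A : Type u} [CommRing A] {ι : Type} (a : ι → A)

/-- Chartwise generators of a module, with coordinates. -/
structure LineData (M : Type u) [AddCommGroup M] [Module A M] where
  /-- generators -/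
  e : ι → M
  /-- coordinates -/
  φ : ι → M →ₗ[A] A
  /-- exponent -/
  k : ℕ
  unit : ∀ i, φ i (e i) = a i ^ k
  span : ∀ i z, φ i z • e i = a i ^ k • z

variable {a} {M : Type u} [AddCommGroup M] [Module A M]

/-- The dual data. -/
def LineData.dual (D : LineData a M) : LineData a (M →ₗ[A] A) where
  e := D.φ
  φ := fun i => LinearMap.applyₗ (D.e i)
  k := D.k
  unit := D.unit
  span := fun i ψ => LinearMap.ext fun z => by
    change ψ (D.e i) * D.φ i z = a i ^ D.k * ψ z
    rw [mul_comm, ← smul_eq_mul, ← map_smul, D.span, map_smul, smul_eq_mul]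

/-- The retraction given by the coordinates. -/
def LineData.retract (D : LineData a M) : Retract a M ι where
  Φ := LinearMap.pi D.φ
  S := fun i => (LinearMap.proj i).smulRight (D.e i)
  k := D.k
  retract := fun i x => by
    change D.φ i x • D.e i = _
    exact D.span i x

theorem sep_dual (hs : Sep a A ⊥) : Sep a (M →ₗ[A] A) ⊥ := fun ψ hψ => by
  rw [Submodule.bot_smul, Submodule.mem_bot]
  ext z
  have := hs (ψ z) fun i => (hψ i).imp fun l hl => by
    rw [Submodule.bot_smul, Submodule.mem_bot] at hl ⊢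
    exact LinearMap.congr_fun hl z
  rwa [Submodule.bot_smul, Submodule.mem_bot] at this

theorem glue_dual (D : LineData a M) (hs : Sep a A ⊥) (hg : Glue a A ⊥) : Glue a (M →ₗ[A] A) ⊥ := by
  intro k m hm
  choose v hv using fun z : M => hg k (fun i => m i z) fun i j => (hm i j).imp fun l hl => by
    rw [Submodule.bot_smul, Submodule.mem_bot] at hl ⊢
    exact LinearMap.congr_fun hl z
  replace hv : ∀ z i, ∃ l : ℕ, a i ^ l * (a i ^ k * v z - m i z) = 0 := fun z i =>
    (hv z i).imp fun l hl => by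
      rw [Submodule.bot_smul, Submodule.mem_bot] at hl
      exact hl
  have key : ∀ x y : A, (∀ i, ∃ l : ℕ, a i ^ l * (a i ^ k * x - a i ^ k * y) = 0) → x = y := by
    intro x y h
    have := hs (x - y) fun i => by
      obtain ⟨l, hl⟩ := h i
      exact ⟨l + k, by
        rw [Submodule.bot_smul, Submodule.mem_bot, smul_eq_mul, pow_add]; linear_combination hl⟩
    rwa [Submodule.bot_smul, Submodule.mem_bot, sub_eq_zero] at this
  refine ⟨{ toFun := v, map_add' := fun x y => key _ _ fun i => ?_,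
            map_smul' := fun c x => key _ _ fun i => ?_ }, fun i => ?_⟩
  · obtain ⟨l, hl⟩ := hv x i
    obtain ⟨l', hl'⟩ := hv y i
    obtain ⟨l'', hl''⟩ := hv (x + y) i
    refine ⟨l + l' + l'', ?_⟩
    rw [map_add] at hl''
    simp only [pow_add]
    linear_combination (a i ^ l * a i ^ l') * hl'' - (a i ^ l' * a i ^ l'') * hl -
      (a i ^ l * a i ^ l'') * hl'

  · obtain ⟨l, hl⟩ := hv x i
    obtain ⟨l', hl'⟩ := hv (c • x) i
    refine ⟨l + l', ?_⟩
    simp only [map_smul, RingHom.id_apply, smul_eq_mul, pow_add] at hl' ⊢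
    linear_combination (a i ^ l) * hl' - (c * a i ^ l') * hl
  · obtain ⟨l, hl⟩ := hv (D.e i) i
    refine ⟨l + D.k, ?_⟩
    rw [Submodule.bot_smul, Submodule.mem_bot]
    ext z
    rw [LinearMap.smul_apply, LinearMap.sub_apply, LinearMap.smul_apply, LinearMap.zero_apply,
      smul_eq_mul, smul_eq_mul]
    change a i ^ (l + D.k) * (a i ^ k * v z - m i z) = 0
    have hv' : ∀ (c : A) (y : M), v (c • y) = c * v y := fun c y => key _ _ fun j => by
      obtain ⟨p, hp⟩ := hv y j
      obtain ⟨q, hq⟩ := hv (c • y) j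
      refine ⟨p + q, ?_⟩
      simp only [map_smul, smul_eq_mul, pow_add] at hq ⊢
      linear_combination (a j ^ p) * hq - (c * a j ^ q) * hp
    have h1 := congrArg v (D.span i z)
    have h2 := congrArg (m i) (D.span i z)
    rw [hv', hv'] at h1
    rw [map_smul, map_smul, smul_eq_mul, smul_eq_mul] at h2
    linear_combination (D.φ i z) * hl - (a i ^ l * a i ^ k) * h1 + (a i ^ l) * h2

variable (a) (J : Ideal A)

/-- Čech cocycles of the graded pieces are coboundaries. -/
def GrH1 : Prop :=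
  ∀ (n S : ℕ) (u : ι → ι → A), (∀ i j, u i j ∈ J ^ n) → (∀ i j, u i j + u j i ∈ J ^ (n + 1)) →
    (∀ i j t, a t ^ S * u i j - a j ^ S * u i t + a i ^ S * u j t ∈ J ^ (n + 1)) →
    ∃ (l : ℕ) (w : ι → A), (∀ i, w i ∈ J ^ n) ∧
      ∀ i j, (a i * a j) ^ l * u i j - (a j ^ (S + l) * w i - a i ^ (S + l) * w j) ∈ J ^ (n + 1)

/-- A trivialisation modulo `J`. -/
structure TrivData (M : Type u) [AddCommGroup M] [Module A M] where
  /-- exponent -/
  P : ℕ
  /-- local sections -/
  m : ι → M
  /-- inverse coordinates -/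
  θ : ι → M →ₗ[A] A
  unit : ∀ i, θ i (m i) - a i ^ (2 * P) ∈ J
  span : ∀ i (n : ℕ) (z : M), z ∈ J ^ n • (⊤ : Submodule A M) →
    θ i z • m i - a i ^ (2 * P) • z ∈ J ^ (n + 1) • (⊤ : Submodule A M)
  compat : ∀ i j, a j ^ P • m i - a i ^ P • m j ∈ J • (⊤ : Submodule A M)

variable {a J}

theorem apply_mem_of_mem {n : ℕ} (f : M →ₗ[A] A) {z : M} (hz : z ∈ J ^ n • (⊤ : Submodule A M)) :
    f z ∈ J ^ n := mem_smul_top_self.mp (map_smul_top_mem f hz)

theorem TrivData.overlap (T : TrivData a J M) (i j : ι) (n : ℕ) {z : M}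
    (hz : z ∈ J ^ n • (⊤ : Submodule A M)) :
    (a i * a j) ^ T.P * (a i ^ T.P * T.θ j z - a j ^ T.P * T.θ i z) ∈ J ^ (n + 1) := by
  have h1 := apply_mem_of_mem (T.θ j) (T.span i n z hz)
  rw [map_sub, map_smul, map_smul, smul_eq_mul, smul_eq_mul] at h1
  have h2 := Ideal.mul_mem_mul (apply_mem_of_mem (T.θ i) hz) (mem_smul_top_self.mp
    (map_smul_top_mem (T.θ j) (T.compat i j)))
  have h3 := Ideal.mul_mem_mul (apply_mem_of_mem (T.θ i) hz) (T.unit j)
  rw [← pow_succ] at h2 h3
  rw [map_sub, map_smul, map_smul, smul_eq_mul, smul_eq_mul] at h2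
  have := sub_mem (add_mem h2 (Ideal.mul_mem_left _ (a i ^ T.P) h3))
    (Ideal.mul_mem_left _ (a j ^ T.P) h1)
  convert this using 1
  ring

/-- Raising the exponent of a trivialisation. -/
def TrivData.raise (P₀ : ℕ) (m : ι → M) (θ : ι → M →ₗ[A] A)
    (hu : ∀ i, θ i (m i) - a i ^ (2 * P₀) ∈ J)
    (hs : ∀ i (n : ℕ) (z : M), z ∈ J ^ n • (⊤ : Submodule A M) →
      θ i z • m i - a i ^ (2 * P₀) • z ∈ J ^ (n + 1) • (⊤ : Submodule A M))
    (L : ℕ) (hc : ∀ i j, (a i * a j) ^ L • (a j ^ P₀ • m i - a i ^ P₀ • m j) ∈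
      J • (⊤ : Submodule A M)) : TrivData a J M where
  P := P₀ + L
  m := fun i => a i ^ L • m i
  θ := fun i => a i ^ L • θ i
  unit := fun i => by
    rw [LinearMap.smul_apply, map_smul, smul_eq_mul, smul_eq_mul]
    convert Ideal.mul_mem_left J (a i ^ L * a i ^ L) (hu i) using 1
    ring
  span := fun i n z hz => by
    convert Submodule.smul_mem _ (a i ^ L * a i ^ L) (hs i n z hz) using 1
    rw [LinearMap.smul_apply, smul_sub, smul_smul, smul_smul, smul_smul, smul_eq_mul]
    congr 1 <;> congr 1 <;> ring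
  compat := fun i j => by
    convert hc i j using 1
    rw [smul_sub, smul_smul, smul_smul, smul_smul, smul_smul]
    congr 1 <;> congr 1 <;> ring

theorem TrivData.nonempty_of_lineData [Finite ι] (D : LineData a M) (K : ℕ) (m : ι → M)
    (hcompat : Compat a J K m)
    (hgen : ∀ i, ∃ (l : ℕ) (b : A), D.φ i (m i) * b - a i ^ l ∈ J) : Nonempty (TrivData a J M) := by
  obtain ⟨L, hL⟩ := exists_common (J • (⊤ : Submodule A M)) (fun t : ι × ι => a t.1 * a t.2)
    (fun t => a t.2 ^ K • m t.1 - a t.1 ^ K • m t.2) fun t => hcompat t.1 t.2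
  choose l b hb using hgen
  have := Fintype.ofFinite ι
  let l₀ := Finset.univ.sup l
  have hl₀ : ∀ i, l i ≤ l₀ := fun i => Finset.le_sup (Finset.mem_univ i)
  let C := D.k + l₀
  let b' : ι → A := fun i => a i ^ (l₀ - l i) * b i
  have hb' : ∀ i, D.φ i (m i) * b' i - a i ^ l₀ ∈ J := fun i => by
    convert Ideal.mul_mem_left J (a i ^ (l₀ - l i)) (hb i) using 1
    rw [mul_sub, ← pow_add, Nat.sub_add_cancel (hl₀ i)]
    ring
  refine ⟨TrivData.raise (K + C) (fun i => a i ^ C • m i)
    (fun i => (a i ^ (2 * K + D.k) * b' i) • D.φ i) (fun i => ?_) (fun i n z hz => ?_) L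
    fun i j => ?_⟩
  · rw [LinearMap.smul_apply, map_smul, smul_eq_mul, smul_eq_mul]
    convert Ideal.mul_mem_left J (a i ^ (2 * K + D.k + C)) (hb' i) using 1
    simp only [C]
    ring
  · have h1 : ((D.φ i (m i) * b' i - a i ^ l₀) * D.φ i z * a i ^ (2 * K + C)) • D.e i ∈
        J ^ (n + 1) • (⊤ : Submodule A M) := by
      refine Submodule.smul_mem_smul (Ideal.mul_mem_right _ _ ?_) trivial
      rw [pow_succ', mul_comm J]
      exact mul_comm (D.φ i z) _ ▸ Ideal.mul_mem_mul (apply_mem_of_mem _ hz) (hb' i)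
    convert h1 using 1
    rw [LinearMap.smul_apply, smul_eq_mul, sub_mul, sub_mul, sub_smul]
    congr 1
    · rw [show (D.φ i (m i) * b' i * D.φ i z * a i ^ (2 * K + C)) =
        (b' i * D.φ i z * a i ^ (2 * K + C)) * D.φ i (m i) by ring, ← smul_smul _ (D.φ i (m i)),
        D.span, smul_smul, smul_smul]
      congr 1
      simp only [C]
      ring
    · rw [show (a i ^ l₀ * D.φ i z * a i ^ (2 * K + C)) =
        (a i ^ l₀ * a i ^ (2 * K + C)) * D.φ i z by ring, ← smul_smul _ (D.φ i z), D.span, smul_smul]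
      congr 1
      simp only [C]
      ring
  · have h1 := Submodule.smul_mem _ ((a i * a j) ^ C) (hL (i, j))
    convert h1 using 1
    simp only [smul_sub, smul_smul]
    congr 1 <;> congr 1 <;> ring

/-- The dual trivialisation. -/
theorem TrivData.exists_dual [Finite ι] (D : LineData a M) (T : TrivData a J M) :
    ∃ (T' : TrivData a J (M →ₗ[A] A)) (c : ℕ), T'.P = T.P + c ∧
      ∀ i, T'.m i = a i ^ c • T.θ i := by
  have hmem : ∀ (i : ι) {n : ℕ} (ψ : M →ₗ[A] A), ψ (D.e i) ∈ J ^ n →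
      a i ^ D.k • ψ ∈ J ^ n • (⊤ : Submodule A (M →ₗ[A] A)) := fun i n ψ hψ => by
    rw [show a i ^ D.k • ψ = _ from (D.dual.span i ψ).symm]
    exact Submodule.smul_mem_smul hψ trivial
  refine ⟨TrivData.raise (T.P + D.k) (fun i => a i ^ D.k • T.θ i)
    (fun i => a i ^ D.k • LinearMap.applyₗ (T.m i)) (fun i => ?_) (fun i n ψ hψ => ?_)
    (T.P + D.k) (fun i j => ?_), T.P + 2 * D.k, ?_, fun i => ?_⟩
  · change a i ^ D.k * (a i ^ D.k * T.θ i (T.m i)) - _ ∈ J
    convert Ideal.mul_mem_left J (a i ^ D.k * a i ^ D.k) (T.unit i) using 1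
    ring
  · have h1 : ψ (T.θ i (D.e i) • T.m i - a i ^ (2 * T.P) • D.e i) ∈ J ^ (n + 1) := by
      have hψ' : ∀ z : M, z ∈ J • (⊤ : Submodule A M) → ψ z ∈ J ^ (n + 1) := fun z hz => by
        refine Submodule.smul_induction_on hz (fun r hr w _ => ?_) fun x y hx hy => ?_
        · rw [map_smul, smul_eq_mul, pow_succ']
          exact Ideal.mul_mem_mul hr (apply_mem_of_mem (LinearMap.applyₗ w) hψ)
        · rw [map_add]; exact add_mem hx hy
      exact hψ' _ (by simpa using T.span i 0 (D.e i) (by simp))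
    have h2 := hmem i (ψ (T.m i) • T.θ i - a i ^ (2 * T.P) • ψ) (n := n + 1) (by
      convert h1 using 1
      simp [map_sub, mul_comm])
    convert Submodule.smul_mem _ (a i ^ D.k) h2 using 1
    change (a i ^ D.k * ψ (T.m i)) • a i ^ D.k • T.θ i - _ = _
    simp only [smul_sub, smul_smul]
    congr 1 <;> congr 1 <;> ring
  · have h0 := T.overlap i j 0 (z := D.e i) (by simp)
    rw [zero_add, pow_one] at h0
    have h2 := hmem i ((a i * a j) ^ T.P • (a i ^ T.P • T.θ j - a j ^ T.P • T.θ i)) (n := 1) (by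
      rw [pow_one]
      simpa [mul_comm] using h0)
    rw [pow_one] at h2
    have h3 := Submodule.smul_mem _ (-(a i ^ D.k * a j ^ (2 * D.k))) h2
    convert h3 using 1
    simp only [smul_sub, smul_smul, neg_mul, neg_smul]
    rw [neg_sub_neg]
    congr 1 <;> congr 1 <;> ring
  · simp only [TrivData.raise]; omega
  · simp only [TrivData.raise, smul_smul]
    congr 1
    ring

/-- One step of lifting. -/
theorem exists_step (T : TrivData a J M) (hG : GrH1 a J) {n e : ℕ} (hn : 1 ≤ n) (μ : ι → M)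
    (hμ : ∀ i, μ i - a i ^ e • T.m i ∈ J • (⊤ : Submodule A M))
    (hc : ∀ i j, a j ^ (T.P + e) • μ i - a i ^ (T.P + e) • μ j ∈ J ^ n • (⊤ : Submodule A M)) :
    ∃ (e' : ℕ) (μ' : ι → M), (∀ i, μ' i - a i ^ e' • T.m i ∈ J • (⊤ : Submodule A M)) ∧
      ∀ i j, a j ^ (T.P + e') • μ' i - a i ^ (T.P + e') • μ' j ∈
        J ^ (n + 1) • (⊤ : Submodule A M) := by
  let Q := T.P + e
  let P := T.P
  let d : ι → ι → M := fun i j => a j ^ Q • μ i - a i ^ Q • μ j
  let u : ι → ι → A := fun i j => (a i * a j) ^ P * a j ^ P * T.θ i (d i j)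
  have hd : ∀ i j, d j i = - d i j := fun i j => (neg_sub _ _).symm
  obtain ⟨l, w, hw, hwu⟩ := hG n (Q + 2 * P) u
    (fun i j => Ideal.mul_mem_left _ _ (apply_mem_of_mem _ (hc i j)))
    (fun i j => by
      convert neg_mem (T.overlap i j n (hc i j)) using 1
      simp only [u]
      rw [hd i j, map_neg]
      ring)
    (fun i j t => by
      have h1 : a t ^ Q • d i j - a j ^ Q • d i t + a i ^ Q • d j t = 0 := by
        simp only [d, smul_sub, smul_smul, mul_comm (a t ^ Q), mul_comm (a j ^ Q) (a i ^ Q)]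
        abel
      have h2 := congrArg (T.θ i) h1
      simp only [map_add, map_sub, map_smul, map_zero, smul_eq_mul] at h2
      convert Ideal.mul_mem_left _ (a i ^ Q * a t ^ (2 * P)) (T.overlap i j n (hc j t)) using 1
      simp only [u, P]
      linear_combination ((a i * a j * a t) ^ T.P * a t ^ T.P * a j ^ T.P) * h2)
  let L := l + 3 * P
  refine ⟨e + L, fun i => a i ^ L • μ i - w i • T.m i, fun i => ?_, fun i j => ?_⟩
  · have h1 : w i • T.m i ∈ J • (⊤ : Submodule A M) :=
      Submodule.smul_mem_smul (by simpa using Ideal.pow_le_pow_right hn (hw i)) trivial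
    convert sub_mem (Submodule.smul_mem _ (a i ^ L) (hμ i)) h1 using 1
    rw [smul_sub, smul_smul, ← pow_add, add_comm L e]
    module
  · have h1 : ((a i * a j) ^ l * u i j - (a j ^ (Q + 2 * P + l) * w i - a i ^ (Q + 2 * P + l) * w j)) •
        a j ^ P • T.m i ∈ J ^ (n + 1) • (⊤ : Submodule A M) :=
      Submodule.smul_mem_smul (hwu i j) trivial
    have h2 : ((a i * a j) ^ (l + P) * a j ^ (2 * P)) • (T.θ i (d i j) • T.m i - a i ^ (2 * P) • d i j) ∈
        J ^ (n + 1) • (⊤ : Submodule A M) := Submodule.smul_mem _ _ (T.span i n _ (hc i j))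
    have h3 : (a i ^ (Q + 2 * P + l) * w j) • (a j ^ P • T.m i - a i ^ P • T.m j) ∈
        J ^ (n + 1) • (⊤ : Submodule A M) := by
      have hsq := Submodule.smul_mem_smul (Ideal.mul_mem_left _ (a i ^ (Q + 2 * P + l)) (hw j))
        (T.compat i j)
      rwa [← Submodule.smul_assoc, smul_eq_mul, ← pow_succ] at hsq
    convert add_mem (sub_mem h1 h2) (neg_mem h3) using 1
    simp only [u, d, L, Q, P, smul_sub, smul_smul, sub_smul]
    match_scalars <;> ring

/-- A trivialisation modulo `J` lifts to a global section. -/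
theorem exists_global [IsNoetherianRing A] [Finite ι] (D : LineData a M) (T : TrivData a J M)
    (hG : GrH1 a J) (hs : Sep a M ⊥) (hg : Glue a M ⊥) (hBs : Sep a A ⊥) (hL : Lift a A J)
    (hV : Vanish a A J) :
    ∃ x : M, ∀ i, ∃ L : ℕ, a i ^ L • (a i ^ T.P • x - T.m i) ∈ J • (⊤ : Submodule A M) := by
  obtain ⟨n', hn'⟩ := D.retract.lift hs hg hBs hL hV 1
  have hall : ∀ n, 1 ≤ n → ∃ (e : ℕ) (μ : ι → M),
      (∀ i, μ i - a i ^ e • T.m i ∈ J • (⊤ : Submodule A M)) ∧
      ∀ i j, a j ^ (T.P + e) • μ i - a i ^ (T.P + e) • μ j ∈ J ^ n • (⊤ : Submodule A M) := by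
    intro n hn
    induction n, hn using Nat.le_induction with
    | base => exact ⟨0, T.m, fun i => by simp, fun i j => by simpa using T.compat i j⟩
    | succ n hn ih =>
      obtain ⟨e, μ, h1, h2⟩ := ih
      exact exists_step T hG hn μ h1 h2
  obtain ⟨e, μ, h1, h2⟩ := hall (max n' 1) (le_max_right _ _)
  obtain ⟨x, hx⟩ := hn' (T.P + e) μ fun i j => ⟨0, by
    simpa using Submodule.smul_mono_left (Ideal.pow_le_pow_right (le_max_left n' 1)) (h2 i j)⟩
  refine ⟨x, fun i => ?_⟩
  obtain ⟨l, hl⟩ := hx i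
  rw [pow_one] at hl
  refine ⟨l + e, ?_⟩
  convert add_mem hl (Submodule.smul_mem _ (a i ^ l) (h1 i)) using 1
  simp only [smul_sub, smul_smul]
  module

/-- A line with a trivialisation modulo `J` is trivial. -/
theorem exists_generator [IsNoetherianRing A] [IsLocalRing A] [Finite ι] (D : LineData a M)
    (T : TrivData a J M) (hJ : J ≠ ⊤) (hG : GrH1 a J) (hs : Sep a M ⊥) (hg : Glue a M ⊥)
    (hBs : Sep a A ⊥) (hBg : Glue a A ⊥) (hSep : ∀ n, Sep a A (J ^ n))
    (hGlue : ∀ n, Glue a A (J ^ n)) :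
    ∃ (x : M) (ψ : M →ₗ[A] A), ψ x = 1 ∧ ∀ y, y = ψ y • x := by
  have hL := lift_of_glue hGlue
  have hV := vanish_of_sep hSep
  obtain ⟨T', c, hP, hm⟩ := T.exists_dual D
  obtain ⟨x, hx⟩ := exists_global D T hG hs hg hBs hL hV
  obtain ⟨ψ, hψ⟩ := exists_global D.dual T' hG (sep_dual hBs) (glue_dual D hBs hBg) hBs hL hV
  have hnull : ψ x - 1 ∈ J := by
    refine pow_one J ▸ mem_smul_top_self.mp (hSep 1 _ fun i => ?_)
    obtain ⟨L, hL⟩ := hx i
    obtain ⟨L', hL'⟩ := hψ i
    let f : M →ₗ[A] A := T'.m i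
    let g : (M →ₗ[A] A) →ₗ[A] A := LinearMap.applyₗ x
    have h1 : f (a i ^ L • (a i ^ T.P • x - T.m i)) ∈ J :=
      (mem_smul_top_self (B := A)).mp (map_smul_top_mem (N := A) f hL)
    have h2 : g (a i ^ L' • (a i ^ T'.P • ψ - T'.m i)) ∈ J :=
      (mem_smul_top_self (B := A)).mp (map_smul_top_mem (N := A) g hL')
    simp only [f, g] at h1 h2
    rw [hm i] at h1 h2
    simp only [map_smul, map_sub, LinearMap.smul_apply, LinearMap.sub_apply, LinearMap.applyₗ_apply_apply,
      smul_eq_mul, hP] at h1 h2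
    refine ⟨L + L' + 2 * T.P + c, ?_⟩
    rw [pow_one, mem_smul_top_self, smul_eq_mul]
    convert add_mem (add_mem (Ideal.mul_mem_left J (a i ^ (L + T.P)) h2)
      (Ideal.mul_mem_left J (a i ^ L') h1))
      (Ideal.mul_mem_left J (a i ^ (L + L') * a i ^ c) (T.unit i)) using 1
    ring
  have hu : IsUnit (ψ x) := by
    by_contra h
    exact (maximalIdeal.isMaximal A).ne_top (Ideal.eq_top_of_isUnit_mem _
      (show (1 : A) ∈ maximalIdeal A from by
        simpa using sub_mem (show ψ x ∈ maximalIdeal A from h) (le_maximalIdeal hJ hnull)) isUnit_one)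
  obtain ⟨v, hv⟩ := hu.exists_left_inv
  refine ⟨x, v • ψ, by rw [LinearMap.smul_apply, smul_eq_mul, hv], fun y => ?_⟩
  let z := y - (v • ψ) y • x
  have hz : ψ z = 0 := by
    simp only [z, map_sub, map_smul, LinearMap.smul_apply, smul_eq_mul]
    linear_combination (-(ψ y)) * hv
  have hz0 : z = 0 := by
    have := hs z fun i => by
      refine ⟨D.k + D.k, ?_⟩
      rw [Submodule.bot_smul, Submodule.mem_bot]
      have h1 := congrArg ψ (D.span i z)
      have h2 := congrArg ψ (D.span i x)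
      rw [map_smul, map_smul, hz, smul_eq_mul, smul_eq_mul, mul_zero] at h1
      rw [map_smul, map_smul, smul_eq_mul, smul_eq_mul] at h2
      have h3 : a i ^ D.k * D.φ i z = 0 := by
        linear_combination (-(D.φ i z) * a i ^ D.k) * hv - (v * D.φ i z) * h2 + (v * D.φ i x) * h1
      rw [pow_add, ← smul_smul, ← D.span i z, smul_smul, h3, zero_smul]
    rwa [Submodule.bot_smul, Submodule.mem_bot] at this
  exact sub_eq_zero.mp hz0

end Groth.Agent.H80.Clopen
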