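import Groth.Agent.H80.Clopen.Basic
import Mathlib.Algebra.Module.FinitePresentation
import Mathlib.Algebra.Module.LocalizedModule.Submodule
import Mathlib.RingTheory.Localization.Away.Basic
import Mathlib.RingTheory.Noetherian.Basic

/-!
# Retracts from local projectivity
-/

set_option autoImplicit false

namespace Groth.Agent.H80.Clopen

variable {B : Type*} [CommRing B] {M : Type*} [AddCommGroup M] [Module B M]

section Local

variable (b : B) (Bl : Type*) [CommRing Bl] [Algebra B Bl] [IsLocalization.Away b Bl]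
  {Ml : Type*} [AddCommGroup Ml] [Module B Ml] [Module Bl Ml] [IsScalarTower B Bl Ml]
  (f : M →ₗ[B] Ml) [IsLocalizedModule (Submonoid.powers b) f] [Module.Finite Bl Ml]

include Bl f in
theorem exists_fg_cover : ∃ N : Submodule B M, N.FG ∧ ∀ x, ∃ l : ℕ, b ^ l • x ∈ N := by
  classical
  obtain ⟨t, ht⟩ := Module.Finite.fg_top (R := Bl) (M := Ml)
  choose num hnum using fun y : Ml => IsLocalizedModule.surj (Submonoid.powers b) f y
  let N : Submodule B M := Submodule.span B ((fun y => (num y).1) '' (t : Set Ml))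
  refine ⟨N, Submodule.fg_span ((t.finite_toSet).image _), fun x => ?_⟩
  have htop : N.localized' Bl (Submonoid.powers b) f = ⊤ := by
    rw [eq_top_iff, ← ht, Submodule.span_le]
    intro y hy
    refine (Submodule.mem_localized' _ _ _ _ _).mpr
      ⟨(num y).1, Submodule.subset_span ⟨y, hy, rfl⟩, (num y).2, ?_⟩
    rw [IsLocalizedModule.mk'_eq_iff]
    exact (hnum y).symm
  obtain ⟨m, hm, s, hs⟩ := (Submodule.mem_localized' Bl (Submonoid.powers b) f N (f x)).mp
    (htop ▸ Submodule.mem_top)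
  rw [IsLocalizedModule.mk'_eq_iff, Submonoid.smul_def, ← map_smul,
    IsLocalizedModule.eq_iff_exists (Submonoid.powers b) f] at hs
  obtain ⟨⟨_, j, rfl⟩, hc⟩ := hs
  obtain ⟨i, hi⟩ := s.2
  refine ⟨j + i, ?_⟩
  rw [pow_add, mul_smul, show b ^ i = (s : B) from hi]
  exact hc ▸ N.smul_mem _ hm

include Bl f in
theorem exists_local_retract [IsNoetherianRing B] [Module.Projective Bl Ml] {N : Submodule B M}
    (hN : N.FG) :
    ∃ (r : ℕ) (h : N →ₗ[B] (Fin r → B)) (S : (Fin r → B) →ₗ[B] M) (k : ℕ),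
      ∀ x : N, S (h x) = b ^ k • (x : M) := by
  classical
  obtain ⟨r, π, hπ⟩ := Module.Finite.exists_fin' Bl Ml
  obtain ⟨σ, hσ⟩ := Module.projective_lifting_property π LinearMap.id hπ
  have : Module.Finite B N := Module.Finite.iff_fg.mpr hN
  have : Module.FinitePresentation B N := Module.finitePresentation_of_finite B N
  let g : Fin r → (N →ₗ[B] Bl) := fun t =>
    (LinearMap.proj t ∘ₗ σ.restrictScalars B) ∘ₗ f ∘ₗ N.subtype
  choose h s hs using fun t => Module.FinitePresentation.exists_lift_of_isLocalizedModule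
    (Submonoid.powers b) (Algebra.linearMap B Bl) (g t)
  choose e he using fun t => (s t).2
  let E := Finset.univ.sup e
  let h' : N →ₗ[B] (Fin r → B) := LinearMap.pi fun t => b ^ (E - e t) • h t
  choose num hnum using fun t : Fin r =>
    IsLocalizedModule.surj (Submonoid.powers b) f (π (Pi.single t 1))
  choose d hd using fun t => (num t).2.2
  let D := Finset.univ.sup d
  let S : (Fin r → B) →ₗ[B] M := ∑ t, (LinearMap.proj t).smulRight (b ^ (D - d t) • (num t).1)
  have key : ∀ x : N, f (S (h' x)) = f (b ^ (E + D) • (x : M)) := fun x => by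
    have h1 : ∀ t, algebraMap B Bl (h' x t) = b ^ E • σ (f x) t := fun t => by
      have := DFunLike.congr_fun (hs t) x
      simp only [LinearMap.coe_comp, Function.comp_apply, Algebra.linearMap_apply, g,
        LinearMap.smul_apply, Submonoid.smul_def] at this
      simp only [h', LinearMap.pi_apply, LinearMap.smul_apply, smul_eq_mul, map_mul,
        ← he t, this]
      rw [← Algebra.smul_def, smul_smul, ← pow_add,
        Nat.sub_add_cancel (Finset.le_sup (Finset.mem_univ t))]
      rfl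
    have h2 : ∀ t, f (b ^ (D - d t) • (num t).1) = b ^ D • π (Pi.single t 1) := fun t => by
      rw [map_smul, ← hnum t, Submonoid.smul_def, ← hd t, smul_smul, ← pow_add,
        Nat.sub_add_cancel (Finset.le_sup (Finset.mem_univ t))]
    have h3 : π (σ (f x)) = f x := LinearMap.congr_fun hσ (f x)
    conv_rhs => rw [map_smul, ← h3, pi_eq_sum_univ' (σ (f x)), map_sum, Finset.smul_sum]
    simp only [S, LinearMap.sum_apply, LinearMap.smulRight_apply, map_sum, LinearMap.proj_apply]
    refine Finset.sum_congr rfl fun t _ => ?_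
    rw [map_smul f (h' x t), h2, ← algebraMap_smul Bl (h' x t), h1, map_smul π, smul_assoc,
      smul_comm (σ (f x) t) (b ^ D), smul_smul, ← pow_add]
  have hloc : ∀ x : N, ∃ l : ℕ, b ^ l • (S (h' x) - b ^ (E + D) • (x : M)) = 0 := fun x => by
    obtain ⟨⟨_, l, rfl⟩, hl⟩ := (IsLocalizedModule.eq_iff_exists (Submonoid.powers b) f).mp (key x)
    exact ⟨l, by rw [smul_sub]; exact sub_eq_zero.mpr hl⟩
  obtain ⟨G, hG⟩ := hN
  let gen : G → N := fun y => ⟨y, hG ▸ Submodule.subset_span y.2⟩
  obtain ⟨L, hL⟩ := exists_common (⊥ : Submodule B M) (fun _ : G => b)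
    (fun y => S (h' (gen y)) - b ^ (E + D) • (y : M))
    fun y => (hloc (gen y)).imp fun l hl => (Submodule.mem_bot B).mpr hl
  refine ⟨r, h', b ^ L • S, L + (E + D), fun x => ?_⟩
  have : x ∈ Submodule.span B (Set.range gen) := by
    rw [← Submodule.comap_map_eq_of_injective (f := N.subtype) N.subtype_injective
      (Submodule.span B (Set.range gen)), Submodule.mem_comap, Submodule.map_span, ← Set.range_comp]
    change (x : M) ∈ Submodule.span B (Set.range fun y : G => (y : M))
    rw [Subtype.range_coe_subtype, Finset.setOf_mem, hG]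
    exact x.2
  induction this using Submodule.span_induction with
  | mem _ hy =>
    obtain ⟨y, rfl⟩ := hy
    have := (Submodule.mem_bot B).mp (hL y)
    rw [smul_sub, sub_eq_zero] at this
    simp only [LinearMap.smul_apply, gen] at this ⊢
    rw [this, smul_smul, ← pow_add]
  | zero => simp
  | add y z _ _ hy hz => simp only [map_add, hy, hz, Submodule.coe_add, smul_add]
  | smul c y _ hy => simp only [map_smul, hy, Submodule.coe_smul, smul_comm c]

end Local

variable {ι : Type*} [Finite ι] {a : ι → B}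

/-- Maps from a submodule covering `M` locally extend to `M`. -/
theorem exists_extension (hs : Sep a B ⊥) (hg : Glue a B ⊥) {N : Submodule B M}
    (hN : ∀ i x, ∃ l : ℕ, a i ^ l • x ∈ N) (ψ : N →ₗ[B] B) :
    ∃ Ψ : M →ₗ[B] B, Ψ ∘ₗ N.subtype = ψ := by
  let P : M → B → Prop := fun x y =>
    ∀ i, ∃ (L : ℕ) (h : a i ^ L • x ∈ N), a i ^ L * y = ψ ⟨_, h⟩
  have shift : ∀ (c : B) (x : M) (d L : ℕ) (h : c ^ L • x ∈ N) (h' : c ^ (d + L) • x ∈ N),
      ψ ⟨_, h'⟩ = c ^ d * ψ ⟨_, h⟩ := fun c x d L h h' => by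
    rw [← smul_eq_mul, ← map_smul]
    congr 1
    exact Subtype.ext (by simp [smul_smul, pow_add])
  have raise : ∀ {x y} i {L L'} (h : a i ^ L • x ∈ N), L ≤ L' → a i ^ L * y = ψ ⟨_, h⟩ →
      ∃ h' : a i ^ L' • x ∈ N, a i ^ L' * y = ψ ⟨_, h'⟩ := fun {x y} i L L' h hL he => by
    obtain ⟨d, rfl⟩ : ∃ d, L' = d + L := ⟨L' - L, (Nat.sub_add_cancel hL).symm⟩
    exact ⟨smul_pow_mem_of_le h hL, by rw [shift _ _ d L h, ← he, pow_add, mul_assoc]⟩
  have uniq : ∀ {x y y'}, P x y → P x y' → y = y' := fun {x y y'} h h' => sub_eq_zero.mp <| by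
    refine Ideal.mem_bot.mp (mem_smul_top_self.mp (hs _ fun i => ?_))
    obtain ⟨L, hx, he⟩ := h i
    obtain ⟨L', hx', he'⟩ := h' i
    obtain ⟨_, e1⟩ := raise i hx (le_max_left L L') he
    obtain ⟨_, e2⟩ := raise i hx' (le_max_right L L') he'
    refine ⟨max L L', mem_smul_top_self.mpr (Ideal.mem_bot.mpr ?_)⟩
    rw [smul_eq_mul, mul_sub, e1, e2, sub_self]
  have ex : ∀ x, ∃ y, P x y := fun x => by
    obtain ⟨L, hL⟩ := exists_common N a (fun _ => x) fun i => hN i x
    obtain ⟨y, hy⟩ := hg L (fun i => ψ ⟨_, hL i⟩) fun i j => ⟨0, by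
      rw [pow_zero, one_smul, mem_smul_top_self, Ideal.mem_bot, ← map_smul, ← map_smul, sub_eq_zero]
      congr 1
      exact Subtype.ext (smul_comm _ _ _)⟩
    refine ⟨y, fun i => ?_⟩
    obtain ⟨l, hl⟩ := hy i
    rw [mem_smul_top_self, Ideal.mem_bot, smul_sub, sub_eq_zero] at hl
    refine ⟨l + L, smul_pow_mem_of_le (hL i) (Nat.le_add_left _ _), ?_⟩
    rw [shift _ _ l L (hL i), pow_add, mul_assoc]
    simpa only [smul_eq_mul] using hl
  choose F hF using ex
  have hadd : ∀ x x', F (x + x') = F x + F x' := fun x x' => uniq (hF _) fun i => by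
    obtain ⟨L, hx, he⟩ := hF x i
    obtain ⟨L', hx', he'⟩ := hF x' i
    obtain ⟨h1, e1⟩ := raise i hx (le_max_left L L') he
    obtain ⟨h2, e2⟩ := raise i hx' (le_max_right L L') he'
    refine ⟨max L L', smul_add (a i ^ max L L') x x' ▸ add_mem h1 h2, ?_⟩
    rw [mul_add, e1, e2, ← map_add]
    congr 1
    exact Subtype.ext (smul_add _ _ _).symm
  have hsmul : ∀ (c : B) x, F (c • x) = c * F x := fun c x => uniq (hF _) fun i => by
    obtain ⟨L, hx, he⟩ := hF x i
    refine ⟨L, smul_comm c (a i ^ L) x ▸ N.smul_mem c hx, ?_⟩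
    rw [mul_left_comm, he, ← smul_eq_mul, ← map_smul]
    congr 1
    exact Subtype.ext (smul_comm c _ x)
  refine ⟨⟨⟨F, hadd⟩, hsmul⟩, LinearMap.ext fun x => uniq (hF x) fun i => ?_⟩
  refine ⟨0, by simp, ?_⟩
  simp

/-- A module which is locally a direct summand of a finite free module is globally a retract. -/
theorem exists_retract (hBs : Sep a B ⊥) (hBg : Glue a B ⊥) (hs : Sep a M ⊥)
    {N : Submodule B M} (hN : ∀ i x, ∃ l : ℕ, a i ^ l • x ∈ N)
    (h : ∀ i, ∃ (r : ℕ) (h : N →ₗ[B] (Fin r → B)) (S : (Fin r → B) →ₗ[B] M) (k : ℕ),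
      ∀ x : N, S (h x) = a i ^ k • (x : M)) :
    ∃ (κ : Type) (_ : Finite κ), Nonempty (Retract a M κ) := by
  classical
  have := Fintype.ofFinite ι
  choose r h S k hk using h
  choose H hH using fun i t => exists_extension hBs hBg hN (LinearMap.proj t ∘ₗ h i)
  let K := Finset.univ.sup k
  have key : ∀ i x, S i (fun t => H i t x) = a i ^ k i • x := fun i x => by
    suffices hn : Null a ⊥ (S i (fun t => H i t x) - a i ^ k i • x) from
      sub_eq_zero.mp (by simpa using hs _ hn)
    intro j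
    obtain ⟨l, hl⟩ := hN j x
    refine ⟨l, ?_⟩
    rw [Submodule.bot_smul, Submodule.mem_bot]
    have e : (fun t => H i t (a j ^ l • x)) = h i ⟨_, hl⟩ :=
      funext fun t => LinearMap.congr_fun (hH i t) ⟨_, hl⟩
    rw [smul_sub, sub_eq_zero, ← map_smul, smul_comm (a j ^ l), ← hk i ⟨_, hl⟩, ← e]
    congr 1
    funext t
    simp
  let e := Fintype.equivFin ι
  refine ⟨Σ j : Fin (Fintype.card ι), Fin (r (e.symm j)), inferInstance, ⟨{
    Φ := LinearMap.pi fun t => H _ t.2
    S := fun i => (a (e.symm (e i)) ^ (K - k (e.symm (e i)))) •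
      (S (e.symm (e i)) ∘ₗ LinearMap.funLeft B B (fun t => (⟨e i, t⟩ : Σ j, Fin (r (e.symm j)))))
    k := K
    retract := fun i x => ?_ }⟩⟩
  have := key (e.symm (e i)) x
  simp only [LinearMap.smul_apply, LinearMap.coe_comp, Function.comp_apply]
  rw [show LinearMap.funLeft B B (fun t => (⟨e i, t⟩ : Σ j, Fin (r (e.symm j))))
      (LinearMap.pi (fun t => H (e.symm t.1) t.2) x) = fun t => H (e.symm (e i)) t x from rfl, this,
    smul_smul, ← pow_add, Nat.sub_add_cancel (Finset.le_sup (Finset.mem_univ _)), e.symm_apply_apply]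

end Groth.Agent.H80.Clopen
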