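import Groth.Agent.H80.Clopen.Basic
import Mathlib.AlgebraicGeometry.Morphisms.QuasiSeparated

/-!
# Global sections of a scheme covered by basic opens
-/

set_option autoImplicit false

universe u

open CategoryTheory AlgebraicGeometry Opposite

namespace Groth.Agent.H80.Clopen

variable {B : Type u} [CommRing B] {ι : Type*} (a : ι → B) (X : Scheme.{u}) [CompactSpace X]
  [QuasiSeparatedSpace X] [Algebra B Γ(X, ⊤)]
  (hcov : ⨆ i, X.basicOpen (algebraMap B Γ(X, ⊤) (a i)) = ⊤)

/-- Restriction to a basic open. -/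
noncomputable abbrev res {U V : X.Opens} (h : U ≤ V) : Γ(X, V) →+* Γ(X, U) :=
  (X.presheaf.map (homOfLE h).op).hom

omit [CompactSpace X] [QuasiSeparatedSpace X] [Algebra B Γ(X, ⊤)] in
theorem res_res {U V W : X.Opens} (h : U ≤ V) (h' : V ≤ W) (s : Γ(X, W)) :
    res X h (res X h' s) = res X (h.trans h') s := by
  rw [res, res, res, ← CommRingCat.comp_apply, ← X.presheaf.map_comp]
  rfl

omit [Algebra B Γ(X, ⊤)] in
theorem exists_pow_mul_eq_zero (f s : Γ(X, ⊤)) (h : res X (le_top : X.basicOpen f ≤ ⊤) s = 0) :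
    ∃ l : ℕ, f ^ l * s = 0 := by
  have := isLocalization_basicOpen_of_qcqs (X := X) (U := ⊤) isCompact_univ isQuasiSeparated_univ f
  obtain ⟨l, hl⟩ := IsLocalization.Away.exists_of_eq (S := Γ(X, X.basicOpen f)) f (a := s) (b := 0)
    (show res X le_top s = res X le_top 0 from h.trans (map_zero _).symm)
  exact ⟨l, by simpa using hl⟩

omit [CompactSpace X] [QuasiSeparatedSpace X] in
include hcov in
theorem sep_sections : Sep a Γ(X, ⊤) ⊥ := fun x hx => by
  rw [Submodule.bot_smul, Submodule.mem_bot]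
  refine TopCat.Sheaf.eq_of_locally_eq' X.sheaf _ ⊤ (fun i => homOfLE le_top) hcov.ge x 0 fun i => ?_
  obtain ⟨l, hl⟩ := hx i
  rw [Submodule.bot_smul, Submodule.mem_bot, Algebra.smul_def] at hl
  have := congrArg (res X (le_top : X.basicOpen (algebraMap B Γ(X, ⊤) (a i)) ≤ ⊤)) hl
  rw [map_mul, map_zero, map_pow, map_pow] at this
  exact ((IsUnit.mul_right_eq_zero
    ((X.toRingedSpace.isUnit_res_basicOpen (algebraMap B Γ(X, ⊤) (a i))).pow l)).mp this).trans
    (map_zero _).symm

include hcov in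
theorem glue_sections : Glue a Γ(X, ⊤) ⊥ := by
  intro k m hm
  let α : ι → Γ(X, ⊤) := fun i => algebraMap B Γ(X, ⊤) (a i)
  have hu : ∀ i, IsUnit (res X (le_top : X.basicOpen (α i) ≤ ⊤) (α i)) :=
    fun i => X.toRingedSpace.isUnit_res_basicOpen (α i)
  choose v hv using fun i => ((hu i).pow k)
  let s : ∀ i, Γ(X, X.basicOpen (α i)) := fun i => res X (le_top : X.basicOpen (α i) ≤ ⊤) (m i) * ↑(v i)⁻¹
  have hs : ∀ i, res X le_top (α i) ^ k * s i = res X le_top (m i) := fun i => by
    simp only [s]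
    rw [← hv i, mul_left_comm, Units.mul_inv, mul_one]
  have hc : TopCat.Presheaf.IsCompatible X.sheaf.1 (fun i => X.basicOpen (α i)) s := fun i j => by
    change res X inf_le_left (s i) = res X inf_le_right (s j)
    have h1 := congrArg (res X (inf_le_left : X.basicOpen (α i) ⊓ X.basicOpen (α j) ≤ _)) (hs i)
    have h2 := congrArg (res X (inf_le_right : X.basicOpen (α i) ⊓ X.basicOpen (α j) ≤ _)) (hs j)
    rw [map_mul, map_pow, res_res, res_res] at h1 h2
    obtain ⟨l, hl⟩ := hm i j
    rw [Submodule.bot_smul, Submodule.mem_bot] at hl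
    have h3 := congrArg (res X (le_top : X.basicOpen (α i) ⊓ X.basicOpen (α j) ≤ ⊤)) hl
    simp only [Algebra.smul_def, map_mul, map_sub, map_pow, map_zero] at h3
    have ui := (hu i).map (res X (inf_le_left : X.basicOpen (α i) ⊓ X.basicOpen (α j) ≤ _))
    have uj := (hu j).map (res X (inf_le_right : X.basicOpen (α i) ⊓ X.basicOpen (α j) ≤ _))
    rw [res_res] at ui uj
    have h4 := ((ui.mul uj).pow l).mul_right_eq_zero.mp h3
    refine ((ui.pow k).mul (uj.pow k)).mul_left_cancel ?_
    linear_combination h4 + (res X le_top (α j)) ^ k * h1 - (res X le_top (α i)) ^ k * h2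
  obtain ⟨x, hx, -⟩ := X.sheaf.existsUnique_gluing' (fun i => X.basicOpen (α i)) ⊤
    (fun i => homOfLE le_top) hcov.ge s hc
  let x' : Γ(X, ⊤) := x
  refine ⟨x', fun i => ?_⟩
  obtain ⟨l, hl⟩ := exists_pow_mul_eq_zero X (α i) (α i ^ k * x' - m i) (by
    rw [map_sub, map_mul, map_pow, show res X le_top x' = s i from hx i, hs, sub_self])
  refine ⟨l, ?_⟩
  rw [Submodule.bot_smul, Submodule.mem_bot, Algebra.smul_def, Algebra.smul_def, map_pow, map_pow]
  exact hl

end Groth.Agent.H80.Clopen
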