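import Groth.Agent.H80.Clopen.Idem
import Groth.Agent.H80.Clopen.Retract
import Groth.Agent.H80.Clopen.Sections
import Groth.Agent.Lib.FEt.FullyFaithful
import Mathlib.AlgebraicGeometry.QuasiAffine
import Mathlib.RingTheory.Flat.EquationalCriterion
import Mathlib.RingTheory.Finiteness.ModuleFinitePresentation

/-!
# Finite etale covers of an open of `Spec B` and of its trace on `V(J)`

No cohomology: the hypotheses on `B` are `Sep`, `Glue`, `Lift`, `Vanish` for the charts `a`.
-/

set_option autoImplicit false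
set_option backward.isDefEq.respectTransparency false

universe u

open CategoryTheory CategoryTheory.Limits AlgebraicGeometry

namespace Groth.Agent.H80.Clopen

variable {B : Type u} [CommRing B] [IsNoetherianRing B] {ι : Type} [Finite ι] {a : ι → B}
  {U : (Spec (CommRingCat.of B)).Opens}

/-- The structure map of the ring of functions on a cover. -/
noncomputable abbrev str {W : Scheme.{u}} (v : W ⟶ Spec (CommRingCat.of B)) : B →+* Γ(W, ⊤) :=
  ((Scheme.ΓSpecIso (CommRingCat.of B)).inv ≫ v.appTop).hom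

omit [IsNoetherianRing B] in
theorem basicOpen_str {W : Scheme.{u}} (v : W ⟶ Spec (CommRingCat.of B)) (b : B) :
    W.basicOpen (str v b) = v ⁻¹ᵁ PrimeSpectrum.basicOpen b := by
  rw [← basicOpen_eq_of_affine (R := CommRingCat.of B) b]
  exact (Scheme.preimage_basicOpen_top v _).symm

omit [IsNoetherianRing B] in
theorem asIdeal_apply {W : Scheme.{u}} (v : W ⟶ Spec (CommRingCat.of B)) (w : W) :
    ((v.base w : Spec (CommRingCat.of B)) : PrimeSpectrum B).asIdeal =
      ((W.toSpecΓ.base w : Spec Γ(W, ⊤)) : PrimeSpectrum Γ(W, ⊤)).asIdeal.comap (str v) := by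
  have hfac : v = W.toSpecΓ ≫ Spec.map (CommRingCat.ofHom (str v)) := by
    rw [str, CommRingCat.ofHom_hom, Spec.map_comp, ← Scheme.toSpecΓ_naturality_assoc,
      toSpecΓ_SpecMap_ΓSpecIso_inv, Category.comp_id]
  conv_lhs => rw [hfac]
  rfl

omit [IsNoetherianRing B] in
theorem isLocalization_of_eq {W : Scheme.{u}} [CompactSpace W] [QuasiSeparatedSpace W] {V : W.Opens}
    (f : Γ(W, ⊤)) (hV : V = W.basicOpen f) :
    @IsLocalization.Away _ _ f Γ(W, V) _ (W.presheaf.map (homOfLE le_top).op).hom.toAlgebra := by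
  subst hV
  exact isLocalization_basicOpen_of_qcqs (X := W) (U := ⊤) isCompact_univ isQuasiSeparated_univ f

theorem isLocalization_spec (R : CommRingCat.{u}) (f : R) :
    @IsLocalization.Away _ _ f Γ(Spec R, PrimeSpectrum.basicOpen f) _
      ((Scheme.ΓSpecIso R).inv ≫ (Spec R).presheaf.map (homOfLE le_top).op).hom.toAlgebra := by
  convert! StructureSheaf.IsLocalization.to_basicOpen R f using 1
  exact Algebra.algebra_ext _ _ fun r => rfl

/-- The basic opens of `a` cover exactly `U`. -/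
structure Cover (a : ι → B) (U : (Spec (CommRingCat.of B)).Opens) : Prop where
  mem_iff : ∀ p : Spec (CommRingCat.of B), p ∈ U ↔ ∃ i, a i ∉ (p : PrimeSpectrum B).asIdeal

/-- The hypotheses on the base. -/
structure Charts (a : ι → B) (U : (Spec (CommRingCat.of B)).Opens) : Prop extends Cover a U where
  sep : Sep a B ⊥
  glue : Glue a B ⊥

variable (hU : Cover a U) {W : Scheme.{u}} (q : W ⟶ (U : Scheme.{u})) (hq : FEt.prop.{u} q)
include hU hq

theorem compactSpace_cover : CompactSpace W ∧ QuasiSeparatedSpace W := by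
  have : IsFinite q := hq.1
  have : CompactSpace ↥(U : Scheme.{u}) := isCompact_iff_compactSpace.mp
    (TopologicalSpace.NoetherianSpace.isCompact (α := PrimeSpectrum B) _)
  exact ⟨QuasiCompact.compactSpace_of_compactSpace q, quasiSeparatedSpace_of_quasiSeparated q⟩

theorem iSup_basicOpen : ⨆ i, W.basicOpen (str (q ≫ U.ι) (a i)) = ⊤ := top_le_iff.mp fun w _ => by
  obtain ⟨i, hi⟩ := (hU.mem_iff _).mp (q.base w).2
  refine TopologicalSpace.Opens.mem_iSup.mpr ⟨i, ?_⟩
  rw [basicOpen_str]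
  exact hi

omit [Finite ι] in
theorem isAffineOpen_chart (i : ι) :
    IsAffineOpen (U.ι ⁻¹ᵁ PrimeSpectrum.basicOpen (a i)) := by
  refine IsAffineOpen.preimage_of_isOpenImmersion (f := U.ι) ?_ ?_
  · rw [← basicOpen_eq_of_affine (R := CommRingCat.of B) (a i)]
    exact (isAffineOpen_top _).basicOpen _
  · rw [Scheme.Opens.opensRange_ι]
    exact fun p hp => (hU.mem_iff p).mpr ⟨i, hp⟩

theorem quasiAffine : W.IsQuasiAffine := by
  obtain ⟨_, _⟩ := compactSpace_cover hU q hq
  have : IsFinite q := hq.1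
  refine Scheme.IsQuasiAffine.of_forall_exists_mem_basicOpen _ fun w => ?_
  obtain ⟨i, hi⟩ := TopologicalSpace.Opens.mem_iSup.mp
    ((iSup_basicOpen hU q hq).ge (Set.mem_univ w))
  refine ⟨_, ?_, hi⟩
  rw [basicOpen_str]
  exact (isAffineOpen_chart hU q hq i).preimage q

theorem exists_local (i : ι) :
    letI := (str (q ≫ U.ι)).toAlgebra
    (∃ N : Submodule B Γ(W, ⊤), N.FG ∧ ∀ x, ∃ l : ℕ, a i ^ l • x ∈ N) ∧
    ∀ N : Submodule B Γ(W, ⊤), N.FG → ∃ (r : ℕ) (h : N →ₗ[B] (Fin r → B))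
      (S : (Fin r → B) →ₗ[B] Γ(W, ⊤)) (k : ℕ), ∀ x : N, S (h x) = a i ^ k • (x : Γ(W, ⊤)) := by
  let := (str (q ≫ U.ι)).toAlgebra
  obtain ⟨_, _⟩ := compactSpace_cover hU q hq
  have : IsFinite q := hq.1
  have : Etale q := hq.2
  let D : (Spec (CommRingCat.of B)).Opens := PrimeSpectrum.basicOpen (a i)
  let V : W.Opens := (q ≫ U.ι) ⁻¹ᵁ D
  let : Algebra Γ(W, ⊤) Γ(W, V) := (W.presheaf.map (homOfLE (le_top : V ≤ ⊤)).op).hom.toAlgebra
  let : Algebra B Γ(W, V) :=
    ((algebraMap Γ(W, ⊤) Γ(W, V)).comp (algebraMap B Γ(W, ⊤))).toAlgebra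
  have : IsScalarTower B Γ(W, ⊤) Γ(W, V) := IsScalarTower.of_algebraMap_eq' rfl
  have : IsLocalization.Away (algebraMap B Γ(W, ⊤) (a i)) Γ(W, V) :=
    isLocalization_of_eq _ (basicOpen_str (q ≫ U.ι) (a i)).symm
  have : IsLocalization (Algebra.algebraMapSubmonoid Γ(W, ⊤) (Submonoid.powers (a i))) Γ(W, V) := by
    rw [Algebra.algebraMapSubmonoid, Submonoid.map_powers]
    exact this
  let Bl := Γ(Spec (CommRingCat.of B), D)
  let : Algebra B Bl := ((Scheme.ΓSpecIso (CommRingCat.of B)).inv ≫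
    (Spec (CommRingCat.of B)).presheaf.map (homOfLE (le_top : D ≤ ⊤)).op).hom.toAlgebra
  let ψ : Bl →+* Γ(W, V) := ((q ≫ U.ι).app D).hom
  let : Algebra Bl Γ(W, V) := ψ.toAlgebra
  have : IsScalarTower B Bl Γ(W, V) := by
    refine IsScalarTower.of_algebraMap_eq' ?_
    change (W.presheaf.map _).hom.comp (str (q ≫ U.ι)) = ψ.comp (algebraMap B Bl)
    rw [RingHom.algebraMap_toAlgebra, str]
    simp only [ψ]
    rw [← CommRingCat.hom_comp, ← CommRingCat.hom_comp]
    congr 1
    rw [Category.assoc, Category.assoc]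
    congr 1
    exact ((q ≫ U.ι).naturality _).symm
  have : IsLocalization.Away (a i) Bl := isLocalization_spec (CommRingCat.of B) (a i)
  have hD : IsIso (U.ι.app D) := U.ι.isIso_app D (by
    rw [Scheme.Opens.opensRange_ι]
    exact fun p hp => (hU.mem_iff p).mpr ⟨i, hp⟩)
  have hiso : (U.ι.app D).hom.Finite ∧ (U.ι.app D).hom.Etale :=
    ⟨RingHom.Finite.of_surjective _ (ConcreteCategory.bijective_of_isIso (U.ι.app D)).2,
      RingHom.Etale.of_bijective (ConcreteCategory.bijective_of_isIso (U.ι.app D))⟩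
  have hfin : ψ.Finite := by
    change ((q ≫ U.ι).app D).hom.Finite
    rw [Scheme.Hom.comp_app]
    exact (IsFinite.finite_app q _ (isAffineOpen_chart hU q hq i)).comp hiso.1
  have het : ψ.Etale := by
    change ((q ≫ U.ι).app D).hom.Etale
    rw [Scheme.Hom.comp_app]
    refine RingHom.Etale.stableUnderComposition _ _ hiso.2 ?_
    rw [Scheme.Hom.app_eq_appLE]
    exact HasRingHomProperty.appLE @Etale q inferInstance ⟨_, isAffineOpen_chart hU q hq i⟩
      ⟨_, (isAffineOpen_chart hU q hq i).preimage q⟩ le_rfl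
  have : Module.Finite Bl Γ(W, V) := hfin
  have : Algebra.Etale Bl Γ(W, V) := het
  have : Module.FinitePresentation Bl Γ(W, V) :=
    Module.FinitePresentation.of_finite_of_finitePresentation Bl Γ(W, V)
  have : Module.Projective Bl Γ(W, V) := Module.Flat.projective_of_finitePresentation
  let f : Γ(W, ⊤) →ₗ[B] Γ(W, V) := (IsScalarTower.toAlgHom B Γ(W, ⊤) Γ(W, V)).toLinearMap
  exact ⟨exists_fg_cover (a i) Bl f, fun N hN => exists_local_retract (a i) Bl f hN⟩

theorem exists_props (hB : Charts a U) :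
    letI := (str (q ≫ U.ι)).toAlgebra
    Module.Finite B Γ(W, ⊤) ∧ Sep a Γ(W, ⊤) ⊥ ∧ Glue a Γ(W, ⊤) ⊥ ∧
      ∀ J : Ideal B, Lift a B J → Vanish a B J → Lift a Γ(W, ⊤) J ∧ Vanish a Γ(W, ⊤) J := by
  let := (str (q ≫ U.ι)).toAlgebra
  obtain ⟨_, _⟩ := compactSpace_cover hU q hq
  have hs := sep_sections a W (iSup_basicOpen hU q hq)
  have hg := glue_sections a W (iSup_basicOpen hU q hq)
  choose N hN hcov using fun i => (exists_local hU q hq i).1
  have hsup : (⨆ i, N i).FG := Submodule.fg_iSup _ hN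
  obtain ⟨κ, _, ⟨r⟩⟩ := exists_retract hB.sep hB.glue hs (N := ⨆ i, N i)
    (fun i x => (hcov i x).imp fun l hl => Submodule.mem_iSup_of_mem i hl)
    fun i => (exists_local hU q hq i).2 _ hsup
  exact ⟨Retract.finite hs r, hs, hg, fun J hL hV =>
    ⟨r.lift hs hg hB.sep hL hV, r.vanish hs hV⟩⟩

omit hq in
/-- The points of a cover lying over a chart. -/
theorem exists_preimage (w : W) : ∃ i,
    letI := (str (q ≫ U.ι)).toAlgebra
    algebraMap B Γ(W, ⊤) (a i) ∉ ((W.toSpecΓ.base w : Spec Γ(W, ⊤)) : PrimeSpectrum Γ(W, ⊤)).asIdeal := by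
  obtain ⟨i, hi⟩ := (hU.mem_iff _).mp (q.base w).2
  refine ⟨i, fun h => hi ?_⟩
  change a i ∈ ((((q ≫ U.ι).base w) : Spec (CommRingCat.of B)) : PrimeSpectrum B).asIdeal
  rw [asIdeal_apply]
  exact h

theorem mem_range_toSpecΓ (i : ι) (p : PrimeSpectrum Γ(W, ⊤))
    (hp : str (q ≫ U.ι) (a i) ∉ p.asIdeal) : p ∈ Set.range W.toSpecΓ.base := by
  obtain ⟨_, _⟩ := compactSpace_cover hU q hq
  have : IsFinite q := hq.1
  let f := str (q ≫ U.ι) (a i)
  have haff : IsAffineOpen (W.basicOpen f) := by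
    rw [basicOpen_str]
    exact (isAffineOpen_chart hU q hq i).preimage q
  have := isLocalization_basicOpen_of_qcqs (X := W) (U := ⊤) isCompact_univ isQuasiSeparated_univ f
  obtain ⟨r, rfl⟩ : p ∈ Set.range
      (PrimeSpectrum.comap (W.presheaf.map (homOfLE (le_top : W.basicOpen f ≤ ⊤)).op).hom) := by
    have := PrimeSpectrum.localization_away_comap_range Γ(W, W.basicOpen f) f
    exact this.symm ▸ hp
  have hiso : IsIso (W.basicOpen f).toSpecΓ := (IsAffineOpen.isoSpec haff).isIso_hom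
  obtain ⟨w, hw⟩ := (W.basicOpen f).toSpecΓ.surjective r
  refine ⟨(W.basicOpen f).ι.base w, ?_⟩
  rw [← Scheme.Hom.comp_apply, ← Scheme.Opens.toSpecΓ_SpecMap_presheaf_map_top, Scheme.Hom.comp_apply,
    hw]
  rfl

/-- A relatively clopen part of a cover over `V(J)` is cut out by a clopen of the cover. -/
theorem exists_clopen (hB : Charts a U) (J : Ideal B) [HenselianRing B J] (hL : Lift a B J) (hV : Vanish a B J)
    {P : Type u} [TopologicalSpace P] (f : P → W) (hf : Topology.IsEmbedding f)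
    (hrange : Set.range f = {w | J ≤ (((q ≫ U.ι).base w : Spec (CommRingCat.of B)) :
      PrimeSpectrum B).asIdeal}) (C : Set P) (hC : IsClopen C) :
    ∃ D : Set W, IsClopen D ∧ f ⁻¹' D = C ∧
      ((∀ x, x ∉ C) → D = ∅) := by
  let := (str (q ≫ U.ι)).toAlgebra
  obtain ⟨_, -, -, hprop⟩ := exists_props hU q hq hB
  obtain ⟨hL', hV'⟩ := hprop J hL hV
  have := quasiAffine hU q hq
  let e : P → PrimeSpectrum Γ(W, ⊤) := fun x => W.toSpecΓ.base (f x)
  have he : Topology.IsEmbedding e := W.toSpecΓ.isOpenEmbedding.isEmbedding.comp hf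
  have hsub : ∀ i, chartSet a Γ(W, ⊤) J i ⊆ Set.range e := by
    rintro i p ⟨hp1, hp2⟩
    obtain ⟨w, rfl⟩ := mem_range_toSpecΓ hU q hq i p hp1
    obtain ⟨x, rfl⟩ : w ∈ Set.range f := by
      rw [hrange]
      change J ≤ (((q ≫ U.ι).base w : Spec (CommRingCat.of B)) : PrimeSpectrum B).asIdeal
      rw [asIdeal_apply]
      exact Ideal.map_le_iff_le_comap.mp hp2
    exact ⟨x, rfl⟩
  have hmemi : ∀ x, ∃ i, e x ∈ chartSet a Γ(W, ⊤) J i := fun x => by
    obtain ⟨i, hi⟩ := exists_preimage hU q (f x)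
    refine ⟨i, hi, Ideal.map_le_iff_le_comap.mpr ?_⟩
    have := hrange ▸ Set.mem_range_self (f := f) x
    change J ≤ (((q ≫ U.ι).base (f x) : Spec (CommRingCat.of B)) : PrimeSpectrum B).asIdeal at this
    rwa [asIdeal_apply] at this
  have hC' : ∀ i, IsClopen ((↑) ⁻¹' (e '' C) : Set (chartSet a Γ(W, ⊤) J i)) := fun i => by
    let κ : chartSet a Γ(W, ⊤) J i → P := fun p => he.toHomeomorph.symm ⟨p.1, hsub i p.2⟩
    have hκ : Continuous κ :=
      he.toHomeomorph.symm.continuous.comp (continuous_subtype_val.subtype_mk _)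
    convert hC.preimage hκ using 1
    ext p
    have hp : e (κ p) = p.1 :=
      congrArg Subtype.val (he.toHomeomorph.apply_symm_apply ⟨p.1, hsub i p.2⟩)
    change p.1 ∈ e '' C ↔ κ p ∈ C
    rw [← hp, he.injective.mem_set_image]
  obtain ⟨ε, hε, hmem⟩ := exists_idempotent J hL' hV' hC'
  let t : W → PrimeSpectrum Γ(W, ⊤) := fun w => W.toSpecΓ.base w
  have ht : Continuous t := W.toSpecΓ.continuous
  refine ⟨t ⁻¹' (PrimeSpectrum.basicOpen ε : Set (PrimeSpectrum Γ(W, ⊤))),
    IsClopen.preimage (PrimeSpectrum.isClopen_iff.mpr ⟨ε, hε, rfl⟩) ht, ?_,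
      fun h => ?_⟩
  · ext x
    obtain ⟨i, hi⟩ := hmemi x
    exact (hmem i _ hi).symm.trans he.injective.mem_set_image
  · rw [eq_zero_of_idempotent J hV' hε fun i p hp => by_contra fun h' => by
      obtain ⟨x, -, rfl⟩ := (hmem i p hp).mpr h'
      exact h x ((he.injective.mem_set_image).mp ((hmem i _ hp).mpr h'))]
    rw [PrimeSpectrum.basicOpen_zero]
    rfl

omit hU hq q in
/-- Restriction of finite etale covers to the formal neighbourhood is fully faithful. -/
theorem full_and_faithful (hB : Charts a U) (J : Ideal B) [HenselianRing B J] (hL : Lift a B J) (hV : Vanish a B J)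
    {U₀ : Scheme.{u}} (g : U₀ ⟶ (U : Scheme.{u})) [IsClosedImmersion g]
    (hg : Set.range g.base = {x | J ≤ ((U.ι.base x : Spec (CommRingCat.of B)) :
      PrimeSpectrum B).asIdeal}) :
    (FEt.restrict g).Full ∧ (FEt.restrict g).Faithful := by
  have hU := hB.toCover
  refine Lib.FEt.FullyFaithful.full_and_faithful g ?_ fun Y C hC => ?_
  · intro s hs hne
    by_contra hno
    -- the clopen `s` is empty as it misses the formal neighbourhood
    let := (str (𝟙 (U : Scheme.{u}) ≫ U.ι)).toAlgebra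
    have hid : FEt.prop.{u} (𝟙 (U : Scheme.{u})) := MorphismProperty.id_mem _ _
    obtain ⟨_, hs', hg', hprop⟩ := exists_props hU _ hid hB
    obtain ⟨hL', hV'⟩ := hprop J hL hV
    have := quasiAffine hU _ hid
    let e : ↥(U : Scheme.{u}) → PrimeSpectrum Γ((U : Scheme.{u}), ⊤) :=
      fun x => (U : Scheme.{u}).toSpecΓ.base x
    have he : Topology.IsEmbedding e := (U : Scheme.{u}).toSpecΓ.isOpenEmbedding.isEmbedding
    have : HenselianRing B (⊥ : Ideal B) := Lib.Henselian.Basic.henselianRing_of_le (J := J) bot_le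
    have hC' : ∀ i, IsClopen ((↑) ⁻¹' (e '' s) :
        Set (chartSet a Γ((U : Scheme.{u}), ⊤) (⊥ : Ideal B) i)) := fun i => by
      have hsub : ∀ p ∈ chartSet a Γ((U : Scheme.{u}), ⊤) (⊥ : Ideal B) i, p ∈ Set.range e :=
        fun p hp => mem_range_toSpecΓ hU _ hid i p hp.1
      let κ : chartSet a Γ((U : Scheme.{u}), ⊤) (⊥ : Ideal B) i → (U : Scheme.{u}) :=
        fun p => he.toHomeomorph.symm ⟨p.1, hsub _ p.2⟩
      have hκ : Continuous κ :=
        he.toHomeomorph.symm.continuous.comp (continuous_subtype_val.subtype_mk _)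
      convert hs.preimage hκ using 1
      ext p
      have hp : e (κ p) = p.1 :=
        congrArg Subtype.val (he.toHomeomorph.apply_symm_apply ⟨p.1, hsub _ p.2⟩)
      change p.1 ∈ e '' s ↔ κ p ∈ s
      rw [← hp, he.injective.mem_set_image]
    have hL0 : Lift a Γ((U : Scheme.{u}), ⊤) ⊥ := fun n => ⟨1, fun k m hm => by
      rw [pow_one] at hm
      obtain ⟨x, hx⟩ := hg' k m hm
      exact ⟨x, hx.mono bot_le⟩⟩
    have hV0 : Vanish a Γ((U : Scheme.{u}), ⊤) ⊥ := fun n => ⟨1, fun x hx => by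
      rw [pow_one] at hx
      exact Submodule.smul_mono_left bot_le (hs' x hx)⟩
    obtain ⟨ε, hε, hmem⟩ := exists_idempotent (a := a) (M := Γ((U : Scheme.{u}), ⊤)) ⊥ hL0 hV0
      hC'
    have hεz : ε = 0 := eq_zero_of_idempotent J hV' hε fun i p hp => by_contra fun h' => hno (by
      obtain ⟨x, hx, rfl⟩ := (hmem i p ⟨hp.1, by simp⟩).mpr h'
      refine ⟨x, hx, ?_⟩
      rw [hg]
      have := Ideal.map_le_iff_le_comap.mp hp.2
      change J ≤ ((((𝟙 (U : Scheme.{u}) ≫ U.ι).base x) : Spec (CommRingCat.of B)) :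
        PrimeSpectrum B).asIdeal
      rw [asIdeal_apply]
      exact this)
    obtain ⟨x, hx⟩ := hne
    obtain ⟨i, hi⟩ := exists_preimage hU (𝟙 (U : Scheme.{u})) x
    exact (hmem i (e x) ⟨hi, by simp⟩).mp ⟨x, hx, rfl⟩ (hεz ▸ zero_mem _)
  · let w : Y.left ⟶ (U : Scheme.{u}) := Y.hom
    have : IsFinite w := Y.prop.1
    obtain ⟨D, hD, hDC, -⟩ := exists_clopen hU w Y.prop hB J hL hV (pullback.fst w g).base
      (pullback.fst w g).isClosedEmbedding.isEmbedding (by
        rw [Scheme.Pullback.range_fst, hg]; rfl) C hC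
    exact ⟨D, hD, hDC⟩

end Groth.Agent.H80.Clopen
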