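import Groth.Agent.H80.Clopen.LineLift
import Groth.Agent.H80.Clopen.Retract
import Groth.Agent.H80.Clopen.Scheme
import Mathlib.Algebra.Module.FinitePresentation

/-!
# Chartwise generators from localisations
-/

set_option autoImplicit false

universe u

namespace Groth.Agent.H80.Clopen

variable {A : Type u} [CommRing A] [IsNoetherianRing A] {ι : Type} [Finite ι] {a : ι → A}
  {M : Type u} [AddCommGroup M] [Module A M]

/-- Coordinates on the charts give line data. -/
theorem exists_lineData (hBs : Sep a A ⊥) (hBg : Glue a A ⊥) (hs : Sep a M ⊥)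
    (R : ι → Type u) [∀ i, CommRing (R i)] [∀ i, Algebra A (R i)]
    [∀ i, IsLocalization.Away (a i) (R i)] (g : ∀ i, M →ₗ[A] R i)
    [∀ i, IsLocalizedModule (Submonoid.powers (a i)) (g i)] :
    ∃ D : LineData a M, ∀ i, IsUnit (g i (D.e i)) := by
  classical
  have := Fintype.ofFinite ι
  choose N hN hcov using fun i => exists_fg_cover (a i) (R i) (g i)
  have hsup : (⨆ i, N i).FG := Submodule.fg_iSup _ hN
  obtain ⟨κ, _, ⟨r⟩⟩ := exists_retract hBs hBg hs (N := ⨆ i, N i)
    (fun i x => (hcov i x).imp fun l hl => Submodule.mem_iSup_of_mem i hl)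
    fun i => exists_local_retract (a i) (R i) (g i) hsup
  have : Module.Finite A M := Retract.finite hs r
  have := Module.finitePresentation_of_finite A M
  have key : ∀ i, ∃ (k : ℕ) (e : M) (φ : M →ₗ[A] A), φ e = a i ^ k ∧
      (∀ z, φ z • e = a i ^ k • z) ∧ IsUnit (g i e) := by
    intro i
    have hloc : IsLocalizedModule (Submonoid.powers (a i)) (Algebra.linearMap A (R i)) :=
      (isLocalizedModule_iff_isLocalization' (Submonoid.powers (a i)) (R i)).mpr inferInstance
    obtain ⟨φ, ⟨_, p, rfl⟩, hφ⟩ := Module.FinitePresentation.exists_lift_of_isLocalizedModule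
      (Submonoid.powers (a i)) (Algebra.linearMap A (R i)) (g i)
    obtain ⟨⟨y, ⟨_, q, rfl⟩⟩, hy⟩ := IsLocalizedModule.surj (Submonoid.powers (a i)) (g i) (1 : R i)
    change a i ^ q • (1 : R i) = g i y at hy
    have hu : IsUnit (algebraMap A (R i) (a i)) := IsLocalization.Away.algebraMap_isUnit (a i)
    have hφ' : ∀ z, algebraMap A (R i) (φ z) = algebraMap A (R i) (a i) ^ p * g i z := fun z => by
      have := LinearMap.congr_fun hφ z
      rw [LinearMap.comp_apply, Algebra.linearMap_apply] at this
      rw [this, LinearMap.smul_apply, Submonoid.smul_def, Algebra.smul_def, map_pow]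
    have hgy : g i y = algebraMap A (R i) (a i) ^ q := by
      rw [← hy, Algebra.smul_def, mul_one, map_pow]
    let F : M →ₗ[A] M := φ.smulRight y - a i ^ (p + q) • LinearMap.id
    have hF : ∀ z, ∃ l : ℕ, a i ^ l • F z = 0 := fun z => by
      obtain ⟨⟨_, l, rfl⟩, hl⟩ := IsLocalizedModule.exists_of_eq (S := Submonoid.powers (a i))
        (f := g i) (x₁ := F z) (x₂ := 0) (by
          change g i (φ z • y - a i ^ (p + q) • z) = g i 0
          rw [map_sub, map_smul, map_smul, map_zero, hgy, Algebra.smul_def, Algebra.smul_def, map_pow, hφ']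
          ring)
      rw [smul_zero] at hl
      exact ⟨l, hl⟩
    obtain ⟨s, hsp⟩ := Module.Finite.fg_top (R := A) (M := M)
    obtain ⟨L, hL⟩ := exists_common (⊥ : Submodule A M) (fun _ : s => a i) (fun z : s => F z.1)
      fun z => (hF z.1).imp fun l hl => by rw [Submodule.mem_bot]; exact hl
    have hall : ∀ z, a i ^ L • F z = 0 := fun z => by
      have : z ∈ Submodule.span A (s : Set M) := hsp ▸ Submodule.mem_top
      induction this using Submodule.span_induction with
      | mem x hx => exact (Submodule.mem_bot _).mp (hL ⟨x, hx⟩)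
      | zero => simp
      | add x y _ _ hx hy => rw [map_add, smul_add, hx, hy, add_zero]
      | smul c x _ hx => rw [map_smul, smul_comm, hx, smul_zero]
    obtain ⟨⟨_, t, rfl⟩, ht⟩ := IsLocalizedModule.exists_of_eq (S := Submonoid.powers (a i))
      (f := Algebra.linearMap A (R i)) (x₁ := φ y) (x₂ := a i ^ (p + q)) (by
        rw [Algebra.linearMap_apply, Algebra.linearMap_apply, hφ', hgy, map_pow, ← pow_add])
    refine ⟨p + q + (L + t), y, a i ^ (L + t) • φ, ?_, fun z => ?_, ?_⟩
    · change a i ^ (L + t) * φ y = _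
      change a i ^ t * φ y = a i ^ t * a i ^ (p + q) at ht
      rw [pow_add _ L, mul_assoc, ht, ← pow_add, ← pow_add]
      congr 1; omega
    · have h1 := hall z
      simp only [F, LinearMap.sub_apply, LinearMap.smulRight_apply, LinearMap.smul_apply,
        LinearMap.id_apply, smul_sub, sub_eq_zero, smul_smul] at h1
      rw [LinearMap.smul_apply, smul_eq_mul, show a i ^ (L + t) * φ z = a i ^ t * (a i ^ L * φ z) by
        ring, ← smul_smul, h1, smul_smul]
      congr 1; ring
    · rw [hgy]; exact hu.pow q
  choose k e φ h1 h2 h3 using key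
  let K := Finset.univ.sup k
  have hk : ∀ i, k i ≤ K := fun i => Finset.le_sup (Finset.mem_univ i)
  exact ⟨{ e := e
           φ := fun i => a i ^ (K - k i) • φ i
           k := K
           unit := fun i => by
            rw [LinearMap.smul_apply, h1, smul_eq_mul, ← pow_add, Nat.sub_add_cancel (hk i)]
           span := fun i z => by
            rw [LinearMap.smul_apply, smul_eq_mul, ← smul_smul, h2, smul_smul, ← pow_add,
              Nat.sub_add_cancel (hk i)] }, h3⟩

end Groth.Agent.H80.Clopen
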