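import Groth.Agent.H80.Clopen.GrH1
import Groth.Agent.H80.Clopen.LineSections
import Groth.Agent.H80.Clopen.SeriesPurity
import Groth.Agent.H78.ParaF.Punctured
import Groth.Agent.H52.PushInv
import Groth.Agent.Lib.QCoh.Localizing
import Groth.Agent.Lib.TensorMod.QCohInv

/-!
# Line bundles on a punctured spectrum along an ideal with free associated graded ring
-/

set_option autoImplicit false
set_option backward.isDefEq.respectTransparency false

universe u

open CategoryTheory CategoryTheory.Limits AlgebraicGeometry IsLocalRing TopologicalSpace Opposite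
open Groth.Agent.Lib Groth.Agent.Lib.TensorMod Groth.Agent.Lib.TensorMod.Dual
open Groth.Agent.Lib.TensorMod.Gen Groth.Agent.Lib.TensorMod.Pullback Groth.Agent.Lib.Ample
open Groth.Agent.Lib.Ample.GenLocus

namespace Groth.Agent.H80.Clopen

section

variable {B : Type u} [CommRing B] (U : (Spec (CommRingCat.of B)).Opens)

/-- Restriction of functions, as a ring map. -/
noncomputable abbrev rfHom {X : Scheme.{u}} {V W : X.Opens} (h : V ≤ W) : Γ(X, W) →+* Γ(X, V) :=
  (X.presheaf.map (homOfLE h).op).hom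

/-- The functions on a chart of an open of an affine scheme. -/
theorem isLocalization_chart (b : B) (hb : PrimeSpectrum.basicOpen b ≤ U) :
    @IsLocalization.Away B _ b Γ((U : Scheme.{u}), (U : Scheme.{u}).basicOpen (str U.ι b)) _
      ((rfHom (le_top : (U : Scheme.{u}).basicOpen (str U.ι b) ≤ ⊤)).comp (str U.ι)).toAlgebra := by
  let D : (Spec (CommRingCat.of B)).Opens := PrimeSpectrum.basicOpen b
  suffices gen : ∀ (V : (U : Scheme.{u}).Opens) (_ : V = U.ι ⁻¹ᵁ D),
      @IsLocalization.Away B _ b Γ((U : Scheme.{u}), V) _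
        ((rfHom (le_top : V ≤ ⊤)).comp (str U.ι)).toAlgebra from gen _ (basicOpen_str U.ι b)
  rintro _ rfl
  let Bl := Γ(Spec (CommRingCat.of B), D)
  let : Algebra B Bl := ((Scheme.ΓSpecIso (CommRingCat.of B)).inv ≫
    (Spec (CommRingCat.of B)).presheaf.map (homOfLE (le_top : D ≤ ⊤)).op).hom.toAlgebra
  have : IsLocalization.Away b Bl := isLocalization_spec (CommRingCat.of B) b
  let : Algebra B Γ((U : Scheme.{u}), U.ι ⁻¹ᵁ D) :=
    ((rfHom (le_top : U.ι ⁻¹ᵁ D ≤ ⊤)).comp (str U.ι)).toAlgebra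
  have hD : IsIso (U.ι.app D) := U.ι.isIso_app D (by rw [Scheme.Opens.opensRange_ι]; exact hb)
  let e : Bl ≃ₐ[B] Γ((U : Scheme.{u}), U.ι ⁻¹ᵁ D) :=
    AlgEquiv.ofRingEquiv (f := (asIso (U.ι.app D)).commRingCatIsoToRingEquiv) fun r => by
      change U.ι.app D ((Spec (CommRingCat.of B)).presheaf.map (homOfLE (le_top : D ≤ ⊤)).op
        ((Scheme.ΓSpecIso (CommRingCat.of B)).inv r)) = rfHom _ (str U.ι r)
      rw [← CommRingCat.comp_apply, U.ι.naturality]
      rfl
  exact IsLocalization.isLocalization_of_algEquiv _ e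

end

set_option maxHeartbeats 1000000 in
/-- Free associated graded ring: a line bundle which is trivial modulo `J` is trivial. -/
theorem trivial_of_pullback {A : Type u} [CommRing A] [IsNoetherianRing A] [IsLocalRing A]
    (J : Ideal A) (hJ : J ≠ ⊤) [IsLocalRing (A ⧸ J)]
    (hd : (3 : ℕ∞) ≤ LocCoh.depth (A ⧸ J) (A ⧸ J))
    (hgr : ∀ n : ℕ, Module.Free (A ⧸ J) (↥(J ^ n) ⧸ (J • (⊤ : Submodule A ↥(J ^ n)))))
    (L : (FEt.puncturedSpec A : Scheme.{u}).Modules) (hL : PicF.IsInvertible L)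
    (h0 : ∀ s : (FEt.puncturedSpec (A ⧸ J) : Scheme.{u}) ⟶ (FEt.puncturedSpec A : Scheme.{u}),
      s ≫ (FEt.puncturedSpec A).ι = (FEt.puncturedSpec (A ⧸ J)).ι ≫
        Spec.map (CommRingCat.ofHom (Ideal.Quotient.mk J)) →
      Nonempty ((pb s).obj L ≅ Coh.structureModule _)) :
    Nonempty (L ≅ Coh.structureModule _) := by
  let U := FEt.puncturedSpec A
  let S := Spec (CommRingCat.of A)
  -- frames
  have hframe : ∀ p : (U : Scheme.{u}), ∃ (b : A) (e : Γ(L, (U : Scheme.{u}).basicOpen (str U.ι b))),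
      p ∈ (U : Scheme.{u}).basicOpen (str U.ι b) ∧
      PrimeSpectrum.basicOpen b ≤ U ∧ IsGen L _ e := by
    intro p
    obtain ⟨W, e, hpW, he⟩ := isInvertible_iff.mp hL p
    obtain ⟨_, ⟨_, ⟨b, rfl⟩, rfl⟩, hpb, hbW⟩ := PrimeSpectrum.isBasis_basic_opens.exists_subset_of_mem_open
      (show U.ι.base p ∈ ((U.ι ''ᵁ W : S.Opens) : Set S) from ⟨p, hpW, rfl⟩) (U.ι ''ᵁ W).2
    have hle : (U : Scheme.{u}).basicOpen (str U.ι b) ≤ W := by
      rw [basicOpen_str]
      intro q hq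
      obtain ⟨q', hq', h⟩ := hbW hq
      exact (U.ι.isOpenEmbedding.injective h) ▸ hq'
    refine ⟨b, _, by rw [basicOpen_str]; exact hpb, fun q hq => ?_, he.res hle⟩
    obtain ⟨q', -, rfl⟩ := hbW hq
    exact q'.2
  choose b e hpb hbU he using hframe
  have hcompact : CompactSpace ↥(U : Scheme.{u}) := isCompact_iff_compactSpace.mp
    (TopologicalSpace.NoetherianSpace.isCompact (α := PrimeSpectrum A) _)
  have hqs : QuasiSeparatedSpace ↥(U : Scheme.{u}) := quasiSeparatedSpace_of_quasiSeparated U.ι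
  obtain ⟨t, ht⟩ := CompactSpace.elim_nhds_subcover
    (fun p => ((U : Scheme.{u}).basicOpen (str U.ι (b p)) : Set (U : Scheme.{u})))
    (fun p => IsOpen.mem_nhds (Opens.isOpen _) (hpb p))
  let a : Fin t.card → A := fun i => b (t.equivFin.symm i).1
  let V : Fin t.card → (U : Scheme.{u}).Opens := fun i => (U : Scheme.{u}).basicOpen (str U.ι (a i))
  have hcov : ∀ p : (U : Scheme.{u}), ∃ i, p ∈ V i := fun p => by
    have : p ∈ (⊤ : Set (U : Scheme.{u})) := trivial
    rw [← ht] at this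
    obtain ⟨q, hq, hpq⟩ := Set.mem_iUnion₂.mp this
    exact ⟨t.equivFin ⟨q, hq⟩, by simp only [V, a, Equiv.symm_apply_apply]; exact hpq⟩
  let f : ∀ i, Γ(L, V i) := fun i => e (t.equivFin.symm i).1
  have hf : ∀ i, IsGen L (V i) (f i) := fun i => he _
  have haU : ∀ i, PrimeSpectrum.basicOpen (a i) ≤ U := fun i => hbU _
  have hrad : maximalIdeal A ≤ (Ideal.span (Set.range a)).radical := by
    rw [Ideal.radical_eq_sInf]
    refine le_sInf fun P ⟨hP, hPp⟩ => ?_
    by_contra hne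
    let p : S := (⟨P, hPp⟩ : PrimeSpectrum A)
    have hpU : p ∈ U := fun h => hne (congrArg PrimeSpectrum.asIdeal h).ge
    obtain ⟨i, hi⟩ := hcov ⟨p, hpU⟩
    simp only [V] at hi
    rw [basicOpen_str] at hi
    exact hi (hP (Ideal.subset_span ⟨i, rfl⟩))
  obtain ⟨hBs, hBg, hSep, hGlue, hG⟩ := exists_setup J hJ hd hgr a hrad
  -- the module of sections
  let : Module A Γ(L, ⊤) := Module.compHom _ (str U.ι)
  let : ∀ i, Algebra A Γ((U : Scheme.{u}), V i) := fun i =>
    ((rfHom (le_top : V i ≤ ⊤)).comp (str U.ι)).toAlgebra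
  have hloc : ∀ i, IsLocalization.Away (a i) Γ((U : Scheme.{u}), V i) :=
    fun i => isLocalization_chart U (a i) (haU i)
  choose c hc using fun i (m : Γ(L, ⊤)) => GenLocus.exists_coord (hf i) (rs L le_top m)
  have hinj : ∀ i, Function.Injective fun r : Γ((U : Scheme.{u}), V i) => r • f i := fun i => by
    simpa only [rs_self] using (hf i (V i) le_rfl).1
  let g : ∀ i, Γ(L, ⊤) →ₗ[A] Γ((U : Scheme.{u}), V i) := fun i =>
    { toFun := c i
      map_add' := fun m m' => hinj i (by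
        change c i (m + m') • f i = (c i m + c i m') • f i
        rw [add_smul, ← hc, ← hc, ← hc]
        exact map_add (L.presheaf.map (homOfLE (le_top : V i ≤ ⊤)).op).hom m m')
      map_smul' := fun r m => hinj i (by
        simp only [RingHom.id_apply, Algebra.smul_def]
        change c i (str U.ι r • m) • f i = (rf (le_top : V i ≤ ⊤) (str U.ι r) * c i m) • f i
        rw [mul_smul, ← hc, ← hc, rs_smul]) }
  have : (L : (U : Scheme.{u}).Modules).IsQuasicoherent := QCohInv.isQCoh_of_isInvertible hL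
  have hlocg : ∀ i, IsLocalizedModule (Submonoid.powers (a i)) (g i) := fun i => by
    have hL' := QCoh.Localizing.localizes_of_qcqs (M := L) (U := ⊤) isCompact_univ
      isQuasiSeparated_univ (str U.ι (a i))
    refine ⟨?_, ?_, ?_⟩
    · rintro ⟨_, n, rfl⟩
      have hu : IsUnit (algebraMap A Γ((U : Scheme.{u}), V i) (a i ^ n)) := by
        rw [map_pow]
        exact (IsLocalization.Away.algebraMap_isUnit (a i)).pow n
      rw [Module.End.isUnit_iff]
      refine (Function.Bijective.of_comp_iff _ Function.bijective_id).mp ?_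
      convert (IsUnit.smul_bijective hu (β := Γ((U : Scheme.{u}), V i))) using 1
      funext x
      change (a i ^ n) • x = algebraMap A Γ((U : Scheme.{u}), V i) (a i ^ n) • x
      rw [Algebra.smul_def, smul_eq_mul]
    · intro r
      obtain ⟨n, m, hm⟩ := hL'.ext' (r • f i)
      refine ⟨⟨m, ⟨a i ^ n, n, rfl⟩⟩, hinj i ?_⟩
      change ((a i ^ n) • r) • f i = c i m • f i
      rw [← hc, Algebra.smul_def, mul_smul, map_pow]
      exact hm.symm
    · intro m m' h
      obtain ⟨n, hn⟩ := hL'.sep (m - m') (by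
        have h' : rs L (le_top : V i ≤ ⊤) m = rs L (le_top : V i ≤ ⊤) m' := by
          rw [hc, hc, show c i m = c i m' from h]
        rw [map_sub, sub_eq_zero]
        exact h')
      refine ⟨⟨a i ^ n, n, rfl⟩, ?_⟩
      rw [smul_sub, sub_eq_zero] at hn
      change str U.ι (a i ^ n) • m = str U.ι (a i ^ n) • m'
      rw [map_pow]
      exact hn
  have hs : Sep a Γ(L, ⊤) ⊥ := fun m hm => by
    rw [Submodule.bot_smul, Submodule.mem_bot]
    refine TopCat.Sheaf.eq_of_locally_eq' ⟨L.presheaf, L.isSheaf⟩ V ⊤ (fun i => homOfLE le_top)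
      (fun p _ => Opens.mem_iSup.mpr (hcov p)) m 0 fun i => ?_
    obtain ⟨l, hl⟩ := hm i
    rw [Submodule.bot_smul, Submodule.mem_bot] at hl
    have h1 := congrArg (g i) hl
    rw [map_smul, map_zero, Algebra.smul_def, map_pow] at h1
    have h2 : g i m = 0 :=
      ((IsLocalization.Away.algebraMap_isUnit (a i)).pow l).mul_right_eq_zero.mp h1
    change rs L (le_top : V i ≤ ⊤) m = rs L (le_top : V i ≤ ⊤) 0
    rw [hc, show c i m = g i m from rfl, h2, zero_smul]
    exact (map_zero (L.presheaf.map (homOfLE (le_top : V i ≤ ⊤)).op).hom).symm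
  have hunit : ∀ i, IsUnit (rf (le_top : V i ≤ ⊤) (str U.ι (a i))) :=
    fun i => IsLocalization.Away.algebraMap_isUnit (a i)
  have hg : Glue a Γ(L, ⊤) ⊥ := by
    intro k m hm
    choose v hv using fun i => (hunit i).pow k
    let σ : ∀ i, Γ(L, V i) := fun i => (↑(v i)⁻¹ : Γ((U : Scheme.{u}), V i)) • rs L le_top (m i)
    have hσ : ∀ i, rf (le_top : V i ≤ ⊤) (str U.ι (a i)) ^ k • σ i = rs L le_top (m i) := fun i => by
      simp only [σ]
      rw [← hv i, smul_smul, Units.mul_inv, one_smul]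
    have hc' : TopCat.Presheaf.IsCompatible (⟨L.presheaf, L.isSheaf⟩ : TopCat.Sheaf Ab _).1 V σ := by
      intro i j
      change rs L (inf_le_left : V i ⊓ V j ≤ V i) (σ i) = rs L (inf_le_right : V i ⊓ V j ≤ V j) (σ j)
      have h1 := congrArg (rs L (inf_le_left : V i ⊓ V j ≤ V i)) (hσ i)
      have h2 := congrArg (rs L (inf_le_right : V i ⊓ V j ≤ V j)) (hσ j)
      rw [rs_smul, rs_rs] at h1 h2
      obtain ⟨l, hl⟩ := hm i j
      rw [Submodule.bot_smul, Submodule.mem_bot] at hl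
      change str U.ι ((a i * a j) ^ l) • (str U.ι (a j ^ k) • m i - str U.ι (a i ^ k) • m j) = 0 at hl
      rw [smul_sub, smul_smul, smul_smul, sub_eq_zero] at hl
      have h3 := congrArg (rs L (le_top : V i ⊓ V j ≤ ⊤)) hl
      rw [rs_smul, rs_smul, ← h1, ← h2, smul_smul, smul_smul] at h3
      let ui := (rfHom (le_top : V i ⊓ V j ≤ ⊤)) (str U.ι (a i))
      let uj := (rfHom (le_top : V i ⊓ V j ≤ ⊤)) (str U.ι (a j))
      have eu : IsUnit ui ∧ IsUnit uj := by
        refine ⟨?_, ?_⟩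
        · have := (hunit i).map (rfHom (inf_le_left : V i ⊓ V j ≤ V i))
          change IsUnit (rf _ (rf _ _)) at this
          rwa [rf_rf] at this
        · have := (hunit j).map (rfHom (inf_le_right : V i ⊓ V j ≤ V j))
          change IsUnit (rf _ (rf _ _)) at this
          rwa [rf_rf] at this
      refine (((eu.1.mul eu.2).pow l).mul ((eu.1.pow k).mul (eu.2.pow k))).smul_left_cancel.mp ?_
      convert h3 using 2 <;> simp only [ui, uj, map_mul, map_pow, rfHom, rf_rf] <;>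
        (change _ = _; ring)
    obtain ⟨x, hx, -⟩ := TopCat.Sheaf.existsUnique_gluing' ⟨L.presheaf, L.isSheaf⟩ V ⊤
      (fun i => homOfLE le_top) (fun p _ => Opens.mem_iSup.mpr (hcov p)) σ hc'
    refine ⟨x, fun i => ?_⟩
    obtain ⟨⟨_, l, rfl⟩, hl⟩ := IsLocalizedModule.exists_of_eq (S := Submonoid.powers (a i)) (f := g i)
      (x₁ := a i ^ k • (x : Γ(L, ⊤))) (x₂ := m i) (hinj i (by
        change c i (a i ^ k • (x : Γ(L, ⊤))) • f i = c i (m i) • f i
        rw [← hc, ← hc, ← hσ i]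
        change rs L (le_top : V i ≤ ⊤) (str U.ι (a i ^ k) • (x : Γ(L, ⊤))) = _
        rw [rs_smul, map_pow, ← hx i]
        exact congrArg (· • _) (map_pow (rfHom (le_top : V i ≤ ⊤)) _ _)))
    refine ⟨l, ?_⟩
    rw [Submodule.bot_smul, Submodule.mem_bot, smul_sub, sub_eq_zero]
    exact hl
  obtain ⟨D, hD⟩ := exists_lineData hBs hBg hs (fun i => Γ((U : Scheme.{u}), V i)) g
  -- the trivialisation along `J`
  let U₀ := FEt.puncturedSpec (A ⧸ J)
  let qA : Spec (CommRingCat.of (A ⧸ J)) ⟶ S := Spec.map (CommRingCat.ofHom (Ideal.Quotient.mk J))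
  have hloc' : IsLocalHom (Ideal.Quotient.mk J) :=
    IsLocalHom.of_surjective _ Ideal.Quotient.mk_surjective
  have hcl : ∀ w : Spec (CommRingCat.of (A ⧸ J)), qA.base w ∈ U ↔ w ∈ U₀ := fun w => by
    refine not_congr ⟨fun h => ?_, fun h => ?_⟩
    · exact PrimeSpectrum.comap_injective_of_surjective _ Ideal.Quotient.mk_surjective
        (h.trans (IsLocalRing.comap_closedPoint (Ideal.Quotient.mk J)).symm)
    · rw [show (w : PrimeSpectrum (A ⧸ J)) = closedPoint (A ⧸ J) from h]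
      exact IsLocalRing.comap_closedPoint (Ideal.Quotient.mk J)
  let s : (U₀ : Scheme.{u}) ⟶ (U : Scheme.{u}) :=
    liftOpen U (U₀.ι ≫ qA) fun w => (hcl _).mpr w.2
  have hs₀ : s ≫ U.ι = U₀.ι ≫ qA := liftOpen_ι _ _ _
  have hstr : ∀ r : A, s.appTop (str U.ι r) = str U₀.ι (Ideal.Quotient.mk J r) := fun r => by
    change ((Scheme.ΓSpecIso (CommRingCat.of A)).inv ≫ (U.ι.appTop ≫ s.appTop)) r =
      ((CommRingCat.ofHom (Ideal.Quotient.mk J)) ≫
        (Scheme.ΓSpecIso (CommRingCat.of (A ⧸ J))).inv ≫ U₀.ι.appTop) r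
    rw [← Scheme.Hom.comp_appTop, hs₀, Scheme.Hom.comp_appTop]
    exact congrArg (fun q => q r)
      (congrArg (· ≫ U₀.ι.appTop)
        (Scheme.ΓSpecIso_inv_naturality (CommRingCat.ofHom (Ideal.Quotient.mk J))).symm)
  obtain ⟨φ₀⟩ := h0 s hs₀
  obtain ⟨τ, hτ⟩ := H52.PushInv.exists_gen_of_iso_unit φ₀
  let π := Ideal.Quotient.mk J
  let W : Fin t.card → (U₀ : Scheme.{u}).Opens := fun i => (U₀ : Scheme.{u}).basicOpen (str U₀.ι (π (a i)))
  have hW : ∀ i, s ⁻¹ᵁ V i = W i := fun i => by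
    simp only [V, W, π]
    rw [Scheme.preimage_basicOpen_top, hstr]
  have haU₀ : ∀ i, PrimeSpectrum.basicOpen (π (a i)) ≤ U₀ := fun i w hw => (hcl w).mp (haU i hw)
  let : ∀ i, Algebra (A ⧸ J) Γ((U₀ : Scheme.{u}), W i) := fun i =>
    ((rfHom (le_top : W i ≤ ⊤)).comp (str U₀.ι)).toAlgebra
  have hloc₀ : ∀ i, IsLocalization.Away (π (a i)) Γ((U₀ : Scheme.{u}), W i) :=
    fun i => isLocalization_chart U₀ (π (a i)) (haU₀ i)
  let N := (pb s).obj L
  let US : Γ(L, ⊤) → Γ(N, ⊤) := fun m => unitSec s L (U := ⊤) m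
  let E : Fin t.card → Γ(N, ⊤) := fun i => US (D.e i)
  have hEs : ∀ (r : A) (m : Γ(L, ⊤)), US (r • m) = str U₀.ι (π r) • US m := fun r m => by
    rw [← hstr]
    exact unitSec_smul s (str U.ι r) m
  have hUS : ∀ m m' : Γ(L, ⊤), US (m - m') = US m - US m' := fun m m' =>
    map_sub (((pbAdj s).unit.app L).app ⊤).hom m m'
  have hE : ∀ i, IsGen N (W i) (rs N le_top (E i)) := fun i => by
    have h1 : IsGen L (V i) (rs L le_top (D.e i)) := by
      rw [hc i (D.e i)]
      exact IsGen_smul_isUnit (hf i) (hD i)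
    have h2 := isGen_unitSec s h1
    rw [← unitSec_rs s (le_top : V i ≤ ⊤)] at h2
    have h3 := h2.res (hW i).ge
    rwa [rs_rs] at h3
  choose c₀ hc₀ using fun i => GenLocus.exists_coord (hE i) (rs N le_top τ)
  have hc₀u : ∀ i, IsUnit (c₀ i) := fun i => by
    refine isUnit_of_isGen_smul (hE i) ?_
    rw [← hc₀]
    exact hτ.res le_top
  have hnum : ∀ i, ∃ (n : ℕ) (r : A), algebraMap (A ⧸ J) Γ((U₀ : Scheme.{u}), W i) (π r) =
      algebraMap (A ⧸ J) Γ((U₀ : Scheme.{u}), W i) (π (a i)) ^ n * c₀ i := fun i => by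
    obtain ⟨⟨r', _, n, rfl⟩, hr⟩ := IsLocalization.surj (Submonoid.powers (π (a i))) (c₀ i)
    obtain ⟨r, rfl⟩ := Ideal.Quotient.mk_surjective r'
    refine ⟨n, r, ?_⟩
    rw [← hr, ← map_pow, mul_comm]
  choose n r hr using hnum
  let n₀ := Finset.univ.sup n
  have hn : ∀ i, n i ≤ n₀ := fun i => Finset.le_sup (Finset.mem_univ i)
  let r₀ : Fin t.card → A := fun i => a i ^ (n₀ - n i) * r i
  have hr₀ : ∀ i, algebraMap (A ⧸ J) Γ((U₀ : Scheme.{u}), W i) (π (r₀ i)) =
      algebraMap (A ⧸ J) Γ((U₀ : Scheme.{u}), W i) (π (a i)) ^ n₀ * c₀ i := fun i => by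
    simp only [r₀]
    rw [map_mul, map_mul, hr, map_pow, map_pow, ← mul_assoc, ← pow_add, Nat.sub_add_cancel (hn i)]
  let m₀ : Fin t.card → Γ(L, ⊤) := fun i => r₀ i • D.e i
  let T₀ : A → Γ(N, ⊤) := fun x => str U₀.ι (π x) • τ
  have hm₀ : ∀ i, rs N (le_top : W i ≤ ⊤) (US (m₀ i)) =
      rs N le_top (T₀ (a i ^ n₀)) := fun i => by
    simp only [m₀, T₀]
    rw [hEs]
    refine (rs_smul N (le_top : W i ≤ ⊤) (str U₀.ι (π (r₀ i))) (E i)).trans ?_
    refine Eq.trans ?_ (rs_smul N (le_top : W i ≤ ⊤) _ τ).symm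
    rw [hc₀, smul_smul]
    refine congrArg (· • _) ((hr₀ i).trans ?_)
    rw [← map_pow, ← map_pow]
    rfl
  have hcompat : Compat a J n₀ m₀ := fun i j => by
    let z := a j ^ n₀ • m₀ i - a i ^ n₀ • m₀ j
    let O := (U₀ : Scheme.{u}).basicOpen (str U₀.ι (π (a i * a j)))
    have hO : O = W i ⊓ W j := by
      simp only [O, W, map_mul, Scheme.basicOpen_mul]
    have hOi : O ≤ W i := hO.trans_le inf_le_left
    have hOj : O ≤ W j := hO.trans_le inf_le_right
    have hz : rs N (le_top : O ≤ ⊤) (US z) = 0 := by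
      have key : ∀ (x : A) (k : Fin t.card) (hk : O ≤ W k),
          rs N (le_top : O ≤ ⊤) (US (x • m₀ k)) =
            rs N (le_top : O ≤ ⊤) (T₀ (x * a k ^ n₀)) := fun x k hk => by
        have h1 := congrArg (rs N hk) (hm₀ k)
        rw [rs_rs, rs_rs] at h1
        rw [hEs]
        refine (rs_smul N (le_top : O ≤ ⊤) _ _).trans ?_
        rw [h1]
        simp only [T₀, map_mul, mul_smul]
        exact (rs_smul N (le_top : O ≤ ⊤) _ _).symm
      have hsub : rs N (le_top : O ≤ ⊤) (US z) =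
          rs N (le_top : O ≤ ⊤) (US (a j ^ n₀ • m₀ i)) -
          rs N (le_top : O ≤ ⊤) (US (a i ^ n₀ • m₀ j)) := by
        simp only [z, hUS]
        exact map_sub (N.presheaf.map (homOfLE (le_top : O ≤ ⊤)).op).hom _ _
      rw [hsub, key _ i hOi, key _ j hOj, mul_comm, sub_self]
    have h2 : rfHom (le_top : O ≤ ⊤) (str U₀.ι (π (D.φ i z))) = 0 := by
      have h3 : rs N (le_top : O ≤ ⊤) (US (D.φ i z • D.e i)) = 0 := by
        rw [D.span, hEs]
        refine (rs_smul N (le_top : O ≤ ⊤) _ _).trans ?_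
        rw [hz, smul_zero]
      rw [hEs] at h3
      have h4 := (rs_smul N (le_top : O ≤ ⊤) (str U₀.ι (π (D.φ i z))) (E i)).symm.trans h3
      refine (hE i O hOi).1 ?_
      simp only [rs_rs]
      exact h4.trans (zero_smul _ _).symm
    let : Algebra (A ⧸ J) Γ((U₀ : Scheme.{u}), O) :=
      ((rfHom (le_top : O ≤ ⊤)).comp (str U₀.ι)).toAlgebra
    have : IsLocalization.Away (π (a i * a j)) Γ((U₀ : Scheme.{u}), O) :=
      isLocalization_chart U₀ _ fun w hw => haU₀ i (by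
        rw [map_mul, PrimeSpectrum.basicOpen_mul] at hw; exact hw.1)
    obtain ⟨⟨_, l, rfl⟩, hl⟩ := (IsLocalization.map_eq_zero_iff (Submonoid.powers (π (a i * a j)))
      Γ((U₀ : Scheme.{u}), O) (π (D.φ i z))).mp h2
    change π (a i * a j) ^ l * π (D.φ i z) = 0 at hl
    rw [← map_pow, ← map_mul, Ideal.Quotient.eq_zero_iff_mem] at hl
    refine ⟨l + D.k, ?_⟩
    have h5 : a i ^ D.k • ((a i * a j) ^ l • z) ∈ J • (⊤ : Submodule A Γ(L, ⊤)) := by
      rw [← D.span, map_smul, smul_eq_mul]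
      exact Submodule.smul_mem_smul hl trivial
    convert Submodule.smul_mem _ (a j ^ D.k) h5 using 1
    change (a i * a j) ^ (l + D.k) • z = _
    rw [smul_smul, smul_smul]
    refine congrArg (· • z) ?_
    ring
  have hgen : ∀ i, ∃ (l : ℕ) (b' : A), D.φ i (m₀ i) * b' - a i ^ l ∈ J := fun i => by
    obtain ⟨v, hv⟩ := hc₀u i
    obtain ⟨⟨r', _, p, rfl⟩, hp⟩ := IsLocalization.surj (Submonoid.powers (π (a i)))
      (↑v⁻¹ : Γ((U₀ : Scheme.{u}), W i))
    obtain ⟨r', rfl⟩ := Ideal.Quotient.mk_surjective r'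
    have h1 : algebraMap (A ⧸ J) Γ((U₀ : Scheme.{u}), W i) (π (r₀ i * r')) =
        algebraMap (A ⧸ J) Γ((U₀ : Scheme.{u}), W i) (π (a i ^ (n₀ + p))) := by
      have hinv : c₀ i * (↑v⁻¹ : Γ((U₀ : Scheme.{u}), W i)) = 1 := by rw [← hv, Units.mul_inv]
      simp only [map_mul, map_pow] at hp ⊢
      rw [hr₀, ← hp, pow_add]
      linear_combination (algebraMap (A ⧸ J) Γ((U₀ : Scheme.{u}), W i) (π (a i)) ^ n₀ *
        algebraMap (A ⧸ J) Γ((U₀ : Scheme.{u}), W i) (π (a i)) ^ p) * hinv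
    obtain ⟨⟨_, q, rfl⟩, hq⟩ := IsLocalization.exists_of_eq (M := Submonoid.powers (π (a i))) h1
    refine ⟨q + (n₀ + p) + D.k, a i ^ q * r', ?_⟩
    rw [show D.φ i (m₀ i) = r₀ i * a i ^ D.k by simp [m₀, D.unit], ← Ideal.Quotient.eq_zero_iff_mem]
    simp only [map_mul, map_pow, map_sub] at hq ⊢
    linear_combination (π (a i) ^ D.k) * hq
  obtain ⟨T⟩ := TrivData.nonempty_of_lineData D n₀ m₀ hcompat hgen
  obtain ⟨x, ψ, -, hψ⟩ := exists_generator D T hJ hG hs hg hBs hBg hSep hGlue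
  obtain ⟨Φ, hΦ⟩ := GenLocus.exists_hom_of_sec (L := L) x
  have hiso : IsIso Φ := H52.PushInv.isIso_of_gens Φ fun p => by
    obtain ⟨i, hi⟩ := hcov p
    refine ⟨V i, one _ (V i), hi, isGen_one _, ?_⟩
    have h1 : Φ.app (V i) (one (U : Scheme.{u}) (V i)) = rs L le_top x := by
      rw [← rs_app_one Φ (le_top : V i ≤ ⊤)]
      exact congrArg (rs L _) hΦ
    rw [h1, hc i x]
    refine IsGen_smul_isUnit (hf i) ?_
    have h2 := hD i
    rw [hψ (D.e i), map_smul, Algebra.smul_def] at h2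
    exact (IsUnit.mul_iff.mp h2).2
  exact ⟨(asIso Φ).symm⟩

/-- Free associated graded ring: trivial Picard group ascends from `A ⧸ J`. -/
theorem picTrivial_of_gr_free {A : Type u} [CommRing A] [IsNoetherianRing A] [IsLocalRing A]
    (J : Ideal A) (hJ : J ≠ ⊤) [IsLocalRing (A ⧸ J)]
    (hd : (3 : ℕ∞) ≤ LocCoh.depth (A ⧸ J) (A ⧸ J))
    (hgr : ∀ n : ℕ, Module.Free (A ⧸ J) (↥(J ^ n) ⧸ (J • (⊤ : Submodule A ↥(J ^ n)))))
    (h0 : ParaF.PicTrivial (FEt.puncturedSpec (A ⧸ J) : Scheme.{u})) :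
    ParaF.PicTrivial (FEt.puncturedSpec A : Scheme.{u}) := fun L hL =>
  trivial_of_pullback J hJ hd hgr L hL fun s _ => h0 _ (PicLoc.isInvertible_pullback s hL)

end Groth.Agent.H80.Clopen
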