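import Groth.Agent.S17758
import Groth.Agent.S1185
import Groth.Agent.H80.CompleteDVRExt
import Groth.Agent.Lib.Adic.Complete
import Groth.Agent.H22.Completion
import Groth.Agent.H24.CompleteFinite
import Groth.Agent.Lib.Dim.Integral
import Groth.Agent.Lib.FEt.NormalCover
import Groth.Agent.Lib.FEt.FullyFaithfulComp
import Groth.Agent.Lib.Henselian.Basic
import Mathlib.AlgebraicGeometry.QuasiAffine

/-!
# Linear sections of punctured spectra of complete normal domains
-/

set_option autoImplicit false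
set_option linter.style.haveILetI false
set_option backward.isDefEq.respectTransparency false

universe u

open CategoryTheory CategoryTheory.Limits AlgebraicGeometry IsLocalRing TopologicalSpace

namespace Groth.Agent.H80.LinearSection

variable {A : Type u} [CommRing A] [IsDomain A] [IsNoetherianRing A] [IsLocalRing A]

omit [IsDomain A] in
theorem nontrivial_ne {A : Type u} [CommRing A] [IsDomain A] [IsLocalRing A]
    (hdim : (1 : WithBot ℕ∞) ≤ ringKrullDim A) :
    (⟨⊥, Ideal.isPrime_bot⟩ : PrimeSpectrum A) ≠ closedPoint A := fun h => by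
  have hm : maximalIdeal A = ⊥ := (congrArg PrimeSpectrum.asIdeal h).symm
  have := (IsLocalRing.isField_iff_maximalIdeal_eq (R := A)).2 hm
  rw [ringKrullDim_eq_zero_of_isField this] at hdim
  exact absurd hdim (by norm_num)

/-- The part of a connected cover over a linear section is connected. -/
theorem isConnected_preimage [IsIntegrallyClosed A] [IsAdicComplete (maximalIdeal A) A] (k : ℕ)
    (hdim : ((k + 2 : ℕ) : WithBot ℕ∞) ≤ ringKrullDim A) (f : Fin k → A)
    (hf : ∀ i, f i ∈ maximalIdeal A) (V : FEt.Cat (FEt.puncturedSpec A : Scheme.{u}))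
    [IsIntegral V.left] :
    _root_.IsConnected {z : V.left | ∀ i, f i ∈
      ((V.hom ≫ (FEt.puncturedSpec A).ι).base z : PrimeSpectrum A).asIdeal} := by
  let U := FEt.puncturedSpec A
  have h2 : (2 : WithBot ℕ∞) ≤ ringKrullDim A :=
    le_trans (by exact_mod_cast (show 2 ≤ k + 2 by omega)) hdim
  obtain ⟨hfin, -⟩ := Groth.Agent.S1185.result A h2 V
  have : IsFinite V.hom := V.prop.1
  have : Etale V.hom := V.prop.2
  let φ : A →+* Γ(V.left, ⊤) :=
    ((V.hom ≫ U.ι).appTop).hom.comp (Scheme.ΓSpecIso (CommRingCat.of A)).inv.hom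
  let B := Γ(V.left, ⊤)
  letI : Algebra A B := φ.toAlgebra
  haveI : Module.Finite A B := hfin
  haveI : IsDomain B := inferInstance
  have : CompactSpace ↥(U : Scheme.{u}) := isCompact_iff_compactSpace.mp
    (TopologicalSpace.NoetherianSpace.isCompact (α := PrimeSpectrum A) _)
  haveI : (U : Scheme.{u}).IsQuasiAffine := Scheme.IsQuasiAffine.of_isImmersion U.ι
  haveI : V.left.IsQuasiAffine := Scheme.IsQuasiAffine.of_isAffineHom (f := V.hom) (X := V.left) (Y := (U : Scheme.{u}))
  haveI : Nonempty ↥(U : Scheme.{u}) := ⟨⟨(⟨⊥, Ideal.isPrime_bot⟩ : PrimeSpectrum A),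
    nontrivial_ne (le_trans (by norm_num) h2)⟩⟩
  haveI : IsIntegral (U : Scheme.{u}) := isIntegral_of_isOpenImmersion U.ι
  let τ : V.left ⟶ Spec (CommRingCat.of B) := V.left.toSpecΓ
  let π : Spec (CommRingCat.of B) ⟶ Spec (CommRingCat.of A) := Spec.map (CommRingCat.ofHom φ)
  have hτπ : τ ≫ π = V.hom ≫ U.ι := by
    simp only [τ, π, φ]
    rw [← CommRingCat.hom_comp, CommRingCat.ofHom_hom, Spec.map_comp, ← Scheme.toSpecΓ_naturality_assoc,
      toSpecΓ_SpecMap_ΓSpecIso_inv, Category.comp_id]
  -- the image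
  let P : (Spec (CommRingCat.of B)).Opens := π ⁻¹ᵁ U
  have hτP : ∀ z, τ.base z ∈ P := fun z => by
    show π.base (τ.base z) ∈ U
    rw [← Scheme.Hom.comp_apply, hτπ, Scheme.Hom.comp_apply]
    exact (V.hom.base z).2
  let t : V.left ⟶ (P : Scheme.{u}) := IsOpenImmersion.lift P.ι τ (by
    rw [Scheme.Opens.range_ι]; rintro _ ⟨z, rfl⟩; exact hτP z)
  have ht : t ≫ P.ι = τ := IsOpenImmersion.lift_fac _ _ _
  have ht2 : t ≫ (π ∣_ U) = V.hom := by
    rw [← cancel_mono U.ι, Category.assoc, morphismRestrict_ι, reassoc_of% ht, hτπ]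
  haveI : IsFinite π := (IsFinite.SpecMap_iff _).mpr (RingHom.finite_algebraMap.mpr ‹_›)
  haveI : IsFinite (π ∣_ U) := MorphismProperty.of_isPullback (isPullback_morphismRestrict π U).flip ‹_›
  haveI : IsFinite (t ≫ (π ∣_ U)) := by rw [ht2]; infer_instance
  haveI : IsFinite t := IsFinite.of_comp t (π ∣_ U)
  haveI : IsOpenImmersion (t ≫ P.ι) := by rw [ht]; infer_instance
  haveI : IsOpenImmersion t := IsOpenImmersion.of_comp t P.ι
  obtain ⟨z₀⟩ := (inferInstance : Nonempty V.left)
  haveI : IrreducibleSpace ↥(Spec (CommRingCat.of B)) :=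
    inferInstanceAs (IrreducibleSpace (PrimeSpectrum B))
  haveI : PreconnectedSpace ↥(P : Scheme.{u}) :=
    Subtype.preconnectedSpace
      ((IrreducibleSpace.isIrreducible_univ (↥(Spec (CommRingCat.of B)))).isPreirreducible.open_subset
        P.2 (Set.subset_univ _)).isPreconnected
  have hrange : Set.range t.base = Set.univ :=
    IsClopen.eq_univ ⟨t.isClosedMap.isClosed_range, t.isOpenEmbedding.isOpen_range⟩ ⟨_, z₀, rfl⟩
  -- the ring
  have hinj : Function.Injective (algebraMap A B) := by
    rw [injective_iff_map_eq_zero]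
    intro a ha
    by_contra hne
    let p : V.left ⟶ (U : Scheme.{u}) := V.hom
    haveI : Flat p := inferInstanceAs (Flat V.hom)
    obtain ⟨g, -, hg⟩ := Flat.generalizingMap p (genericPoint_specializes (p.base z₀))
    have hg0 : ((V.hom ≫ U.ι).base g : PrimeSpectrum A).asIdeal = ⊥ := by
      rw [show (V.hom ≫ U.ι).base g = U.ι.base (p.base g) from rfl, hg]
      obtain ⟨w, hw⟩ : (⟨⊥, Ideal.isPrime_bot⟩ : PrimeSpectrum A) ∈ Set.range U.ι.base := by
        rw [Scheme.Opens.range_ι]
        exact nontrivial_ne (le_trans (by norm_num) h2)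
      have hsp := (genericPoint_specializes w).map U.ι.continuous
      rw [hw] at hsp
      exact eq_bot_iff.2 ((PrimeSpectrum.le_iff_specializes _ _).2 hsp)
    have h1 : (π.base (τ.base g) : PrimeSpectrum A).asIdeal = ⊥ := by
      rw [← Scheme.Hom.comp_apply, hτπ]; exact hg0
    exact hne (by
      have h3 : a ∈ ((π.base (τ.base g) : Spec (CommRingCat.of A)) : PrimeSpectrum A).asIdeal := by
        show algebraMap A B a ∈ (τ.base g : PrimeSpectrum B).asIdeal
        rw [ha]; exact Ideal.zero_mem _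
      rwa [h1] at h3)
  haveI := H80.CompleteDVRExt.henselianLocalRing_base A
  haveI : IsLocalRing B := H80.CompleteDVRExt.isLocalRing_of_finite_domain A B
  haveI : IsLocalHom (algebraMap A B) :=
    RingHom.IsIntegral.isLocalHom (Algebra.IsIntegral.isIntegral (R := A)) hinj
  haveI : IsNoetherianRing B := isNoetherian_of_tower A inferInstance
  haveI : IsAdicComplete (maximalIdeal B) B := H24.CompleteFinite.isAdicComplete_maximalIdeal (R := A)
  haveI : FaithfulSMul A B := (faithfulSMul_iff_algebraMap_injective A B).mpr hinj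
  have hdimB : ringKrullDim B = ringKrullDim A :=
    (Lib.Dim.Integral.ringKrullDim_eq_of_isIntegral (R := A) (A := B))
  obtain ⟨d, hd⟩ : ∃ d : ℕ, ringKrullDim B = d := by
    obtain ⟨d, hd⟩ := ENat.ne_top_iff_exists.1 (Ideal.height_ne_top
      (I := maximalIdeal B) Ideal.IsPrime.ne_top')
    exact ⟨d, by rw [← IsLocalRing.maximalIdeal_height_eq_ringKrullDim, ← hd]; rfl⟩
  let g : Fin k → B := fun i => algebraMap A B (f i)
  have hgm : Ideal.span (Set.range g) ≤ maximalIdeal B := Ideal.span_le.2 (by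
    rintro _ ⟨i, rfl⟩
    exact map_mem_nonunits_iff (algebraMap A B) (f i) |>.2 (hf i))
  have hc := Groth.Agent.S17758.result B d hd k (by
    rw [← hdimB, hd] at hdim; exact_mod_cast hdim) g (Ideal.span (Set.range g))
    (ne_top_of_le_ne_top (Ideal.IsMaximal.ne_top inferInstance) hgm) rfl
  have himg : τ.base '' {z : V.left | ∀ i, f i ∈ ((V.hom ≫ U.ι).base z : PrimeSpectrum A).asIdeal} =
      ({x : PrimeSpectrum B | Ideal.span (Set.range g) ≤ x.asIdeal ∧ x.asIdeal ≠ maximalIdeal B} :
        Set (Spec (CommRingCat.of B))) := by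
    ext x
    constructor
    · rintro ⟨z, hz, rfl⟩
      refine ⟨Ideal.span_le.2 ?_, fun he => (hτP z) ?_⟩
      · rintro _ ⟨i, rfl⟩
        have := hz i
        rw [← hτπ, Scheme.Hom.comp_apply] at this
        exact this
      · exact PrimeSpectrum.ext ((congrArg (Ideal.comap (algebraMap A B)) he).trans
          (IsLocalRing.maximalIdeal_comap _))
    · rintro ⟨hle, hne⟩
      have hxP : (x : Spec (CommRingCat.of B)) ∈ P := fun he => hne (by
        have e : (x : PrimeSpectrum B).asIdeal.comap (algebraMap A B) = maximalIdeal A :=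
          congrArg PrimeSpectrum.asIdeal (show π.base x = closedPoint A from he)
        haveI := (x : PrimeSpectrum B).2
        have hmax : (x : PrimeSpectrum B).asIdeal.IsMaximal :=
          Ideal.isMaximal_of_isIntegral_of_isMaximal_comap (R := A) _ (e ▸ IsLocalRing.maximalIdeal.isMaximal A)
        exact IsLocalRing.eq_maximalIdeal hmax)
      obtain ⟨z, hz⟩ : (⟨x, hxP⟩ : P) ∈ Set.range t.base := hrange.ge trivial
      have hzx : τ.base z = x := by rw [← ht, Scheme.Hom.comp_apply, hz]; rfl
      refine ⟨z, fun i => ?_, hzx⟩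
      rw [← hτπ, Scheme.Hom.comp_apply]
      erw [hzx]
      exact hle (Ideal.subset_span ⟨i, rfl⟩)
  rw [← himg] at hc
  have hτ : Topology.IsInducing τ.base := τ.isOpenEmbedding.isInducing
  exact ⟨hc.nonempty.of_image, hτ.isPreconnected_image.1 hc.isPreconnected⟩

omit [IsNoetherianRing A] [IsLocalRing A] in
theorem spec_isNormalScheme [IsIntegrallyClosed A] :
    Pi1.IsNormalScheme (Spec (CommRingCat.of A)) := fun x => by
  have key : ∀ q : PrimeSpectrum A, IsDomain ((Spec.structureSheaf A).presheaf.stalk q) ∧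
      IsIntegrallyClosed ((Spec.structureSheaf A).presheaf.stalk q) := fun q =>
    haveI := IsLocalization.isDomain_of_le_nonZeroDivisors (R := A)
      ((Spec.structureSheaf A).presheaf.stalk q) q.asIdeal.primeCompl_le_nonZeroDivisors
    ⟨this, isIntegrallyClosed_of_isLocalization ((Spec.structureSheaf A).presheaf.stalk q) _
      q.asIdeal.primeCompl_le_nonZeroDivisors⟩
  exact key x

theorem linear_section [IsIntegrallyClosed A] [IsAdicComplete (maximalIdeal A) A] (k : ℕ)
    (hdim : ((k + 2 : ℕ) : WithBot ℕ∞) ≤ ringKrullDim A) (f : Fin k → A)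
    (hf : ∀ i, f i ∈ maximalIdeal A) {Z : Scheme.{u}} (j : Z ⟶ (FEt.puncturedSpec A : Scheme.{u}))
    [IsClosedImmersion j]
    (hj : Set.range j.base = {x | ∀ i, f i ∈ ((FEt.puncturedSpec A).ι.base x : PrimeSpectrum A).asIdeal}) :
    ConnectedSpace Z ∧ (FEt.restrict j).Full ∧ (FEt.restrict j).Faithful := by
  let U := FEt.puncturedSpec A
  have h2 : (2 : WithBot ℕ∞) ≤ ringKrullDim A :=
    le_trans (by exact_mod_cast (show 2 ≤ k + 2 by omega)) hdim
  haveI : Nonempty ↥(U : Scheme.{u}) := ⟨⟨(⟨⊥, Ideal.isPrime_bot⟩ : PrimeSpectrum A),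
    nontrivial_ne (le_trans (by norm_num) h2)⟩⟩
  haveI : IsIntegral (U : Scheme.{u}) := isIntegral_of_isOpenImmersion U.ι
  have hX : Pi1.IsNormalScheme (U : Scheme.{u}) := fun x => by
    obtain ⟨h1, h2⟩ := spec_isNormalScheme (A := A) (U.ι.base x)
    have e := (asIso (U.ι.stalkMap x)).commRingCatIsoToRingEquiv
    exact ⟨e.toMulEquiv.isDomain_iff.mp h1, IsIntegrallyClosed.of_equiv e⟩
  -- the trivial cover
  let T : FEt.Cat (U : Scheme.{u}) := MorphismProperty.Over.mk ⊤ (𝟙 _) (FEt.prop.id_mem _)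
  haveI : IsIntegral T.left := ‹IsIntegral (U : Scheme.{u})›
  have hZ : _root_.IsConnected (Set.range j.base) := by
    rw [hj]
    exact isConnected_preimage k hdim f hf T
  haveI hconn : ConnectedSpace Z := by
    rw [connectedSpace_iff_univ]
    refine ⟨?_, j.isClosedEmbedding.isInducing.isPreconnected_image.1 ?_⟩
    · obtain ⟨_, z, -⟩ := hZ.nonempty; exact ⟨z, trivial⟩
    · rw [Set.image_univ]; exact hZ.isPreconnected
  refine ⟨hconn, Lib.FEt.FullyFaithful.full_and_faithful j (fun s hs hne => ?_) fun W C hC => ?_⟩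
  · rw [hs.eq_univ hne, Set.univ_inter]; exact Set.range_nonempty _
  -- components of the cover
  have : IsFinite W.hom := W.prop.1
  have : Etale W.hom := W.prop.2
  let q := pullback.fst W.hom j
  have hq : Set.range q.base = W.hom.base ⁻¹' Set.range j.base := Scheme.Pullback.range_fst _ _
  let G := {g : W.left | W.hom.base g = genericPoint (U : Scheme.{u}) ∧ (q.base ⁻¹' closure {g} ∩ C).Nonempty}
  have hGfin : G.Finite := (W.hom.finite_preimage_singleton (genericPoint (U : Scheme.{u}))).subset fun g hg => hg.1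
  refine ⟨⋃ g ∈ G, closure {g}, hGfin.isClopen_biUnion fun g hg => Lib.FEt.NormalCover.isClopen_closure hX W.hom hg.1, ?_⟩
  ext t
  simp only [Set.mem_preimage, Set.mem_iUnion, exists_prop]
  constructor
  · rintro ⟨g, ⟨hg, c, hcg, hcC⟩, hgt⟩
    have hclop := Lib.FEt.NormalCover.isClopen_closure hX W.hom hg
    let O : W.left.Opens := ⟨closure {g}, hclop.2⟩
    haveI : IsClosedImmersion O.ι := IsClosedImmersion.of_isPreimmersion _ (by
      rw [Scheme.Opens.range_ι]; exact hclop.1)
    let V : FEt.Cat (U : Scheme.{u}) := MorphismProperty.Over.mk ⊤ (O.ι ≫ W.hom) ⟨inferInstance, inferInstance⟩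
    haveI : IrreducibleSpace ↥(O : Scheme.{u}) :=
      @Subtype.irreducibleSpace _ _ _ isIrreducible_singleton.closure
    haveI : ConnectedSpace V.left := inferInstanceAs (ConnectedSpace ↥(O : Scheme.{u}))
    haveI : IsIntegral V.left := Lib.FEt.NormalCover.isIntegral hX (O.ι ≫ W.hom)
    have hconnV := (isConnected_preimage k hdim f hf V).isPreconnected.image O.ι.base O.ι.continuous.continuousOn
    have himg : O.ι.base '' {z : V.left | ∀ i, f i ∈ ((V.hom ≫ U.ι).base z : PrimeSpectrum A).asIdeal} =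
        q.base '' (q.base ⁻¹' closure {g}) := by
      rw [Set.image_preimage_eq_inter_range, hq, hj]
      ext w
      constructor
      · rintro ⟨z, hz, rfl⟩
        refine ⟨z.2, ?_⟩
        intro i
        exact hz i
      · rintro ⟨hw, hwf⟩
        exact ⟨⟨w, hw⟩, hwf, rfl⟩
    rw [himg] at hconnV
    have hqi : Topology.IsInducing q.base := q.isEmbedding.isInducing
    have hpre := hqi.isPreconnected_image.1 hconnV
    exact hpre.subset_isClopen hC ⟨c, hcg, hcC⟩ hgt
  · intro htC
    obtain ⟨g, ⟨hg, hgt⟩, -⟩ := Lib.FEt.NormalCover.existsUnique_generalization hX W.hom (q.base t)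
    exact ⟨g, ⟨hg, t, specializes_iff_mem_closure.mp hgt, htC⟩, specializes_iff_mem_closure.mp hgt⟩

end Groth.Agent.H80.LinearSection
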