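import Groth.Agent.Lib.FEt.FieldDescent
import Groth.Agent.Lib.FEt.GeomConn
import Groth.Agent.S17961
import Groth.Agent.H80.Extend.FormalCompl
import Groth.Agent.Lib.Excellent.CompletionNoetherian
import Mathlib.RingTheory.AdicCompletion.LocalRing
import Mathlib.RingTheory.Jacobson.Ring

/-!
# Finite etale covers of proper schemes under extensions of algebraically closed fields
-/

set_option autoImplicit false
set_option backward.isDefEq.respectTransparency false

universe u

open CategoryTheory CategoryTheory.Limits AlgebraicGeometry IsLocalRing TensorProduct Opposite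
open Groth.Agent.Lib.Lim.Basic

namespace Groth.Agent.H80.Clopen.ProperBaseField

section Fg

variable (k K : Type u) [CommRing k] [CommRing K] [Algebra k K]

/-- The finitely generated subalgebras. -/
abbrev FgSub : Type u := {S : Subalgebra k K // S.FG}

instance : IsDirectedOrder (FgSub k K) :=
  ⟨fun a b ↦ ⟨⟨a.1 ⊔ b.1, a.2.sup b.2⟩, Subtype.coe_le_coe.1 le_sup_left,
      Subtype.coe_le_coe.1 le_sup_right⟩⟩

instance : Nonempty (FgSub k K) := ⟨⟨⊥, Subalgebra.fg_bot⟩⟩

/-- Their diagram. -/
def fgFunctor : FgSub k K ⥤ CommRingCat.{u} where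
  obj L := CommRingCat.of L.1
  map f := CommRingCat.ofHom (Subalgebra.inclusion (Subtype.coe_le_coe.2 f.le)).toRingHom
  map_id _ := by ext x; rfl
  map_comp _ _ := by ext x; rfl

/-- The union. -/
def fgCocone : Cocone (fgFunctor k K) where
  pt := CommRingCat.of K
  ι := { app := fun L ↦ CommRingCat.ofHom L.1.val.toRingHom
         naturality := fun _ _ _ ↦ by ext x; rfl }

theorem nonempty_isColimit_fgCocone : Nonempty (IsColimit (fgCocone k K)) := by
  haveI : IsFiltered (FgSub k K) := isFiltered_of_directed_le_nonempty (FgSub k K)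
  haveI : HasColimit (fgFunctor k K) := inferInstance
  haveI : ReflectsColimit (fgFunctor k K) (forget CommRingCat.{u}) :=
    reflectsColimit_of_reflectsIsomorphisms _ _
  refine ⟨isColimitOfReflects (forget CommRingCat.{u})
    (Types.FilteredColimit.isColimitOf _ _ (fun x ↦ ?_) fun i j xi xj h ↦ ?_)⟩
  · let x' : K := x
    exact ⟨⟨Algebra.adjoin k {x'}, by classical exact ⟨{x'}, by simp⟩⟩,
      ⟨x', Algebra.subset_adjoin rfl⟩, rfl⟩
  · obtain ⟨m, him, hjm⟩ := exists_ge_ge i j
    exact ⟨m, homOfLE him, homOfLE hjm, Subtype.ext h⟩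

instance : IsFiltered (FgSub k K) := isFiltered_of_directed_le_nonempty _

end Fg

variable {k : Type u} [Field k] {X : Scheme.{u}} (f : X ⟶ Spec (CommRingCat.of k))

/-- Base change to an algebra. -/
noncomputable abbrev bc (B : Type u) [CommRing B] [Algebra k B] : Scheme.{u} :=
  pullback f (Spec.map (CommRingCat.ofHom (algebraMap k B)))

/-- Functoriality. -/
noncomputable def bcMap {B C : Type u} [CommRing B] [Algebra k B] [CommRing C] [Algebra k C]
    (φ : B →ₐ[k] C) : bc f C ⟶ bc f B :=
  pullback.lift (pullback.fst _ _) (pullback.snd _ _ ≫ Spec.map (CommRingCat.ofHom φ.toRingHom))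
    (by rw [Category.assoc, ← Spec.map_comp, ← CommRingCat.ofHom_comp, φ.toRingHom_eq_coe,
      φ.comp_algebraMap]; exact pullback.condition)

theorem isPullback_bcMap {B C : Type u} [CommRing B] [Algebra k B] [CommRing C] [Algebra k C]
    (φ : B →ₐ[k] C) : IsPullback (bcMap f φ) (pullback.snd f _) (pullback.snd f _)
      (Spec.map (CommRingCat.ofHom φ.toRingHom)) := by
  refine IsPullback.of_right ?_ (pullback.lift_snd _ _ _)
    (IsPullback.of_hasPullback f (Spec.map (CommRingCat.ofHom (algebraMap k B))))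
  rw [bcMap, pullback.lift_fst, ← Spec.map_comp, ← CommRingCat.ofHom_comp, φ.toRingHom_eq_coe,
    φ.comp_algebraMap]
  exact IsPullback.of_hasPullback _ _

/-- Over an algebraically closed field, base change to a bigger field is fully faithful. -/
theorem full_and_faithful_bcMap {B C : Type u} [Field B] [IsAlgClosed B] [Algebra k B] [Field C]
    [Algebra k C] (φ : B →ₐ[k] C) :
    (FEt.restrict (bcMap f φ)).Full ∧ (FEt.restrict (bcMap f φ)).Faithful := by
  have : ConnectedSpace ↥(Spec (CommRingCat.of C)) :=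
    inferInstanceAs (ConnectedSpace (PrimeSpectrum C))
  have h1 : GeometricallyConnected (Spec.map (CommRingCat.ofHom φ.toRingHom)) :=
    Lib.FEt.GeomConn.geometricallyConnected_of_connected_isAlgClosed B _
  have h2 : UniversallyOpen (Spec.map (CommRingCat.ofHom φ.toRingHom)) :=
    Lib.FEt.GeomConn.universallyOpen_to_spec_field B _
  have : GeometricallyConnected (bcMap f φ) := MorphismProperty.of_isPullback (isPullback_bcMap f φ).flip h1
  have : UniversallyOpen (bcMap f φ) := MorphismProperty.of_isPullback (isPullback_bcMap f φ).flip h2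
  exact Lib.FEt.GeomConn.full_and_faithful_of_geometricallyConnected _

/-- Covers of a proper scheme over a complete local ring are detected on the closed fibre. -/
theorem full_and_faithful_closedFibre {A : Type u} [CommRing A] [IsNoetherianRing A] [IsLocalRing A]
    [IsAdicComplete (maximalIdeal A) A] {Z : Scheme.{u}} (g : Z ⟶ Spec (CommRingCat.of A)) [IsProper g] :
    (FEt.restrict (pullback.fst g (Spec.map (CommRingCat.ofHom (Ideal.Quotient.mk (maximalIdeal A)))))).Full ∧
    (FEt.restrict (pullback.fst g (Spec.map (CommRingCat.ofHom (Ideal.Quotient.mk (maximalIdeal A)))))).Faithful := by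
  have : HenselianRing A (maximalIdeal A) := IsAdicComplete.henselianRing A _
  refine Lib.FEt.FullyFaithful.full_and_faithful _ (fun s hs ⟨z, hz⟩ => ?_) fun W C hC => ?_
  · have hcl : IsClosed (g.base '' s) := g.isClosedMap _ hs.isClosed
    have h0 : (closedPoint A : PrimeSpectrum A) ∈ g.base '' s :=
      (IsLocalRing.specializes_closedPoint (R := A) (g.base z)).mem_closed hcl ⟨z, hz, rfl⟩
    obtain ⟨y, hy, hy0⟩ := h0
    refine ⟨y, hy, ?_⟩
    change y ∈ Set.range ⇑(pullback.fst g _)
    rw [Scheme.Pullback.range_fst]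
    change g.base y ∈ Set.range (PrimeSpectrum.comap (Ideal.Quotient.mk (maximalIdeal A)))
    rw [hy0, range_comap_of_surjective _ _ Ideal.Quotient.mk_surjective, Ideal.mk_ker]
    exact le_refl (maximalIdeal A)
  · obtain ⟨D, hD, -⟩ := S17961.result A (maximalIdeal A) g W.left W.hom W.prop.1 C hC
    exact ⟨D, hD.1, hD.2⟩

theorem exists_alg_hom_to_base [IsAlgClosed k] (R : Type u) [CommRing R] [Nontrivial R] [Algebra k R]
    [Algebra.FiniteType k R] : Nonempty (R →ₐ[k] k) := by
  obtain ⟨m, hm⟩ := Ideal.exists_maximal R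
  let := Ideal.Quotient.field m
  have : Algebra.FiniteType k (R ⧸ m) := Algebra.FiniteType.of_surjective (Ideal.Quotient.mkₐ k m)
    (Ideal.Quotient.mkₐ_surjective k m)
  have : Module.Finite k (R ⧸ m) := finite_of_finite_type_of_isJacobsonRing k (R ⧸ m)
  exact ⟨(AlgEquiv.ofBijective (Algebra.ofId k (R ⧸ m))
    IsAlgClosed.algebraMap_bijective_of_isIntegral).symm.toAlgHom.comp (Ideal.Quotient.mkₐ k m)⟩

/-- A cover over a finitely generated domain is constant after a geometric point over the generic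
point. -/
theorem exists_constant [IsAlgClosed k] [IsProper f] {R : Type u} [CommRing R] [IsDomain R] [Algebra k R]
    [Algebra.FiniteType k R] {T : Scheme.{u}} {p1 : T ⟶ X} {p2 : T ⟶ Spec (CommRingCat.of R)}
    (hT : IsPullback p1 p2 f (Spec.map (CommRingCat.ofHom (algebraMap k R)))) (W : FEt.Cat T)
    (K : Type u) [Field K] [IsAlgClosed K] [Algebra k K] (ψK : R →ₐ[k] K) (hK : Function.Injective ψK)
    (ιK : bc f K ⟶ T) (hι1 : ιK ≫ p1 = pullback.fst _ _)
    (hι2 : ιK ≫ p2 = pullback.snd _ _ ≫ Spec.map (CommRingCat.ofHom ψK.toRingHom)) :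
    ∃ V : FEt.Cat X, Nonempty ((FEt.restrict (pullback.fst f
      (Spec.map (CommRingCat.ofHom (algebraMap k K))))).obj V ≅ (FEt.restrict ιK).obj W) := by
  classical
  obtain ⟨s⟩ := exists_alg_hom_to_base (k := k) R
  let m : Ideal R := RingHom.ker s.toRingHom
  have hm : m.IsMaximal := RingHom.ker_isMaximal_of_surjective _ fun c => ⟨algebraMap k R c, s.commutes c⟩
  have : IsNoetherianRing R := Algebra.FiniteType.isNoetherianRing k R
  let Rm := Localization.AtPrime m
  let Rh := AdicCompletion (maximalIdeal Rm) Rm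
  let η : R →+* Rh := (algebraMap Rm Rh).comp (algebraMap R Rm)
  let : Algebra k Rh := (η.comp (algebraMap k R)).toAlgebra
  let ψ : R →ₐ[k] Rh := { η with commutes' := fun _ => rfl }
  have := Extend.faithfullyFlat_completion Rm
  have hη : Function.Injective η :=
    (FaithfulSMul.algebraMap_injective Rm Rh).comp
      (IsLocalization.injective Rm m.primeCompl_le_nonZeroDivisors)
  have : IsNoetherianRing Rh := inferInstance
  have : IsLocalRing Rh := inferInstance
  have : IsAdicComplete (maximalIdeal Rh) Rh :=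
    AdicCompletion.isAdicComplete_of_fg (maximalIdeal Rm).fg_of_isNoetherianRing
  -- maps to the stage
  have hw : ∀ {B : Type u} [CommRing B] [Algebra k B] (φ : R →ₐ[k] B), pullback.fst f _ ≫ f =
      (pullback.snd f (Spec.map (CommRingCat.ofHom (algebraMap k B))) ≫ Spec.map (CommRingCat.ofHom φ.toRingHom)) ≫
        Spec.map (CommRingCat.ofHom (algebraMap k R)) := fun φ => by
    rw [Category.assoc, ← Spec.map_comp, ← CommRingCat.ofHom_comp, φ.toRingHom_eq_coe, φ.comp_algebraMap]
    exact pullback.condition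
  let toT : ∀ {B : Type u} [CommRing B] [Algebra k B] (φ : R →ₐ[k] B), bc f B ⟶ T := fun φ =>
    hT.lift (pullback.fst f _) (pullback.snd f _ ≫ Spec.map (CommRingCat.ofHom φ.toRingHom)) (hw φ)
  have htoT1 : ∀ {B : Type u} [CommRing B] [Algebra k B] (φ : R →ₐ[k] B), toT φ ≫ p1 = pullback.fst f _ :=
    fun φ => hT.lift_fst _ _ _
  have htoT2 : ∀ {B : Type u} [CommRing B] [Algebra k B] (φ : R →ₐ[k] B), toT φ ≫ p2 =
      pullback.snd f _ ≫ Spec.map (CommRingCat.ofHom φ.toRingHom) := fun φ => hT.lift_snd _ _ _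
  have hcomp : ∀ {B C : Type u} [CommRing B] [Algebra k B] [CommRing C] [Algebra k C] (φ : R →ₐ[k] B)
      (χ : B →ₐ[k] C), bcMap f χ ≫ toT φ = toT (χ.comp φ) := fun φ χ => by
    refine hT.hom_ext ?_ ?_
    · rw [Category.assoc, htoT1, htoT1, bcMap, pullback.lift_fst]
    · rw [Category.assoc, htoT2, htoT2, bcMap, pullback.lift_snd_assoc, Category.assoc, ← Spec.map_comp,
        ← CommRingCat.ofHom_comp]
      rfl
  let σ : X ⟶ T := hT.lift (𝟙 X) (f ≫ Spec.map (CommRingCat.ofHom s.toRingHom)) (by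
    rw [Category.id_comp, Category.assoc, ← Spec.map_comp, ← CommRingCat.ofHom_comp, s.toRingHom_eq_coe,
      s.comp_algebraMap, Algebra.algebraMap_self, CommRingCat.ofHom_id, Spec.map_id, Category.comp_id])
  let V := (FEt.restrict σ).obj W
  let W' := (FEt.restrict p1).obj V
  -- equality on the closed fibre
  have : IsProper (pullback.snd f (Spec.map (CommRingCat.ofHom (algebraMap k Rh)))) := inferInstance
  let F := pullback.snd f (Spec.map (CommRingCat.ofHom (algebraMap k Rh)))
  let mk := Spec.map (CommRingCat.ofHom (Ideal.Quotient.mk (maximalIdeal Rh)))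
  let i := pullback.fst F mk
  have hres : (Ideal.Quotient.mk (maximalIdeal Rh)).comp η =
      ((Ideal.Quotient.mk (maximalIdeal Rh)).comp (algebraMap k Rh)).comp s.toRingHom := RingHom.ext fun r => by
    change Ideal.Quotient.mk _ (η r) = Ideal.Quotient.mk _ (η (algebraMap k R (s r)))
    rw [Ideal.Quotient.eq, ← map_sub]
    have h1 : algebraMap R Rm (r - algebraMap k R (s r)) ∈ maximalIdeal Rm :=
      (IsLocalization.AtPrime.to_map_mem_maximal_iff Rm m _).mpr
        (RingHom.mem_ker.mpr (by simp))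
    show algebraMap Rm Rh _ ∈ maximalIdeal Rh
    rw [AdicCompletion.maximalIdeal_eq_map]
    exact Ideal.mem_map_of_mem _ h1
  have heq : i ≫ toT ψ = ((i ≫ toT ψ) ≫ p1) ≫ σ := by
    refine hT.hom_ext ?_ ?_
    · rw [Category.assoc _ σ p1, hT.lift_fst, Category.comp_id]
    · rw [Category.assoc _ σ p2, hT.lift_snd]
      simp only [Category.assoc]
      rw [reassoc_of% (htoT1 ψ), htoT2]
      rw [pullback.condition_assoc (f := f), ← Category.assoc i (pullback.snd f _), ← Category.assoc i (pullback.snd f _),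
        pullback.condition (f := F) (g := mk), Category.assoc, Category.assoc]
      refine congrArg (pullback.snd F mk ≫ ·) ?_
      simp only [mk, ← Spec.map_comp, ← CommRingCat.ofHom_comp, ← Category.assoc]
      exact congrArg (fun φ => Spec.map (CommRingCat.ofHom φ)) hres
  obtain ⟨hFull, hFaith⟩ := full_and_faithful_closedFibre F
  let pc := fun {A B C : Scheme.{u}} (a : A ⟶ B) (b : B ⟶ C) (U : FEt.Cat C) =>
    (MorphismProperty.Over.pullbackComp (P := FEt.prop) (Q := ⊤) a b).app U
  let pg := fun {A B : Scheme.{u}} {a b : A ⟶ B} (h : a = b) (U : FEt.Cat B) =>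
    (MorphismProperty.Over.pullbackCongr (P := FEt.prop) (Q := ⊤) h).app U
  let e0 : (FEt.restrict i).obj ((FEt.restrict (toT ψ)).obj W) ≅
      (FEt.restrict i).obj ((FEt.restrict (toT ψ)).obj W') :=
    (pc i (toT ψ) W).symm ≪≫ pg heq W ≪≫ pc _ σ W ≪≫ pc _ p1 V ≪≫ pc i (toT ψ) W'
  let eh : (FEt.restrict (toT ψ)).obj W ≅ (FEt.restrict (toT ψ)).obj W' := (FEt.restrict i).preimageIso e0
  -- a geometric point over the generic point
  obtain ⟨P, hP, -, hPd⟩ := Ideal.exists_le_prime_disjoint (⊥ : Ideal Rh)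
    ((nonZeroDivisors R).map η) (Set.disjoint_left.mpr fun x hx hx' => by
      obtain ⟨r, hr, rfl⟩ := hx'
      exact nonZeroDivisors.ne_zero hr (hη ((Submodule.mem_bot Rh).mp hx |>.trans (map_zero η).symm)))
  let L := AlgebraicClosure (FractionRing (Rh ⧸ P))
  let χ : Rh →+* L := ((algebraMap (FractionRing (Rh ⧸ P)) L).comp (algebraMap (Rh ⧸ P) _)).comp (Ideal.Quotient.mk P)
  let : Algebra k L := (χ.comp (algebraMap k Rh)).toAlgebra
  let χa : Rh →ₐ[k] L := { χ with commutes' := fun _ => rfl }
  let ψL : R →ₐ[k] L := χa.comp ψ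
  have hL : Function.Injective ψL := (injective_iff_map_eq_zero _).mpr fun r hr => by
    by_contra hne
    have h1 : Ideal.Quotient.mk P (η r) = 0 :=
      IsFractionRing.injective (Rh ⧸ P) (FractionRing (Rh ⧸ P))
        ((algebraMap (FractionRing (Rh ⧸ P)) L).injective
          (show χ (η r) = _ by rw [map_zero, map_zero]; exact hr))
    exact Set.disjoint_left.mp hPd (Ideal.Quotient.eq_zero_iff_mem.mp h1)
      ⟨r, mem_nonZeroDivisors_of_ne_zero hne, rfl⟩
  let eL : (FEt.restrict (toT ψL)).obj W ≅ (FEt.restrict (toT ψL)).obj W' :=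
    pg (hcomp ψ χa).symm W ≪≫ pc _ _ W ≪≫ (FEt.restrict (bcMap f χa)).mapIso eh ≪≫
      (pc _ _ W').symm ≪≫ pg (hcomp ψ χa) W'
  -- a common field
  let F₀ := FractionRing R
  let : Algebra F₀ L := (IsFractionRing.lift (K := F₀) hL).toAlgebra
  let : Algebra F₀ K := (IsFractionRing.lift (K := F₀) hK).toAlgebra
  have : Nontrivial (L ⊗[F₀] K) := inferInstance
  obtain ⟨M, hM⟩ := Ideal.exists_maximal (L ⊗[F₀] K)
  let := Ideal.Quotient.field M
  let Ω := AlgebraicClosure ((L ⊗[F₀] K) ⧸ M)
  let q : L ⊗[F₀] K →+* Ω := (algebraMap ((L ⊗[F₀] K) ⧸ M) Ω).comp (Ideal.Quotient.mk M)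
  let jL : L →+* Ω := q.comp Algebra.TensorProduct.includeLeftRingHom
  let jK : K →+* Ω := q.comp (Algebra.TensorProduct.includeRight : K →ₐ[F₀] L ⊗[F₀] K).toRingHom
  let : Algebra k Ω := (jK.comp (algebraMap k K)).toAlgebra
  have hagree : ∀ r : R, jL (ψL r) = jK (ψK r) := fun r => congrArg q (by
    change ψL r ⊗ₜ[F₀] (1 : K) = (1 : L) ⊗ₜ[F₀] ψK r
    rw [show ψL r = algebraMap F₀ L (algebraMap R F₀ r) from (IsFractionRing.lift_algebraMap hL r).symm,
      show ψK r = algebraMap F₀ K (algebraMap R F₀ r) from (IsFractionRing.lift_algebraMap hK r).symm,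
      Algebra.algebraMap_eq_smul_one (A := L), TensorProduct.smul_tmul,
      ← Algebra.algebraMap_eq_smul_one (A := K)])
  have hjk : ∀ c : k, jL (algebraMap k L c) = jK (algebraMap k K c) := fun c => by
    rw [← ψL.commutes, ← ψK.commutes]
    exact hagree _
  let jLa : L →ₐ[k] Ω := { jL with commutes' := hjk }
  let jKa : K →ₐ[k] Ω := { jK with commutes' := fun _ => rfl }
  have hΩ : jLa.comp ψL = jKa.comp ψK := AlgHom.ext hagree
  obtain ⟨hF1, hF2⟩ := full_and_faithful_bcMap f jKa
  have hl := hcomp ψL jLa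
  have hk := hcomp ψK jKa
  let eΩ : (FEt.restrict (bcMap f jKa)).obj ((FEt.restrict (toT ψK)).obj W) ≅
      (FEt.restrict (bcMap f jKa)).obj ((FEt.restrict (toT ψK)).obj W') :=
    (pc _ _ W).symm ≪≫ pg (hk.trans ((congrArg toT hΩ).symm.trans hl.symm)) W ≪≫ pc _ _ W ≪≫
      (FEt.restrict (bcMap f jLa)).mapIso eL ≪≫ (pc _ _ W').symm ≪≫
      pg (hl.trans ((congrArg toT hΩ).trans hk.symm)) W' ≪≫ pc _ _ W'
  let eK : (FEt.restrict (toT ψK)).obj W ≅ (FEt.restrict (toT ψK)).obj W' :=
    (FEt.restrict (bcMap f jKa)).preimageIso eΩ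
  have hιK : ιK = toT ψK := hT.hom_ext (hι1.trans (htoT1 ψK).symm) (hι2.trans (htoT2 ψK).symm)
  exact ⟨V, ⟨(pg (htoT1 ψK).symm V) ≪≫ pc _ p1 V ≪≫ eK.symm ≪≫ (pg hιK.symm W)⟩⟩

/-- Base change between algebraically closed fields. -/
theorem isEquivalence [IsAlgClosed k] [IsProper f] (K : Type u) [Field K] [IsAlgClosed K] [Algebra k K] :
    (FEt.restrict (pullback.fst f (Spec.map (CommRingCat.ofHom (algebraMap k K))))).IsEquivalence := by
  let g := Spec.map (CommRingCat.ofHom (algebraMap k K))
  have : ConnectedSpace ↥(Spec (CommRingCat.of K)) :=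
    inferInstanceAs (ConnectedSpace (PrimeSpectrum K))
  have hg := Lib.FEt.GeomConn.geometricallyConnected_of_connected_isAlgClosed k g
  have hg' := Lib.FEt.GeomConn.universallyOpen_to_spec_field k g
  have : GeometricallyConnected (pullback.fst f g) :=
    MorphismProperty.of_isPullback (IsPullback.of_hasPullback f g).flip hg
  have : UniversallyOpen (pullback.fst f g) :=
    MorphismProperty.of_isPullback (IsPullback.of_hasPullback f g).flip hg'
  obtain ⟨h1, h2⟩ := Lib.FEt.GeomConn.full_and_faithful_of_geometricallyConnected (pullback.fst f g)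
  suffices (FEt.restrict (pullback.fst f g)).EssSurj from { }
  refine ⟨fun V₁ => ?_⟩
  let D : (FgSub k K)ᵒᵖ ⥤ Scheme.{u} := (fgFunctor k K).op ⋙ Scheme.Spec
  let c : Cone D := Scheme.Spec.mapCone (fgCocone k K).op
  let hc : IsLimit c := isLimitOfPreserves Scheme.Spec (nonempty_isColimit_fgCocone k K).some.op
  let i₀ : (FgSub k K)ᵒᵖ := op ⟨⊥, Subalgebra.fg_bot⟩
  have : ∀ (a b : (FgSub k K)ᵒᵖ) (t : a ⟶ b), IsAffineHom (D.map t) := fun a b t =>
    inferInstanceAs (IsAffineHom (Spec.map _))
  let eb : Spec (CommRingCat.of k) ⟶ D.obj i₀ :=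
    Spec.map (CommRingCat.ofHom (Algebra.botEquiv k K).toRingHom)
  have : IsIso eb := by
    have : IsIso (CommRingCat.ofHom (Algebra.botEquiv k K).toRingHom :
        CommRingCat.of _ ⟶ CommRingCat.of k) :=
      (Algebra.botEquiv k K).toRingEquiv.toCommRingCatIso.isIso_hom
    exact inferInstanceAs (IsIso (Spec.map _))
  have hbot : ∀ x : (⊥ : Subalgebra k K), algebraMap k K (Algebra.botEquiv k K x) = (x : K) := fun x => by
    conv_rhs => rw [← (Algebra.botEquiv k K).symm_apply_apply x]
    exact (congrArg Subtype.val ((Algebra.botEquiv k K).symm.commutes _)).symm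
  have hsq : IsPullback (pullback.fst f g) (pullback.snd f g) (f ≫ eb) (c.π.app i₀) := by
    rw [show c.π.app i₀ = g ≫ eb from by
      refine Eq.trans ?_ (Spec.map_comp _ _)
      exact congrArg Spec.map (CommRingCat.hom_ext (RingHom.ext fun x => (hbot x).symm))]
    exact Lib.FEt.FieldDescent.isPullback_comp_mono eb (IsPullback.of_hasPullback f g)
  have : CompactSpace X := QuasiCompact.compactSpace_of_compactSpace f
  have : QuasiSeparatedSpace X := quasiSeparatedSpace_of_quasiSeparated f
  have := fun j => compactSpace_bcDiagram D (f ≫ eb) j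
  have := fun j => quasiSeparatedSpace_bcDiagram D (f ≫ eb) j
  obtain ⟨J, W, ⟨e⟩⟩ := (Groth.Agent.S12073.result (bcDiagram D (f ≫ eb))
    (bcCone (c := c) hsq.w) (isLimitBcCone hc hsq)).1 V₁
  let R := J.left.unop.1
  have : Algebra.FiniteType k R := ⟨(Subalgebra.fg_top _).mpr J.left.unop.2⟩
  have hT : IsPullback (pullback.fst (f ≫ eb) (D.map J.hom)) (pullback.snd (f ≫ eb) (D.map J.hom)) f
      (Spec.map (CommRingCat.ofHom (algebraMap k R))) := by
    refine Lib.FEt.FieldDescent.isPullback_of_comp_mono eb ?_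
    rw [show Spec.map (CommRingCat.ofHom (algebraMap k R)) ≫ eb = D.map J.hom from by
      refine (Spec.map_comp _ _).symm.trans ?_
      exact congrArg Spec.map (CommRingCat.hom_ext (RingHom.ext fun x => Subtype.ext (hbot x)))]
    exact IsPullback.of_hasPullback _ _
  obtain ⟨V, ⟨eV⟩⟩ := exists_constant f hT W K R.val Subtype.val_injective
    ((bcCone (c := c) hsq.w).π.app J) (bcCone_π_fst _ _) (bcCone_π_snd _ _)
  exact ⟨V, ⟨eV ≪≫ e⟩⟩

end Groth.Agent.H80.Clopen.ProperBaseField
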