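import Groth.Agent.H80.Divisor.CI
import Groth.Agent.H80.Extend.Pure
import Groth.Agent.H99.FEtAlg.Purity
import Groth.Agent.Lib.AlgSpDecent.Punctured
import Groth.Agent.Lib.Depth.LocalCoh
import Groth.Agent.S0247
import Groth.Agent.S5810

/-!
# Purity for complete intersections of dimension at least three
-/

set_option autoImplicit false
set_option linter.style.haveILetI false

universe u

open IsLocalRing RingTheory.Sequence TensorProduct

namespace Groth.Agent.H80.PurityCI

open AlgebraicGeometry CategoryTheory CategoryTheory.Limits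
open Groth.Agent.H80.Divisor
open Groth.Agent.Lib.Depth Groth.Agent.H80.Clopen

/-- Purity descends along a faithfully flat local extension with trivial closed fibre. -/
theorem purityHolds_of_flat {R R' : Type u} [CommRing R] [IsNoetherianRing R] [IsLocalRing R]
    [CommRing R'] [IsLocalRing R'] [Algebra R R'] [Module.FaithfullyFlat R R']
    (hmm : (maximalIdeal R).map (algebraMap R R') = maximalIdeal R')
    (hd : (2 : ℕ∞) ≤ LocCoh.depth R R) (h : FEt.PurityHolds R') : FEt.PurityHolds R := by
  let π : Spec (CommRingCat.of R') ⟶ Spec (CommRingCat.of R) :=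
    Spec.map (CommRingCat.ofHom (algebraMap R R'))
  have : Flat π := (HasRingHomProperty.Spec_iff (P := @Flat)).mpr
    (RingHom.flat_algebraMap_iff.mpr inferInstance)
  have : Surjective π := ⟨PrimeSpectrum.comap_surjective_of_faithfullyFlat (A := R) (B := R')⟩
  have hU : π ⁻¹ᵁ FEt.puncturedSpec R = FEt.puncturedSpec R' := by
    ext x
    refine not_congr ⟨fun hx => ?_, fun hx => ?_⟩
    · refine PrimeSpectrum.ext ((IsLocalRing.le_maximalIdeal (PrimeSpectrum.isPrime x).ne_top).antisymm ?_)
      have hx' : (PrimeSpectrum.asIdeal (R := R') x).comap (algebraMap R R') = maximalIdeal R :=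
        congrArg PrimeSpectrum.asIdeal (show PrimeSpectrum.comap (algebraMap R R') x = closedPoint R from hx)
      rw [← hmm, ← hx']
      exact Ideal.map_comap_le
    · have hx' : (x : PrimeSpectrum R') = closedPoint R' := hx
      subst hx'
      refine PrimeSpectrum.ext ((IsLocalRing.le_maximalIdeal (PrimeSpectrum.isPrime _).ne_top).antisymm ?_)
      exact fun z hz => show algebraMap R R' z ∈ maximalIdeal R' from hmm ▸ Ideal.mem_map_of_mem _ hz
  refine H80.Extend.essSurj_of_flat (FEt.puncturedSpec R) (fun x hx => ?_) π (by rw [hU]; exact h)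
  rw [Lib.FEt.DepthTwo.depth_stalk_closedPoint x (congrArg PrimeSpectrum.asIdeal
    (show (x : PrimeSpectrum R) = closedPoint R from not_not.mp hx))]
  exact hd

theorem depth_of_completion {R : Type u} [CommRing R] [IsNoetherianRing R] [IsLocalRing R] :
    LocCoh.depth (AdicCompletion (maximalIdeal R) R) (AdicCompletion (maximalIdeal R) R) =
      LocCoh.depth R R :=
  Groth.Agent.S5810.result R R

set_option maxHeartbeats 1000000 in
/-- Complete intersections of dimension at least three satisfy purity. -/
theorem purityHolds_ci : ∀ (n : ℕ) (S : Type u) [CommRing S] [IsRegularLocalRing S] (rs : List S),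
    rs.length = n → (∀ r ∈ rs, r ∈ maximalIdeal S) → IsWeaklyRegular S rs →
    ∀ [IsLocalRing (S ⧸ Ideal.ofList rs)],
    (3 : WithBot ℕ∞) ≤ ringKrullDim (S ⧸ Ideal.ofList rs) → FEt.PurityHolds (S ⧸ Ideal.ofList rs) := by
  intro n
  induction n with
  | zero =>
    intro S _ _ rs hn _ _ _ hdim
    obtain rfl := List.eq_nil_of_length_eq_zero hn
    let e : S ≃+* S ⧸ Ideal.ofList ([] : List S) := (RingEquiv.quotientBot S).symm.trans
      (Ideal.quotEquivOfEq Ideal.ofList_nil.symm)
    refine H99.FEtAlg.purityHolds_of_ringEquiv e (Groth.Agent.S0247.result S ?_)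
    rw [ringKrullDim_eq_of_ringEquiv e]
    exact le_trans (by norm_num) hdim
  | succ n ih =>
    intro S _ _ rs hn hmem hreg _ hdim
    obtain rfl | ⟨rs', x, rfl⟩ := List.eq_nil_or_concat' rs
    · simp at hn
    let m := maximalIdeal S
    let S' := AdicCompletion m S
    have hm : m ≠ ⊤ := Ideal.IsMaximal.ne_top inferInstance
    have := Lib.Regular.Completion.isLocalRing m hm
    have := Lib.Excellent.CompletionNoetherian.isNoetherianRing_adicCompletion m
    have : IsRegularLocalRing S' := (Lib.Regular.Completion.isRegularLocalRing_iff m hm).mp ‹_›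
    have := Extend.faithfullyFlat_completion S
    have hmap := Lib.Regular.Completion.map_maximalIdeal m hm
    have : IsAdicComplete (maximalIdeal S') S' := by
      rw [← hmap]
      exact AdicCompletion.isAdicComplete_self m m.fg_of_isNoetherianRing
    let φ := algebraMap S S'
    -- the completed sequence
    let ts := rs'.map φ
    let y := φ x
    have hmem' : ∀ r ∈ ts ++ [y], r ∈ maximalIdeal S' := fun r hr => by
      have : r ∈ (rs' ++ [x]).map φ := by simpa [ts, y] using hr
      obtain ⟨r₀, hr₀, rfl⟩ := List.mem_map.mp this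
      rw [← hmap]
      exact Ideal.mem_map_of_mem _ (hmem r₀ hr₀)
    have hreg' : IsWeaklyRegular S' (ts ++ [y]) := by
      have := hreg.of_flat (S := S')
      simpa [ts, y, φ] using this
    have hregts : IsWeaklyRegular S' ts := ((isWeaklyRegular_append_iff _ _ _).mp hreg').1
    have hmts : ∀ r ∈ ts, r ∈ maximalIdeal S' := fun r hr => hmem' r (List.mem_append_left _ hr)
    have hlen : ts.length = n := by simpa [ts] using hn
    have := isLocalRing_ci (ts ++ [y]) hmem'
    have := isLocalRing_ci ts hmts
    let J := Ideal.ofList (rs' ++ [x])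
    let A := S' ⧸ Ideal.ofList ts
    let f : A := Ideal.Quotient.mk _ y
    have hJ : J.map φ = Ideal.ofList (ts ++ [y]) := by
      simp only [J, ts, y, φ, Ideal.map_ofList, List.map_append, List.map_cons, List.map_nil]
    have e : S' ⧸ J.map φ ≃+* A ⧸ Ideal.span {f} :=
      ((Ideal.quotEquivOfEq (by rw [hJ, Ideal.ofList_append, Ideal.ofList_singleton])).trans
        (DoubleQuot.quotQuotEquivQuotSup (Ideal.ofList ts) (Ideal.span {y})).symm).trans
        (Ideal.quotEquivOfEq (by rw [Ideal.map_span, Set.image_singleton]))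
    -- dimensions
    have hd0 := dim_ci _ hmem hreg
    have hd1 := dim_ci _ hmem' hreg'
    have hd2 := dim_ci _ hmts hregts
    have hdS : ringKrullDim S' = ringKrullDim S := Lib.Regular.Completion.ringKrullDim_eq m hm
    have hB : ringKrullDim (S' ⧸ Ideal.ofList (ts ++ [y])) = ringKrullDim (S ⧸ J) := by
      rw [hdS, ← hd0] at hd1
      simp only [List.length_append, ts, List.length_map, List.length_singleton] at hd1
      exact ENat.WithBot.add_natCast_cancel.mp hd1
    have hA5 : ((3 + 1 : ℕ) : WithBot ℕ∞) ≤ ringKrullDim A := by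
      rw [← hd1, hB, List.length_append, List.length_singleton, Nat.cast_add, Nat.cast_one,
        add_comm (ts.length : WithBot ℕ∞), ← add_assoc] at hd2
      rw [ENat.WithBot.add_natCast_cancel.mp hd2, Nat.cast_add, Nat.cast_one]
      exact add_le_add (by exact_mod_cast hdim) le_rfl
    have hfm : f ∈ maximalIdeal A := by
      rw [mem_maximalIdeal, mem_nonunits_iff]
      have := IsLocalHom.of_surjective (Ideal.Quotient.mk (Ideal.ofList ts)) Ideal.Quotient.mk_surjective
      exact fun hu => hmem' y (by simp) (isUnit_of_map_unit (Ideal.Quotient.mk (Ideal.ofList ts)) y hu)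
    have hfreg : IsSMulRegular A f := by
      have h := ((isWeaklyRegular_append_iff _ _ _).mp hreg').2
      rw [isWeaklyRegular_singleton_iff] at h
      have h' := regMod_of_isSMulRegular h
      rw [isSMulRegular_iff_right_eq_zero_of_smul]
      intro a ha
      obtain ⟨a, rfl⟩ := Ideal.Quotient.mk_surjective a
      exact Ideal.Quotient.eq_zero_iff_mem.mpr (h' a (Ideal.Quotient.eq_zero_iff_mem.mp
        (by rw [map_mul]; exact ha)))
    have : IsAdicComplete (maximalIdeal A) A := by
      have := Lib.Adic.Complete.isAdicComplete_quotient (I := maximalIdeal S') (Ideal.ofList ts)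
      rwa [IsLocalRing.map_maximalIdeal_of_surjective _ Ideal.Quotient.mk_surjective] at this
    have : IsAdicComplete (Ideal.span {f}) A :=
      H22.Completion.isAdicComplete_of_le_of_fg (Ideal.span {f}) (J := maximalIdeal A)
        ((Ideal.span_singleton_le_iff_mem _).mpr hfm) (Submodule.fg_span_singleton f)
    have : IsLocalRing (A ⧸ Ideal.span {f}) := by
      have : IsLocalRing (S' ⧸ J.map φ) := hJ ▸ ‹IsLocalRing (S' ⧸ Ideal.ofList (ts ++ [y]))›
      exact e.isLocalRing
    have hdepth : (3 : ℕ∞) ≤ LocCoh.depth (A ⧸ Ideal.span {f}) (A ⧸ Ideal.span {f}) := by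
      have hcm := isCohenMacaulay_ci _ hmem' hreg'
      have e' : (S' ⧸ Ideal.ofList (ts ++ [y])) ≃+* A ⧸ Ideal.span {f} :=
        (Ideal.quotEquivOfEq hJ.symm).trans e
      have := Lib.Excellent.Transport.isCohenMacaulayLocalRing_of_ringEquiv e'
      have h := CM.ringKrullDim_eq_depth (R := A ⧸ Ideal.span {f})
      rw [← ringKrullDim_eq_of_ringEquiv e', hB] at h
      exact WithBot.coe_le_coe.mp (h ▸ hdim)
    have hparaA : FEt.PurityHolds A :=
      ih S' ts hlen hmts hregts ((Nat.cast_le.mpr (Nat.le_succ 3)).trans hA5)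
    have hdA : (3 : ℕ∞) ≤ LocCoh.idealDepth (maximalIdeal A) (A ⧸ Ideal.span {f}) := by
      have h := CM.depth_quotient_eq (R := A) (Ideal.span {f})
      exact (le_of_le_of_eq hdepth h.symm)
    have hsub3 := (LocalCoh.le_idealDepth_iff_H (maximalIdeal A) (A ⧸ Ideal.span {f}) 3).mp hdA
    have h1 : Module.Finite A (LocCoh.H (maximalIdeal A) 1 (A ⧸ Ideal.span {f})) :=
      have := hsub3 1 (by norm_num)
      inferInstance
    have h2 : Module.Finite A (LocCoh.H (maximalIdeal A) 2 (A ⧸ Ideal.span {f})) :=
      have := hsub3 2 (by norm_num)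
      inferInstance
    have hnz : f ∈ nonZeroDivisors A :=
      mem_nonZeroDivisors_iff_right.mpr fun a ha => hfreg (by simpa [mul_comm] using ha)
    have hstep : FEt.PurityHolds (A ⧸ Ideal.span {f}) := by
      refine H99.FEtAlg.purityHolds_quotient hfm hnz h1 h2 ?_ hparaA
      intro P hP
      haveI := hP.isPrime
      let q := P.comap (algebraMap A (Localization.Away f))
      have hfq : f ∉ q := fun h => hP.ne_top (Ideal.eq_top_of_isUnit_mem _ h
        (IsLocalization.Away.algebraMap_isUnit f))
      have hq : ∀ p : Ideal A, p.IsPrime → q < p → p = maximalIdeal A := by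
        intro p hp hqp
        by_contra hne
        have hpm : p < maximalIdeal A := lt_of_le_of_ne (IsLocalRing.le_maximalIdeal hp.ne_top) hne
        obtain ⟨V, hqV, hVm, hfV⟩ := Lib.AlgSpDecent.Punctured.exists_between_prime
          (P := (⟨q, inferInstance⟩ : PrimeSpectrum A)) (Q := ⟨p, hp⟩) (M := closedPoint A)
          hqp hpm hfq
        have hdisj : Disjoint (Submonoid.powers f : Set A) (V.asIdeal : Set A) := by
          rw [Set.disjoint_left]
          rintro _ ⟨k, rfl⟩ hk
          exact hfV (V.2.mem_of_pow_mem k hk)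
        haveI := IsLocalization.isPrime_of_isPrime_disjoint (Submonoid.powers f)
          (Localization.Away f) _ V.2 hdisj
        have hcV := IsLocalization.under_map_of_isPrime_disjoint (Submonoid.powers f)
          (Localization.Away f) V.2 hdisj
        have hle : P ≤ V.asIdeal.map (algebraMap A (Localization.Away f)) := by
          rw [← IsLocalization.map_under (Submonoid.powers f) (Localization.Away f) P]
          exact Ideal.map_mono hqV.le
        have heq := hP.eq_of_le (Ideal.IsPrime.ne_top inferInstance) hle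
        exact hqV.ne (PrimeSpectrum.ext ((congrArg (Ideal.comap (algebraMap A (Localization.Away f))) heq).trans hcV))
      haveI : IsLocalization.AtPrime (Localization.AtPrime P) q :=
        IsLocalization.isLocalization_isLocalization_atPrime_isLocalization
          (Submonoid.powers f) (Localization.AtPrime P) P
      let eP : Localization.AtPrime q ≃+* Localization.AtPrime P :=
        (IsLocalization.algEquiv q.primeCompl (Localization.AtPrime q) (Localization.AtPrime P)).toRingEquiv
      refine H99.FEtAlg.purityHolds_of_ringEquiv eP ?_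
      let Q := q.comap (Ideal.Quotient.mk (Ideal.ofList ts))
      have hle : Ideal.ofList ts ≤ Q := fun r hr => by
        rw [Ideal.mem_comap, Ideal.Quotient.eq_zero_iff_mem.mpr hr]; exact zero_mem _
      let R := Localization.AtPrime Q
      have : IsRegularLocalRing R := Lib.Regular.Serre.isRegularLocalRing_localization Q
      let us := ts.map (algebraMap S' R)
      have hmu : ∀ r ∈ us, r ∈ maximalIdeal R := fun r hr => by
        obtain ⟨r₀, hr₀, rfl⟩ := List.mem_map.mp hr
        exact (IsLocalization.AtPrime.to_map_mem_maximal_iff R Q r₀).mpr (hle (Ideal.subset_span hr₀))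
      have hru : IsWeaklyRegular R us := hregts.of_isLocalization R Q.primeCompl
      let R' := R ⧸ (Ideal.ofList ts).map (algebraMap S' R)
      have hsub : Algebra.algebraMapSubmonoid A Q.primeCompl = q.primeCompl := by
        ext z
        obtain ⟨z, rfl⟩ := Ideal.Quotient.mk_surjective z
        refine ⟨?_, fun hz => ⟨z, hz, rfl⟩⟩
        rintro ⟨w, hw, hwz⟩ hz
        exact hw (show algebraMap S' A w ∈ q from hwz ▸ hz)
      have : IsLocalization.AtPrime R' q := by
        have h : IsLocalization (Algebra.algebraMapSubmonoid A Q.primeCompl) R' := inferInstance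
        rwa [hsub] at h
      have eq' : (R ⧸ Ideal.ofList us) ≃+* Localization.AtPrime q :=
        (Ideal.quotEquivOfEq (Ideal.map_ofList _ _).symm).trans
          (IsLocalization.algEquiv q.primeCompl R' (Localization.AtPrime q)).toRingEquiv
      have := isLocalRing_ci us hmu
      refine H99.FEtAlg.purityHolds_of_ringEquiv eq' (ih R us (by simpa [us] using hlen) hmu hru ?_)
      rw [ringKrullDim_eq_of_ringEquiv eq']
      exact ringKrullDim_localization_ci ts hmts hregts q hq 3 hA5
    -- descend
    have : IsLocalRing (S' ⧸ J.map φ) := hJ ▸ ‹IsLocalRing (S' ⧸ Ideal.ofList (ts ++ [y]))›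
    have hpara' : FEt.PurityHolds (S' ⧸ J.map φ) := H99.FEtAlg.purityHolds_of_ringEquiv e.symm hstep
    let eA : (S' ⧸ J.map φ) ≃ₗ[S] (S ⧸ J) ⊗[S] S' :=
      ((Algebra.TensorProduct.quotIdealMapEquivTensorQuot S' J).toLinearEquiv.restrictScalars S).trans
        (TensorProduct.comm S S' (S ⧸ J))
    have : Module.FaithfullyFlat (S ⧸ J) (S' ⧸ J.map φ) :=
      Module.FaithfullyFlat.of_linearEquiv (S ⧸ J) ((S ⧸ J) ⊗[S] S')
        (LinearEquiv.extendScalarsOfSurjective Ideal.Quotient.mk_surjective eA)
    refine purityHolds_of_flat (R' := S' ⧸ J.map φ) ?_ ((Nat.cast_le.mpr (show 2 ≤ 3 by norm_num)).trans (depth_ci _ hmem hreg 3 hdim)) hpara'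
    rw [← IsLocalRing.map_maximalIdeal_of_surjective (Ideal.Quotient.mk J) Ideal.Quotient.mk_surjective,
      Ideal.map_map, ← IsLocalRing.map_maximalIdeal_of_surjective (Ideal.Quotient.mk (J.map φ))
        Ideal.Quotient.mk_surjective, ← hmap, Ideal.map_map]
    rfl


theorem purityHolds_of_isCompleteIntersection (A : Type u) [CommRing A] [IsNoetherianRing A]
    [IsLocalRing A] (hA : Pi1.IsCompleteIntersection A) (hd : (3 : WithBot ℕ∞) ≤ ringKrullDim A) :
    FEt.PurityHolds A := by
  obtain ⟨B, _, _, rs, hmem, hreg, ⟨e⟩⟩ := hA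
  change AdicCompletion (maximalIdeal A) A ≃+* B ⧸ Ideal.ofList rs at e
  have hm : maximalIdeal A ≠ ⊤ := Ideal.IsMaximal.ne_top inferInstance
  have := Lib.Regular.Completion.isLocalRing (maximalIdeal A) hm
  have := Lib.Excellent.CompletionNoetherian.isNoetherianRing_adicCompletion (maximalIdeal A)
  have := Extend.faithfullyFlat_completion A
  have := isLocalRing_ci rs hmem
  have hdim : (3 : WithBot ℕ∞) ≤ ringKrullDim (B ⧸ Ideal.ofList rs) := by
    rwa [← ringKrullDim_eq_of_ringEquiv e, Lib.Regular.Completion.ringKrullDim_eq _ hm]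
  have hwreg : IsWeaklyRegular B rs := hreg.toIsWeaklyRegular
  have h := H99.FEtAlg.purityHolds_of_ringEquiv e.symm (purityHolds_ci rs.length B rs rfl hmem hwreg hdim)
  refine purityHolds_of_flat (R' := AdicCompletion (maximalIdeal A) A)
    (Lib.Regular.Completion.map_maximalIdeal _ hm) ?_ h
  have := isCohenMacaulay_ci rs hmem hwreg
  have hcm := Lib.Excellent.Transport.isCohenMacaulayLocalRing_of_ringEquiv
    (R := B ⧸ Ideal.ofList rs) (S := AdicCompletion (maximalIdeal A) A) e.symm
  rw [← depth_of_completion]
  have := CM.ringKrullDim_eq_depth (R := AdicCompletion (maximalIdeal A) A)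
  rw [ringKrullDim_eq_of_ringEquiv e] at this
  exact WithBot.coe_le_coe.mp (le_trans (le_trans (by norm_num) hdim) this.le)

end Groth.Agent.H80.PurityCI
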