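import Groth.Agent.H80.Clopen.Principal
import Groth.Agent.H61.PSFilt

/-!
# Power series rings over a local ring of depth at least two
-/

set_option autoImplicit false
set_option backward.isDefEq.respectTransparency false

universe u

open IsLocalRing MvPowerSeries Groth.Agent.H61.PSFilt AlgebraicGeometry

namespace Groth.Agent.H80.Clopen

variable {A : Type u} [CommRing A] {σ : Type} [Finite σ]

theorem coeff_mul_of_mem {f x : MvPowerSeries σ A} {k : ℕ} (hx : x ∈ XI σ A ^ k) {e : σ →₀ ℕ}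
    (he : e.degree ≤ k) : coeff e (f * x) = constantCoeff f * coeff e x := by
  have h : f - C (constantCoeff f) ∈ XI σ A := mem_iff_constantCoeff.mpr (by simp)
  have h2 := low_of_mem (pow_succ' (XI σ A) k ▸ Ideal.mul_mem_mul h hx) e (Nat.lt_succ_of_le he)
  rwa [sub_mul, map_sub, sub_eq_zero, coeff_C_mul] at h2

theorem regMod_series {f : MvPowerSeries σ A} (hf : RegMod ⊥ (constantCoeff f)) (n : ℕ) :
    RegMod (XI σ A ^ n) f := fun x hx => by
  suffices ∀ k ≤ n, x ∈ XI σ A ^ k from this n le_rfl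
  intro k hk
  induction k with
  | zero => simp
  | succ k ih =>
    have hxk := ih (Nat.le_of_succ_le hk)
    refine mem_iff.mpr fun e he => ?_
    refine Ideal.mem_bot.mp (hf _ (Ideal.mem_bot.mpr ?_))
    rw [← coeff_mul_of_mem hxk (Nat.le_of_lt_succ he)]
    exact low_of_mem hx e (lt_of_lt_of_le he hk)

theorem regMod_series_second {f g : MvPowerSeries σ A} (hf : RegMod ⊥ (constantCoeff f))
    (hg : RegMod (Ideal.span {constantCoeff f}) (constantCoeff g)) (n : ℕ) :
    RegMod (XI σ A ^ n ⊔ Ideal.span {f}) g := fun x hx => by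
  suffices ∀ k ≤ n, x ∈ XI σ A ^ k ⊔ Ideal.span {f} from this n le_rfl
  intro k hk
  induction k with
  | zero => simp
  | succ k ih =>
    obtain ⟨x', hx', _, ht, rfl⟩ := Submodule.mem_sup.mp (ih (Nat.le_of_succ_le hk))
    obtain ⟨t, rfl⟩ := Ideal.mem_span_singleton'.mp ht
    refine add_mem ?_ (Submodule.mem_sup_right ht)
    obtain ⟨j, hj, _, hz, hjz⟩ := Submodule.mem_sup.mp hx
    obtain ⟨z, rfl⟩ := Ideal.mem_span_singleton'.mp hz
    let z' := z - g * t
    have hz' : f * z' = g * x' - j := by simp only [z']; linear_combination hjz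
    have hzk : z' ∈ XI σ A ^ k := regMod_series hf k z' (hz' ▸ sub_mem (Ideal.mul_mem_left _ _ hx')
      (Ideal.pow_le_pow_right (Nat.le_of_succ_le hk) hj))
    have hdiv : ∀ e : σ →₀ ℕ, e.degree = k → ∃ w, w * constantCoeff f = coeff e x' := fun e he => by
      refine Ideal.mem_span_singleton'.mp (hg _ (Ideal.mem_span_singleton'.mpr ⟨coeff e z', ?_⟩))
      rw [mul_comm, ← coeff_mul_of_mem hzk he.le, ← coeff_mul_of_mem hx' he.le, hz', map_sub,
        low_of_mem hj e (by omega), sub_zero]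
    choose w hw using hdiv
    classical
    let W : MvPowerSeries σ A := fun e => if h : e.degree = k then w e h else 0
    have hW : W ∈ XI σ A ^ k := mem_iff.mpr fun e he => by
      change W e = 0
      simp [W, he.ne]
    have : x' - f * W ∈ XI σ A ^ (k + 1) := mem_iff.mpr fun e he => by
      rw [map_sub, coeff_mul_of_mem hW (Nat.le_of_lt_succ he), sub_eq_zero]
      rcases lt_or_eq_of_le (Nat.le_of_lt_succ he) with hlt | heq
      · rw [low_of_mem hx' e hlt, low_of_mem hW e hlt, mul_zero]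
      · rw [show coeff e W = w e heq from dif_pos heq, mul_comm, hw e heq]
    rw [← sub_add_cancel x' (f * W)]
    exact add_mem (Submodule.mem_sup_left this)
      (Submodule.mem_sup_right (Ideal.mem_span_singleton'.mpr ⟨W, mul_comm _ _⟩))

/-- An element divisible by `f` modulo every power of `J` is divisible by `f`. -/
theorem regMod_span_of_forall {B : Type*} [CommRing B] [IsNoetherianRing B] {J : Ideal B}
    (hJ : J ≤ Ideal.jacobson ⊥) {f g : B} (h : ∀ n, RegMod (J ^ n ⊔ Ideal.span {f}) g) :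
    RegMod (⊥ ⊔ Ideal.span {f}) g := fun x hx => by
  rw [bot_sup_eq] at hx ⊢
  rw [← Ideal.Quotient.eq_zero_iff_mem, ← Submodule.mem_bot (R := B),
    ← Ideal.iInf_pow_smul_eq_bot_of_le_jacobson (M := B ⧸ Ideal.span {f}) J hJ, Submodule.mem_iInf]
  intro n
  obtain ⟨j, hj, s, hs, rfl⟩ := Submodule.mem_sup.mp (h n x (Submodule.mem_sup_right hx))
  rw [map_add, Ideal.Quotient.eq_zero_iff_mem.mpr hs, add_zero,
    show Ideal.Quotient.mk (Ideal.span {f}) j = j • (1 : B ⧸ Ideal.span {f}) by
      rw [Algebra.smul_def, mul_one]; rfl]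
  exact Submodule.smul_mem_smul hj trivial

/-- `V ∩ V(X) = ` the punctured spectrum: the formal neighbourhood in depth two. -/
theorem exists_charts_series [IsNoetherianRing A] [IsLocalRing A]
    [IsLocalRing (MvPowerSeries σ A)] (hA : (2 : ℕ∞) ≤ LocCoh.depth A A)
    (V : (Spec (CommRingCat.of (MvPowerSeries σ A))).Opens)
    (hV : ∀ y : Spec (CommRingCat.of (MvPowerSeries σ A)),
      (∀ i, MvPowerSeries.X i ∈ (y : PrimeSpectrum (MvPowerSeries σ A)).asIdeal) →
      (y ∈ V ↔ y ≠ IsLocalRing.closedPoint (MvPowerSeries σ A))) :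
    ∃ (n : ℕ) (a : Fin n → MvPowerSeries σ A), Charts a V ∧
      Lift a (MvPowerSeries σ A) (XI σ A) ∧ Vanish a (MvPowerSeries σ A) (XI σ A) := by
  obtain ⟨I, hI⟩ := (PrimeSpectrum.isClosed_iff_zeroLocus_ideal _).mp
    (show IsClosed (X := PrimeSpectrum (MvPowerSeries σ A)) ((SetLike.coe V)ᶜ) from V.2.isClosed_compl)
  obtain ⟨n, a, ha⟩ := Submodule.fg_iff_exists_fin_generating_family.mp (IsNoetherian.noetherian I)
  have hspan : Ideal.span (Set.range a) = I := ha
  have hVmem : ∀ p : Spec (CommRingCat.of (MvPowerSeries σ A)),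
      p ∈ V ↔ ¬ I ≤ (p : PrimeSpectrum (MvPowerSeries σ A)).asIdeal := fun p =>
    not_iff_not.mp (by
      rw [not_not]
      exact (Set.ext_iff.mp hI (p : PrimeSpectrum (MvPowerSeries σ A))).trans
        (PrimeSpectrum.mem_zeroLocus _ _))
  have hmem : ∀ p : Spec (CommRingCat.of (MvPowerSeries σ A)),
      p ∈ V ↔ ∃ i, a i ∉ (p : PrimeSpectrum (MvPowerSeries σ A)).asIdeal := fun p => by
    rw [hVmem, ← hspan, Ideal.span_le, Set.range_subset_iff, not_forall]
    rfl
  have hrad : maximalIdeal (MvPowerSeries σ A) ≤ (I ⊔ XI σ A).radical := by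
    rw [Ideal.radical_eq_sInf]
    refine le_sInf fun P ⟨hP, hPp⟩ => ?_
    let p : Spec (CommRingCat.of (MvPowerSeries σ A)) := (⟨P, hPp⟩ : PrimeSpectrum _)
    have hX : ∀ i, MvPowerSeries.X i ∈ P := fun i =>
      hP (Submodule.mem_sup_right (Ideal.subset_span ⟨i, rfl⟩))
    have : p = closedPoint (MvPowerSeries σ A) := by
      by_contra hne
      exact (hVmem p).mp ((hV p hX).mpr hne) (le_sup_left.trans hP)
    exact (congrArg PrimeSpectrum.asIdeal this).ge
  have hC : ∀ {r : A}, r ∈ maximalIdeal A → C r ∈ maximalIdeal (MvPowerSeries σ A) := fun hr => by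
    rw [IsLocalRing.mem_maximalIdeal, mem_nonunits_iff, isUnit_iff_constantCoeff, constantCoeff_C]
    exact hr
  obtain ⟨r, s, hr, hs, hreg⟩ := exists_pair hA
  obtain ⟨hr1, hs1⟩ := regMod_pair hreg
  -- levelwise
  have hradn : ∀ {r : A}, r ∈ maximalIdeal A → ∀ m,
      C r ∈ (Ideal.span (Set.range a) ⊔ XI σ A ^ m).radical := fun hr m => by
    refine (hrad.trans (Ideal.radical_le_radical_iff.mpr (sup_le ?_ ?_))) (hC hr)
    · exact le_sup_of_le_left hspan.ge |>.trans Ideal.le_radical
    · intro x hx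
      exact ⟨m, Submodule.mem_sup_right (Ideal.pow_mem_pow hx m)⟩
  have hsep : ∀ m, Sep a (MvPowerSeries σ A) (XI σ A ^ m) := fun m =>
    sep_of_regMod a (hradn hr m) (regMod_series (by rwa [constantCoeff_C]) m)
  have hglue : ∀ m, Glue a (MvPowerSeries σ A) (XI σ A ^ m) := fun m =>
    glue_of_regMod a (hradn hr m) (hradn hs m) (regMod_series (by rwa [constantCoeff_C]) m)
      (regMod_series_second (by rwa [constantCoeff_C])
        (by rw [constantCoeff_C, constantCoeff_C]; simpa using hs1) m)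
  -- on the whole ring
  have hlift : ∀ {r : A}, r ∈ maximalIdeal A → ∃ (k : ℕ) (F : MvPowerSeries σ A),
      F ∈ I ∧ constantCoeff F = r ^ k := fun {r} hr => by
    obtain ⟨k, hk⟩ := hrad (hC hr)
    obtain ⟨F, hF, t, ht, hFt⟩ := Submodule.mem_sup.mp hk
    refine ⟨k, F, hF, ?_⟩
    have := congrArg constantCoeff hFt
    rwa [map_add, mem_iff_constantCoeff.mp ht, add_zero, map_pow, constantCoeff_C] at this
  obtain ⟨k, F, hF, hFc⟩ := hlift hr
  obtain ⟨l, G, hG, hGc⟩ := hlift hs
  have hF1 : RegMod ⊥ (constantCoeff F) := hFc ▸ hr1.pow k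
  have hG1 : RegMod (Ideal.span {constantCoeff F}) (constantCoeff G) := by
    rw [hFc, hGc]
    have := (hr1.sup_pow hs1 k).pow l
    rwa [bot_sup_eq] at this
  have hjac : XI σ A ≤ Ideal.jacobson ⊥ := IsAdicComplete.le_jacobson_bot (XI σ A)
  have hFr := regMod_bot_of_forall hjac fun m => regMod_series hF1 (m + 1)
  have hGr := regMod_span_of_forall hjac (regMod_series_second hF1 hG1)
  have memI : ∀ {x : MvPowerSeries σ A}, x ∈ I → x ∈ (Ideal.span (Set.range a) ⊔ ⊥).radical :=
    fun hx => Ideal.le_radical (Submodule.mem_sup_left (hspan ▸ hx))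
  exact ⟨n, a, ⟨⟨hmem⟩, sep_of_regMod a (memI hF) hFr, glue_of_regMod a (memI hF) (memI hG) hFr hGr⟩,
    lift_of_glue hglue, vanish_of_sep hsep⟩

theorem ker_constantCoeff :
    RingHom.ker (MvPowerSeries.constantCoeff : MvPowerSeries σ A →+* A) = XI σ A :=
  Ideal.ext fun _ => mem_iff_constantCoeff.symm

end Groth.Agent.H80.Clopen
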