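import Groth.Agent.H80.Clopen.TaylorPurity
import Groth.Agent.H80.Extend.Pure
import Groth.Agent.H80.Extend.Local
import Groth.Agent.H34.UFDExt.Topo
import Mathlib.AlgebraicGeometry.Morphisms.Smooth
import Mathlib.AlgebraicGeometry.Noetherian
import Mathlib.RingTheory.Unramified.LocalStructure
import Mathlib.RingTheory.RingHom.StandardSmooth

/-!
# Purity at the non-generic points of the fibres of a smooth morphism
-/

set_option autoImplicit false
set_option backward.isDefEq.respectTransparency false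

universe u

open CategoryTheory CategoryTheory.Limits AlgebraicGeometry IsLocalRing

namespace Groth.Agent.H80.Clopen

open Groth.Agent.H80

/-- The polynomial needed by the Taylor criterion. -/
theorem purityHolds_of_smooth_algebra {R C B : Type u} [CommRing R] [CommRing C] [CommRing B]
    [IsNoetherianRing B] [IsLocalRing B] [Algebra C B] (φ : R →+* C) (hφ : φ.IsStandardSmooth)
    (Qx : Ideal C) [Qx.IsPrime] [IsLocalization.AtPrime B Qx] (Qz : Ideal C) [Qz.IsPrime]
    (hle : Qz ≤ Qx) (hne : Qz ≠ Qx) (hcomap : Qz.comap φ = Qx.comap φ)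
    (hB : (2 : ℕ∞) ≤ LocCoh.depth B B) : FEt.PurityHolds B := by
  obtain ⟨n, g, hg, het⟩ := hφ.exists_etale_mvPolynomial
  let := g.toAlgebra
  have : Algebra.Etale (MvPolynomial (Fin n) R) C := het
  let : Algebra (MvPolynomial (Fin n) R) B := ((algebraMap C B).comp g).toAlgebra
  have : IsScalarTower (MvPolynomial (Fin n) R) C B := IsScalarTower.of_algebraMap_eq fun _ => rfl
  have : Algebra.FormallyEtale C B := Algebra.FormallyEtale.of_isLocalization Qx.primeCompl
  have : Algebra.FormallySmooth (MvPolynomial (Fin n) R) B :=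
    Algebra.FormallySmooth.comp (MvPolynomial (Fin n) R) C B
  have hlt : ¬ (Qx.comap g ≤ Qz.comap g) := fun h => hne
    (Algebra.QuasiFinite.eq_of_le_of_under_eq (R := MvPolynomial (Fin n) R) Qz Qx hle
      (le_antisymm (Ideal.comap_mono hle) h))
  obtain ⟨p, hpx, hpz⟩ := SetLike.not_le_iff_exists.mp hlt
  refine purityHolds_of_formallySmooth_polynomial hB p ?_ fun h0 => hpz ?_
  · change algebraMap C B (g p) ∈ maximalIdeal B
    exact (IsLocalization.AtPrime.to_map_mem_maximal_iff B Qx (g p)).mpr hpx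
  · have hmem : p ∈ (Qx.comap φ).map (MvPolynomial.C : R →+* MvPolynomial (Fin n) R) := by
      rw [MvPolynomial.mem_map_C_iff]
      intro m
      have h1 := congrArg (MvPolynomial.coeff m) h0
      rw [MvPolynomial.coeff_map, MvPolynomial.coeff_zero] at h1
      have h2 : algebraMap C B (g (MvPolynomial.C (MvPolynomial.coeff m p))) ∈ maximalIdeal B :=
        (residue_eq_zero_iff _).mp h1
      rw [IsLocalization.AtPrime.to_map_mem_maximal_iff B Qx, ← RingHom.comp_apply, hg] at h2
      exact h2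
    refine (Ideal.map_le_iff_le_comap.mpr ?_) hmem
    rw [Ideal.comap_comap, hg, hcomap]

/-- Purity at a point of a smooth scheme which is not generic in its fibre. -/
theorem purityHolds_stalk_of_smooth {X S : Scheme.{u}} (f : X ⟶ S) [Smooth f] [IsLocallyNoetherian X]
    {x z : X} (hzx : z ⤳ x) (hne : z ≠ x) (hfib : f.base z = f.base x)
    (hd : (2 : ℕ∞) ≤ LocCoh.depth (X.presheaf.stalk x) (X.presheaf.stalk x)) :
    FEt.PurityHolds (X.presheaf.stalk x) := by
  obtain ⟨U, hU, V, hV, hxV, e, hss⟩ := Smooth.exists_isStandardSmooth f x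
  have hzV : z ∈ V := hzx.mem_open V.2 hxV
  let px := hV.primeIdealOf ⟨x, hxV⟩
  let pz := hV.primeIdealOf ⟨z, hzV⟩
  let := X.presheaf.algebra_section_stalk (⟨x, hxV⟩ : V)
  have : IsLocalization.AtPrime (X.presheaf.stalk x) px.asIdeal := hV.isLocalization_stalk ⟨x, hxV⟩
  have hxeq : hV.fromSpec px = x := hV.fromSpec_primeIdealOf ⟨x, hxV⟩
  have hzeq : hV.fromSpec pz = z := hV.fromSpec_primeIdealOf ⟨z, hzV⟩
  refine purityHolds_of_smooth_algebra (f.appLE U V e).hom hss px.asIdeal pz.asIdeal ?_ ?_ ?_ hd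
  · exact (PrimeSpectrum.le_iff_specializes pz px).mpr
      (hV.fromSpec.isOpenEmbedding.isInducing.specializes_iff.mp (by rw [hxeq, hzeq]; exact hzx))
  · intro h
    exact hne (by rw [← hxeq, ← hzeq, PrimeSpectrum.ext h])
  · have h1 := IsAffineOpen.comap_primeIdealOf_appLE U hU V hV e hzV
    have h2 := IsAffineOpen.comap_primeIdealOf_appLE U hU V hV e hxV
    have h3 : hU.primeIdealOf ⟨f z, e hzV⟩ = hU.primeIdealOf ⟨f x, e hxV⟩ :=
      congrArg _ (Subtype.ext hfib)
    exact congrArg PrimeSpectrum.asIdeal ((h1.trans h3).trans h2.symm)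

/-- Covers extend across points at which purity holds, on a locally Noetherian scheme. -/
theorem essSurj_of_purity {X : Scheme.{u}} [IsLocallyNoetherian X] (U : X.Opens)
    (hU : ∀ x : X, x ∉ U → (2 : ℕ∞) ≤ LocCoh.depth (X.presheaf.stalk x) (X.presheaf.stalk x))
    (h : ∀ x : X, x ∉ U → FEt.PurityHolds (X.presheaf.stalk x)) : (FEt.restrict U.ι).EssSurj := by
  refine ⟨fun Y => ?_⟩
  obtain ⟨m, hm⟩ := Extend.exists_maximal (q := Y.hom) (Extend.dense_of_depth U hU) Y.prop
  by_cases htop : m.O = ⊤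
  · have : IsIso m.O.ι := by rw [htop]; exact X.topIso.isIso_hom
    let Z : FEt.Cat X := MorphismProperty.Over.mk ⊤ (m.z ≫ m.O.ι)
      ((MorphismProperty.cancel_right_of_respectsIso FEt.prop.{u} m.z _).mpr m.prop)
    refine ⟨Z, UnivHomeo.nonempty_iso_of_isPullback U.ι Y Z m.j ?_⟩
    have h2 : IsPullback (𝟙 m.Z) m.z (m.z ≫ m.O.ι) m.O.ι :=
      IsPullback.of_horiz_isIso ⟨Category.id_comp _⟩
    have h3 := m.pb.paste_horiz h2
    rw [Category.comp_id] at h3
    have e : X.homOfLE m.le ≫ m.O.ι = U.ι := Scheme.homOfLE_ι _ _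
    exact e ▸ h3
  exfalso
  let mY : FEt.Cat (m.O : Scheme.{u}) := MorphismProperty.Over.mk ⊤ m.z m.prop
  obtain ⟨η, hη, hgen⟩ := Extend.exists_generic m.O htop
  obtain ⟨T, hlt, Y', j, hj⟩ := Extend.exists_bigger m.O mY hη
    (Extend.ext_of_purity m.O mY hη hgen (h η fun hηU => hη (m.le hηU)))
  let m' : Extend.Part U Y.hom :=
    { O := T
      le := m.le.trans hlt.le
      Z := Y'.left
      z := Y'.hom
      prop := Y'.prop
      j := m.j ≫ j
      pb := Scheme.homOfLE_homOfLE X m.le hlt.le ▸ m.pb.paste_horiz hj }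
  exact hlt.not_ge (hm m' ⟨hlt.le, j, hj, rfl⟩).1

/-- A point of the closure of `U ∩ f⁻¹(f x)` is a specialisation of a point of that set. -/
theorem exists_generization_in_fibre {X S : Scheme.{u}} (f : X ⟶ S) [IsLocallyNoetherian X]
    (U : X.Opens) {x : X} (hx : x ∈ closure ((U : Set X) ∩ f.base ⁻¹' {f.base x})) :
    ∃ z : X, z ∈ U ∧ z ⤳ x ∧ f.base z = f.base x := by
  obtain ⟨V, hV, hxV, -⟩ := exists_isAffineOpen_mem_and_subset (U := (⊤ : X.Opens)) (x := x) trivial
  have : IsNoetherianRing Γ(X, V) := IsLocallyNoetherian.component_noetherian ⟨V, hV⟩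
  have : TopologicalSpace.NoetherianSpace ↥(V : Scheme.{u}) := noetherianSpace_of_isAffineOpen V hV
  let g : ↥(V : Scheme.{u}) → S := fun y => f.base (V.ι.base y)
  have hg : Continuous g := f.continuous.comp V.ι.continuous
  have hmem : (⟨x, hxV⟩ : ↥(V : Scheme.{u})) ∈
      closure ((V.ι.base ⁻¹' (U : Set X)) ∩ g ⁻¹' (closure {f.base x})) := by
    rw [V.ι.isOpenEmbedding.isInducing.closure_eq_preimage_closure_image]
    change x ∈ closure _
    refine closure_mono ?_ (V.2.inter_closure ⟨hxV, hx⟩)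
    rintro y ⟨hyV, hyU, hyf⟩
    exact ⟨⟨y, hyV⟩, ⟨hyU, subset_closure hyf⟩, rfl⟩
  obtain ⟨z, ⟨hzU, hzF⟩, hz⟩ := H34.UFDExt.Topo.exists_specializes_of_mem_closure
    (U.2.preimage V.ι.continuous) (isClosed_closure.preimage hg) hmem
  have hzx : V.ι.base z ⤳ x := hz.map V.ι.continuous
  exact ⟨_, hzU, hzx, ((hzx.map f.continuous).antisymm (specializes_iff_mem_closure.mpr hzF)).eq⟩

end Groth.Agent.H80.Clopen
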