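import Groth.Agent.H80.Clopen.SeriesPurity
import Groth.Agent.H80.Extend.FormalCompl
import Groth.Agent.Lib.Excellent.CompletionNoetherian
import Groth.Agent.Lib.Depth.Local
import Mathlib.RingTheory.Smooth.Basic
import Mathlib.RingTheory.AdicCompletion.RingHom
import Mathlib.RingTheory.MvPowerSeries.Evaluation

/-!
# Purity in depth two from a non-trivial Taylor expansion

If `B` is formally smooth over a polynomial ring and the point is not generic in its fibre, the
Taylor expansion `B → B̂[[T]]` moves the closed point, and covers of the punctured spectrum extend.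
-/

set_option autoImplicit false
set_option backward.isDefEq.respectTransparency false

universe u

open CategoryTheory CategoryTheory.Limits AlgebraicGeometry IsLocalRing MvPowerSeries

namespace Groth.Agent.H80.Clopen

open Groth.Agent.H80

theorem factor_factor {P R : Type u} [CommRing P] [CommRing R] [Algebra P R] (I : Ideal R)
    {i j k : ℕ} (hij : i ≤ j) (hjk : j ≤ k) (y : R ⧸ I ^ k) :
    Ideal.Quotient.factorₐ P (Ideal.pow_le_pow_right hij : I ^ j ≤ I ^ i)
      (Ideal.Quotient.factorₐ P (Ideal.pow_le_pow_right hjk : I ^ k ≤ I ^ j) y) =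
    Ideal.Quotient.factorₐ P (Ideal.pow_le_pow_right (hij.trans hjk) : I ^ k ≤ I ^ i) y := by
  obtain ⟨r, rfl⟩ := Ideal.Quotient.mk_surjective y
  rfl

/-- One step of lifting. -/
theorem exists_lift_step {P B R : Type u} [CommRing P] [CommRing B] [CommRing R] [Algebra P B]
    [Algebra P R] [Algebra.FormallySmooth P B] (I : Ideal R) (n : ℕ)
    (φ : B →ₐ[P] R ⧸ I ^ (n + 1)) : ∃ φ' : B →ₐ[P] R ⧸ I ^ (n + 2),
    (Ideal.Quotient.factorₐ P (Ideal.pow_le_pow_right (Nat.le_succ (n + 1)))).comp φ' = φ := by
  let π := Ideal.Quotient.factorₐ P (Ideal.pow_le_pow_right (I := I) (Nat.le_succ (n + 1)))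
  have hsurj : Function.Surjective π :=
    Ideal.Quotient.factor_surjective (Ideal.pow_le_pow_right (Nat.le_succ (n + 1)))
  have hnil : IsNilpotent (RingHom.ker (π : R ⧸ I ^ (n + 2) →+* R ⧸ I ^ (n + 1))) := by
    refine ⟨2, ?_⟩
    rw [show RingHom.ker (π : R ⧸ I ^ (n + 2) →+* R ⧸ I ^ (n + 1)) =
      (I ^ (n + 1)).map (Ideal.Quotient.mk (I ^ (n + 2))) from Ideal.Quotient.factor_ker (Ideal.pow_le_pow_right (Nat.le_succ (n + 1))),
      ← Ideal.map_pow, Ideal.zero_eq_bot, Ideal.map_eq_bot_iff_le_ker, Ideal.mk_ker, ← pow_mul]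
    exact Ideal.pow_le_pow_right (by omega)
  exact ⟨Algebra.FormallySmooth.liftOfSurjective φ π hsurj hnil, AlgHom.ext fun x =>
    Algebra.FormallySmooth.liftOfSurjective_apply φ π hsurj hnil x⟩

/-- A formally smooth algebra lifts into complete algebras. -/
theorem exists_lift_adic {P B R : Type u} [CommRing P] [CommRing B] [CommRing R] [Algebra P B]
    [Algebra P R] [Algebra.FormallySmooth P B] (I : Ideal R) [IsAdicComplete I R]
    (g : B →ₐ[P] R ⧸ I) : ∃ ψ : B →ₐ[P] R, (Ideal.Quotient.mkₐ P I).comp ψ = g := by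
  choose next hnext using exists_lift_step (P := P) (B := B) I
  let g₀ : B →ₐ[P] R ⧸ I ^ (0 + 1) :=
    (Ideal.quotientEquivAlgOfEq P (pow_one I).symm).toAlgHom.comp g
  let h : ∀ n, B →ₐ[P] R ⧸ I ^ (n + 1) := fun n => Nat.rec g₀ (fun k φ => next k φ) n
  let f : ∀ n, B →ₐ[P] R ⧸ I ^ n := fun n =>
    (Ideal.Quotient.factorₐ P (Ideal.pow_le_pow_right (Nat.le_succ n))).comp (h n)
  have hstep : ∀ k x, Ideal.Quotient.factorₐ P (Ideal.pow_le_pow_right (Nat.le_succ (k + 1)))
      (h (k + 1) x) = h k x := fun k x => AlgHom.congr_fun (hnext k (h k)) x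
  have hcompat : ∀ (i n) (x : B) (hn : i ≤ n), Ideal.Quotient.factorₐ P
      (Ideal.pow_le_pow_right (Nat.succ_le_succ hn)) (h n x) = h i x := by
    intro i n x hn
    induction hn with
    | refl =>
      obtain ⟨r, hr⟩ := Ideal.Quotient.mk_surjective (h i x)
      rw [← hr]; rfl
    | @step k hk ih =>
      have hik : i ≤ k := hk
      rw [← ih, ← hstep k x, factor_factor I]
      all_goals omega
  have hf : ∀ {m n : ℕ} (hle : m ≤ n),
      (Ideal.Quotient.factorₐ P (Ideal.pow_le_pow_right hle)).comp (f n) = f m := fun {m n} hle =>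
    AlgHom.ext fun x => by
      simp only [f, AlgHom.comp_apply]
      rw [← hcompat m n x hle, factor_factor I, factor_factor I]
      all_goals omega
  refine ⟨IsAdicComplete.liftAlgHom I f hf, AlgHom.ext fun x => ?_⟩
  have h1 := IsAdicComplete.mk_liftAlgHom I f hf 1 x
  have h2 : f 1 x = g₀ x := hstep 0 x
  rw [h2] at h1
  exact (Ideal.quotientEquivAlgOfEq P (pow_one I).symm).injective h1

/-- Purity for a local ring formally smooth over a polynomial ring, at a point which is not
generic in its fibre. -/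
theorem purityHolds_of_formallySmooth_polynomial {n : ℕ} {A₀ B : Type u} [CommRing A₀]
    [CommRing B] [IsNoetherianRing B] [IsLocalRing B] [Algebra (MvPolynomial (Fin n) A₀) B]
    [Algebra.FormallySmooth (MvPolynomial (Fin n) A₀) B] (hB : (2 : ℕ∞) ≤ LocCoh.depth B B)
    (p : MvPolynomial (Fin n) A₀) (hp : algebraMap _ B p ∈ maximalIdeal B)
    (hp' : MvPolynomial.map ((residue B).comp
      ((algebraMap (MvPolynomial (Fin n) A₀) B).comp MvPolynomial.C)) p ≠ 0) :
    FEt.PurityHolds B := by
  refine ⟨fun W => ?_⟩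
  let P := MvPolynomial (Fin n) A₀
  let φ : P →+* B := algebraMap P B
  let Bc := AdicCompletion (maximalIdeal B) B
  have := Extend.faithfullyFlat_completion B
  let cpl : B →+* Bc := algebraMap B Bc
  have : IsAdicComplete (maximalIdeal Bc) Bc :=
    AdicCompletion.isAdicComplete_of_fg (maximalIdeal B).fg_of_isNoetherianRing
  have hBc : (2 : ℕ∞) ≤ LocCoh.depth Bc Bc := by
    refine hB.trans ((Lib.Depth.Local.idealDepth_le_baseChange (B := Bc) (M := B)
      (I := maximalIdeal B)).trans ?_)
    rw [Lib.Depth.Basic.idealDepth_congr _ (TensorProduct.AlgebraTensorModule.rid B Bc Bc)]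
    exact Lib.Depth.Basic.idealDepth_mono (AdicCompletion.maximalIdeal_eq_map (R := B)).ge
      (Lib.Depth.Basic.smul_top_ne_top (M := Bc) (Ideal.IsPrime.ne_top' (I := maximalIdeal Bc)))
  let R := MvPowerSeries (Fin n) Bc
  let πr : B →+* R := (MvPowerSeries.C).comp cpl
  -- the Taylor expansion
  let t : P →+* R := MvPolynomial.eval₂Hom (πr.comp (φ.comp MvPolynomial.C))
    fun i => πr (φ (MvPolynomial.X i)) + MvPowerSeries.X i
  let : Algebra P R := t.toAlgebra
  let XR := H61.PSFilt.XI (Fin n) Bc
  have hmk : ∀ i, Ideal.Quotient.mk XR (MvPowerSeries.X i) = 0 := fun i =>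
    Ideal.Quotient.eq_zero_iff_mem.mpr (Ideal.subset_span ⟨i, rfl⟩)
  let g : B →ₐ[P] R ⧸ XR :=
    { (Ideal.Quotient.mk XR).comp πr with
      commutes' := fun r => by
        change Ideal.Quotient.mk XR (πr (φ r)) = Ideal.Quotient.mk XR (t r)
        refine RingHom.congr_fun (f := ((Ideal.Quotient.mk XR).comp πr).comp φ)
          (g := (Ideal.Quotient.mk XR).comp t) ?_ r
        refine MvPolynomial.ringHom_ext (fun a => ?_) fun i => ?_
        · change Ideal.Quotient.mk XR _ = Ideal.Quotient.mk XR (t (MvPolynomial.C a))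
          rw [show t (MvPolynomial.C a) = πr (φ (MvPolynomial.C a)) from
            MvPolynomial.eval₂Hom_C _ _ a]
        · change Ideal.Quotient.mk XR _ = Ideal.Quotient.mk XR (t (MvPolynomial.X i))
          rw [show t (MvPolynomial.X i) = πr (φ (MvPolynomial.X i)) + MvPowerSeries.X i from
            MvPolynomial.eval₂Hom_X' _ _ i, map_add, hmk, add_zero] }
  have hflat : Module.Flat B Bc := inferInstance
  obtain ⟨ψ', hψ'⟩ := exists_lift_adic XR g
  let ψ : B →+* R := ψ'.toRingHom
  have hψ : ∀ r, ψ r - πr r ∈ XR := fun r =>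
    Ideal.Quotient.eq.mp (AlgHom.congr_fun hψ' r)
  have hψc : (MvPowerSeries.constantCoeff : R →+* Bc).comp ψ = cpl := RingHom.ext fun r => by
    have := H61.PSFilt.mem_iff_constantCoeff.mp (hψ r)
    rw [map_sub, sub_eq_zero] at this
    change constantCoeff (ψ r) = cpl r
    rw [this]
    exact constantCoeff_C _
  -- the prime of the closed fibre
  let k := ResidueField Bc
  let q : Ideal R := RingHom.ker (MvPowerSeries.map (σ := Fin n) (residue Bc))
  have : IsDomain (MvPowerSeries (Fin n) k) := NoZeroDivisors.to_isDomain _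
  have hqp : q.IsPrime := RingHom.ker_isPrime _
  have hπq : q.comap πr = maximalIdeal B := by
    refine ((IsLocalRing.le_maximalIdeal (Ideal.IsPrime.comap πr).ne_top)).antisymm fun r hr => ?_
    change MvPowerSeries.map (residue Bc) (C (cpl r)) = 0
    rw [map_C, (residue_eq_zero_iff _).mpr, map_zero]
    rw [AdicCompletion.maximalIdeal_eq_map (R := B)]
    exact Ideal.mem_map_of_mem _ hr
  have hψq : φ p ∉ q.comap ψ := fun h => hp' (by
    have h1 : MvPowerSeries.map (residue Bc) (t p) = 0 := by
      have : ψ (φ p) = t p := ψ'.commutes p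
      rw [← this]; exact h
    let e : A₀ →+* k := (residue Bc).comp (cpl.comp (φ.comp MvPolynomial.C))
    let c : Fin n → k := fun i => residue Bc (cpl (φ (MvPolynomial.X i)))
    let sh : MvPolynomial (Fin n) k →+* MvPolynomial (Fin n) k :=
      MvPolynomial.eval₂Hom MvPolynomial.C fun i => MvPolynomial.C (c i) + MvPolynomial.X i
    let sh' : MvPolynomial (Fin n) k →+* MvPolynomial (Fin n) k :=
      MvPolynomial.eval₂Hom MvPolynomial.C fun i => MvPolynomial.X i - MvPolynomial.C (c i)
    have hsh : sh'.comp sh = RingHom.id _ := by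
      refine MvPolynomial.ringHom_ext (fun a => ?_) fun i => ?_
      · simp [sh, sh']
      · simp [sh, sh']
    have h2 : ((MvPowerSeries.map (residue Bc)).comp t) =
        (MvPolynomial.coeToMvPowerSeries.ringHom.comp sh).comp (MvPolynomial.map e) := by
      refine MvPolynomial.ringHom_ext (fun a => ?_) fun i => ?_
      · change MvPowerSeries.map (residue Bc) (t (MvPolynomial.C a)) =
          MvPolynomial.coeToMvPowerSeries.ringHom (sh (MvPolynomial.map e (MvPolynomial.C a)))
        rw [show t (MvPolynomial.C a) = C (cpl (φ (MvPolynomial.C a))) from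
          MvPolynomial.eval₂Hom_C _ _ a, map_C, MvPolynomial.map_C]
        simp [sh, e]
        rfl
      · change MvPowerSeries.map (residue Bc) (t (MvPolynomial.X i)) =
          MvPolynomial.coeToMvPowerSeries.ringHom (sh (MvPolynomial.map e (MvPolynomial.X i)))
        rw [show t (MvPolynomial.X i) = C (cpl (φ (MvPolynomial.X i))) + MvPowerSeries.X i from
          MvPolynomial.eval₂Hom_X' _ _ i, map_add, map_C, map_X, MvPolynomial.map_X]
        simp [sh, c]
        rfl
    have h3 : sh (MvPolynomial.map e p) = 0 := by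
      apply MvPolynomial.coe_injective (Fin n) k
      rw [MvPolynomial.coe_zero]
      exact (RingHom.congr_fun h2 p).symm.trans h1
    have h4 : MvPolynomial.map e p = 0 := by
      rw [← RingHom.id_apply (MvPolynomial.map e p), ← hsh, RingHom.comp_apply, h3, map_zero]
    have : IsLocalHom cpl := by
      have := AdicCompletion.algebraMap_isLocalHom_of_fg (R := B)
        (maximalIdeal B).fg_of_isNoetherianRing
      exact this
    have he : e = (ResidueField.map cpl).comp ((residue B).comp (φ.comp MvPolynomial.C)) :=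
      RingHom.ext fun a => (ResidueField.map_residue cpl _).symm
    rw [he, ← MvPolynomial.map_map] at h4
    exact MvPolynomial.map_injective _ (RingHom.injective _) (h4.trans (map_zero _).symm))
  -- the morphisms
  let SB := Spec (CommRingCat.of B)
  let SR := Spec (CommRingCat.of R)
  let pπ : SR ⟶ SB := Spec.map (CommRingCat.ofHom πr)
  let pψ : SR ⟶ SB := Spec.map (CommRingCat.ofHom ψ)
  let σ : Spec (CommRingCat.of Bc) ⟶ SR :=
    Spec.map (CommRingCat.ofHom (MvPowerSeries.constantCoeff : R →+* Bc))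
  have hσ : σ ≫ pψ = σ ≫ pπ := by
    rw [← Spec.map_comp, ← Spec.map_comp, ← CommRingCat.ofHom_comp, ← CommRingCat.ofHom_comp]
    congr 2
  let U := FEt.puncturedSpec B
  let V : SR.Opens := (pψ ⁻¹ᵁ U) ⊓ (pπ ⁻¹ᵁ U)
  let a : (V : Scheme.{u}) ⟶ (U : Scheme.{u}) := liftOpen U (V.ι ≫ pψ) fun y => y.2.1
  let b : (V : Scheme.{u}) ⟶ (U : Scheme.{u}) := liftOpen U (V.ι ≫ pπ) fun y => y.2.2
  have ha : a ≫ U.ι = V.ι ≫ pψ := liftOpen_ι _ _ _
  have hb : b ≫ U.ι = V.ι ≫ pπ := liftOpen_ι _ _ _
  have hsurj : Function.Surjective (MvPowerSeries.constantCoeff : R →+* Bc) :=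
    fun x => ⟨C x, constantCoeff_C x⟩
  have hV : ∀ y : SR, (∀ i, MvPowerSeries.X i ∈ (y : PrimeSpectrum R).asIdeal) →
      (y ∈ V ↔ y ≠ (closedPoint R : PrimeSpectrum R)) := fun y hy => by
    have hXI : XR ≤ (y : PrimeSpectrum R).asIdeal := Ideal.span_le.mpr (Set.range_subset_iff.mpr hy)
    have hagree : pψ.base y = pπ.base y := by
      refine PrimeSpectrum.ext (Ideal.ext fun r => ?_)
      change ψ r ∈ (y : PrimeSpectrum R).asIdeal ↔ πr r ∈ (y : PrimeSpectrum R).asIdeal
      exact ⟨fun h => by simpa using sub_mem h (hXI (hψ r)),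
        fun h => by simpa using add_mem (hXI (hψ r)) h⟩
    have hiff : y ∈ V ↔ pπ.base y ∈ U := ⟨fun h => h.2, fun h => ⟨show pψ.base y ∈ U by rwa [hagree], h⟩⟩
    rw [hiff]
    refine not_congr ⟨fun hm => ?_, fun he => ?_⟩
    · refine PrimeSpectrum.ext ((IsLocalRing.le_maximalIdeal (y : PrimeSpectrum R).2.ne_top).antisymm
        fun f hf => ?_)
      have hf' : constantCoeff f ∈ maximalIdeal Bc := by
        rw [IsLocalRing.mem_maximalIdeal, mem_nonunits_iff] at hf ⊢
        exact fun h => hf (isUnit_iff_constantCoeff.mpr h)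
      have hle : maximalIdeal Bc ≤ ((y : PrimeSpectrum R).asIdeal).comap (C : Bc →+* R) := by
        refine (AdicCompletion.maximalIdeal_eq_map (R := B)).le.trans ?_
        rw [Ideal.map_le_iff_le_comap]
        exact (congrArg PrimeSpectrum.asIdeal hm).ge
      have := add_mem (show C (constantCoeff f) ∈ (y : PrimeSpectrum R).asIdeal from hle hf')
        (hXI (H61.PSFilt.mem_iff_constantCoeff.mpr
          (show constantCoeff (f - C (constantCoeff f)) = 0 by simp)))
      rwa [add_sub_cancel] at this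
    · rw [show (y : PrimeSpectrum R) = closedPoint R from he]
      refine PrimeSpectrum.ext ((IsLocalRing.le_maximalIdeal
        (Ideal.IsPrime.comap πr (hK := (closedPoint R).2)).ne_top).antisymm fun r hr => ?_)
      change πr r ∈ maximalIdeal R
      rw [IsLocalRing.mem_maximalIdeal, mem_nonunits_iff, isUnit_iff_constantCoeff]
      change ¬ IsUnit (constantCoeff (C (cpl r)))
      rw [constantCoeff_C, ← mem_nonunits_iff, ← IsLocalRing.mem_maximalIdeal,
        AdicCompletion.maximalIdeal_eq_map (R := B)]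
      exact Ideal.mem_map_of_mem _ hr
  obtain ⟨m, gens, hcharts, hL, hVan⟩ := exists_charts_series hBc V hV
  obtain ⟨_, hg⟩ := range_fst_quotient V (MvPowerSeries.constantCoeff : R →+* Bc) hsurj
  obtain ⟨_, _⟩ := full_and_faithful hcharts _ hL hVan _ (by rw [hg, ker_constantCoeff])
  let z := pullback.fst V.ι σ
  have hz : z ≫ a = z ≫ b := by
    rw [← cancel_mono U.ι, Category.assoc, ha, Category.assoc, hb, pullback.condition_assoc,
      pullback.condition_assoc, hσ]
  let e₁ : (FEt.restrict a).obj W ≅ (FEt.restrict b).obj W :=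
    (FEt.restrict z).preimageIso (restrictSquare z a z b hz W)
  -- extension over the local ring of `q`
  let Rq := Localization.AtPrime q
  let X₂ := Spec (CommRingCat.of Rq)
  let ι₂ : X₂ ⟶ SR := Spec.map (CommRingCat.ofHom (algebraMap R Rq))
  let f := ι₂ ≫ pπ
  have : IsScalarTower B R Rq := inferInstance
  have : Module.Flat Bc R := flat_series Bc n
  have : Module.Flat B R := Module.Flat.trans B Bc R
  have halg : algebraMap B R = πr := by
    refine RingHom.ext fun r => ?_
    rw [IsScalarTower.algebraMap_apply B Bc R,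
      show algebraMap Bc R = (MvPowerSeries.C : Bc →+* R) from (MvPowerSeries.c_eq_algebraMap : _).symm]
    rfl
  have : Module.Flat R Rq := IsLocalization.flat Rq q.primeCompl
  have : Module.Flat B Rq := Module.Flat.trans B R Rq
  have halg' : algebraMap B Rq = (algebraMap R Rq).comp πr := by
    rw [← halg]; exact IsScalarTower.algebraMap_eq B R Rq
  have : IsLocalHom (algebraMap B Rq) := ⟨fun r hr => by
    rw [halg', RingHom.comp_apply] at hr
    by_contra hr'
    have : r ∈ q.comap πr := by rw [hπq]; exact hr'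
    exact ((IsLocalization.AtPrime.isUnit_to_map_iff Rq q (πr r)).mp hr) this⟩
  have : Module.FaithfullyFlat B Rq := Module.FaithfullyFlat.of_flat_of_isLocalHom
  have heq : f = Spec.map (CommRingCat.ofHom (algebraMap B Rq)) := by
    rw [halg', CommRingCat.ofHom_comp, Spec.map_comp]
  have : Flat f := by
    rw [heq]
    exact (HasRingHomProperty.Spec_iff (P := @Flat)).mpr (RingHom.flat_algebraMap_iff.mpr ‹_›)
  have : Surjective f := by
    rw [heq]
    exact ⟨PrimeSpectrum.comap_surjective_of_faithfullyFlat (A := B) (B := Rq)⟩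
  have hι₂ : ∀ x, (ι₂ ≫ pψ).base x ∈ U := fun x h => hψq (by
    have hle : (PrimeSpectrum.comap (algebraMap R Rq) x).asIdeal ≤ q := by
      intro r hr
      by_contra hrq
      exact (x : PrimeSpectrum Rq).2.ne_top (Ideal.eq_top_of_isUnit_mem _ hr
        (IsLocalization.map_units Rq (⟨r, hrq⟩ : q.primeCompl)))
    have h' : ((PrimeSpectrum.comap (algebraMap R Rq) x).asIdeal).comap ψ = maximalIdeal B :=
      congrArg PrimeSpectrum.asIdeal h
    exact Ideal.comap_mono hle (h'.symm ▸ hp))
  let j : X₂ ⟶ (U : Scheme.{u}) := liftOpen U (ι₂ ≫ pψ) hι₂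
  have hext : Extend.Ext W.hom U.ι f := by
    refine Extend.Ext.of_iso U.ι f W ((FEt.restrict j).obj W) ?_
    let r : pullback U.ι f ⟶ (V : Scheme.{u}) :=
      liftOpen V (pullback.snd U.ι f ≫ ι₂) fun x => by
        refine ⟨hι₂ _, ?_⟩
        change pπ.base ((pullback.snd U.ι f ≫ ι₂).base x) ∈ U
        rw [← Scheme.Hom.comp_apply, Category.assoc, show ι₂ ≫ pπ = f from rfl,
          ← pullback.condition, Scheme.Hom.comp_apply]
        exact ((pullback.fst U.ι f).base x).2
    have hr : r ≫ b = pullback.fst U.ι f := by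
      rw [← cancel_mono U.ι, Category.assoc, hb, pullback.condition, ← Category.assoc, liftOpen_ι,
        Category.assoc]
    have hr' : pullback.snd U.ι f ≫ j = r ≫ a := by
      rw [← cancel_mono U.ι, Category.assoc, liftOpen_ι, Category.assoc, ha, ← Category.assoc r,
        liftOpen_ι, Category.assoc]
    exact restrictSquare _ j r a hr' W ≪≫ (FEt.restrict r).mapIso e₁ ≪≫
      ((UnivHomeo.restrictComp r b).app W).symm ≪≫ eqToIso (by rw [hr])
  have : CompactSpace ↥(U : Scheme.{u}) := isCompact_iff_compactSpace.mp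
    (TopologicalSpace.NoetherianSpace.isCompact (α := PrimeSpectrum B) _)
  have hι : IsIso U.ι.appTop := by
    have h2 := Lib.FEt.DepthTwo.isIso_restriction_punctured hB (𝟙 SB)
    have gen : ∀ (O : SB.Opens) (h : O ≤ ⊤), O = U → IsIso (SB.presheaf.map (homOfLE h).op) := by
      intro O h he; subst he; exact h2
    rw [Scheme.Opens.ι_appTop]
    exact gen _ _ U.ι_image_top
  obtain ⟨Y, y, jy, hy, hpb⟩ := Extend.ext_id_of_flat U.ι hι W.hom W.prop f hext
  exact ⟨MorphismProperty.Over.mk ⊤ y hy, UnivHomeo.nonempty_iso_of_isPullback U.ι W _ jy hpb⟩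

end Groth.Agent.H80.Clopen
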