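import Groth.Agent.S17758
import Groth.Agent.Lib.FEt.DepthTwo
import Groth.Agent.Lib.Henselian.FiniteEtale
import Groth.Agent.Lib.Henselian.Finite
import Groth.Agent.Lib.Henselian.LocalRing
import Groth.Agent.Lib.Adic.Complete
import Groth.Agent.Lib.Regular.Quotient
import Groth.Agent.Lib.Dim.Integral
import Groth.Agent.H80.Extend.FormalCompl
import Groth.Agent.Lib.FEt.FullyFaithful
import Mathlib.RingTheory.Spectrum.Prime.Topology
import Mathlib.RingTheory.Unramified.LocalRing
import Mathlib.RingTheory.AdicCompletion.Topology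

/-!
# Connectedness in virtual dimension at least two
-/

set_option autoImplicit false
set_option backward.isDefEq.respectTransparency false

universe u

open CategoryTheory CategoryTheory.Limits AlgebraicGeometry IsLocalRing TensorProduct Topology

namespace Groth.Agent.H80.Clopen.VDim

/-- A finite unramified flat local algebra over a complete regular local ring. -/
theorem regular_of_finite (S : Type u) [CommRing S] [IsRegularLocalRing S]
    [IsAdicComplete (maximalIdeal S) S] (L : Type u) [CommRing L] [IsLocalRing L] [Algebra S L]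
    [Module.Finite S L] [Module.Flat S L] [Algebra.FormallyUnramified S L] :
    IsRegularLocalRing L ∧ ringKrullDim L = ringKrullDim S ∧ IsAdicComplete (maximalIdeal L) L := by
  have : IsNoetherianRing L := IsNoetherianRing.of_finite S L
  have : IsLocalHom (algebraMap S L) := by
    refine ((IsLocalRing.local_hom_TFAE (algebraMap S L)).out 0 4 rfl rfl).mpr ?_
    exact IsLocalRing.eq_maximalIdeal (Ideal.isMaximal_comap_of_isIntegral_of_isMaximal (maximalIdeal L))
  have : Module.FaithfullyFlat S L := Module.FaithfullyFlat.of_flat_of_isLocalHom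
  have : FaithfulSMul S L := (faithfulSMul_iff_algebraMap_injective S L).mpr
    (FaithfulSMul.algebraMap_injective S L)
  have hdim : ringKrullDim L = ringKrullDim S := Lib.Dim.Integral.ringKrullDim_eq_of_isIntegral
  have hm : (maximalIdeal S).map (algebraMap S L) = maximalIdeal L :=
    Algebra.FormallyUnramified.map_maximalIdeal
  refine ⟨IsRegularLocalRing.of_spanFinrank_maximalIdeal_le _ ?_, hdim, ?_⟩
  · rw [hdim, ← (isRegularLocalRing_iff S).mp inferInstance, ← hm]
    exact_mod_cast Ideal.spanFinrank_map_le_of_fg _ (maximalIdeal S).fg_of_isNoetherianRing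
  · have := Lib.Adic.Complete.isAdicComplete_of_finite (I := maximalIdeal S) (R := S) (M := L)
    rw [← hm]
    exact (IsAdicComplete.map_algebraMap_iff _ _).mpr this

variable {S : Type u} [CommRing S] [IsRegularLocalRing S] [IsAdicComplete (maximalIdeal S) S]

/-- Generalisations of a closed point of a finite etale algebra over a quotient of a complete
regular local ring by few elements form a connected set. -/
theorem isConnected_generalizations {d : ℕ} (hd : ringKrullDim S = d) (s : Finset S)
    (hs : s.card + 2 ≤ d) (C : Type u) [CommRing C] [Algebra (S ⧸ Ideal.span (s : Set S)) C]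
    [Module.Finite (S ⧸ Ideal.span (s : Set S)) C] [Algebra.Etale (S ⧸ Ideal.span (s : Set S)) C]
    (w : PrimeSpectrum C) (hw : w.asIdeal.IsMaximal) :
    _root_.IsConnected {y : PrimeSpectrum C | y ⤳ w ∧ y ≠ w} := by
  classical
  let I := Ideal.span (s : Set S)
  have : HenselianRing S (maximalIdeal S) := IsAdicComplete.henselianRing S (maximalIdeal S)
  have : HenselianLocalRing S := Lib.Henselian.LocalRing.henselianLocalRing_of_henselianRing
  have : Nontrivial (S ⧸ I) := RingHom.domain_nontrivial (algebraMap (S ⧸ I) (C ⧸ w.asIdeal))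
  have hI : I ≤ maximalIdeal S := le_maximalIdeal (Ideal.Quotient.nontrivial_iff.mp ‹_›)
  have : HenselianRing S I := Lib.Henselian.Basic.henselianRing_of_le hI
  obtain ⟨B, _, _, hfin, het, ⟨e⟩⟩ := Lib.Henselian.FiniteEtale.exists_finite_etale_lift I C
  let ψ : B →+* C := (e.toRingEquiv.toRingHom).comp
    (Algebra.TensorProduct.includeRight : B →ₐ[S] (S ⧸ I) ⊗[S] B).toRingHom
  have hψ : Function.Surjective ψ :=
    e.surjective.comp (TensorProduct.mk_surjective S B (S ⧸ I) Ideal.Quotient.mk_surjective)
  have hker : RingHom.ker ψ = I.map (algebraMap S B) := by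
    ext x
    rw [RingHom.mem_ker]
    change e.toRingEquiv ((1 : S ⧸ I) ⊗ₜ[S] x) = 0 ↔ _
    rw [RingEquiv.map_eq_zero_iff, ← (TensorProduct.quotTensorEquivQuotSMul B I).map_eq_zero_iff,
      show (1 : S ⧸ I) = Ideal.Quotient.mk I 1 from rfl, TensorProduct.quotTensorEquivQuotSMul_mk_tmul,
      Submodule.Quotient.mk_eq_zero, one_smul, Ideal.smul_top_eq_map, Submodule.restrictScalars_mem]
  let n := w.asIdeal.comap ψ
  have hn : n.IsMaximal := Ideal.comap_isMaximal_of_surjective ψ hψ
  let L := Localization.AtPrime n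
  have : Module.Finite S L := by
    have hbij := Lib.Henselian.Finite.toPiLocalization_bijective (A := S) (B := B)
    refine Module.Finite.of_surjective (IsScalarTower.toAlgHom S B L).toLinearMap fun z => ?_
    obtain ⟨b, hb⟩ := hbij.2 (Function.update (0 : MaximalSpectrum.PiLocalization B) ⟨n, hn⟩ z)
    refine ⟨b, (congrFun hb ⟨n, hn⟩).trans ?_⟩
    exact Function.update_self (⟨n, hn⟩ : MaximalSpectrum B) z (0 : MaximalSpectrum.PiLocalization B)
  have : Module.Flat S L := Module.Flat.trans S B L
  have : Algebra.FormallyUnramified S L :=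
    have : Algebra.FormallyUnramified B L := Algebra.FormallyUnramified.of_isLocalization n.primeCompl
    Algebra.FormallyUnramified.comp S B L
  obtain ⟨hreg, hdim, hcpl⟩ := regular_of_finite S L
  have := Lib.Regular.Quotient.isDomain L
  let f : Fin s.card → L := fun i => algebraMap S L (s.equivFin.symm i).1
  have hspan : Ideal.span (Set.range f) = I.map (algebraMap S L) := by
    rw [Ideal.map_span]
    congr 1
    ext x
    constructor
    · rintro ⟨i, rfl⟩
      exact ⟨_, (s.equivFin.symm i).2, rfl⟩
    · rintro ⟨a, ha, rfl⟩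
      exact ⟨s.equivFin ⟨a, ha⟩, by simp [f]⟩
  have : IsLocalHom (algebraMap S L) := by
    refine ((IsLocalRing.local_hom_TFAE (algebraMap S L)).out 0 4 rfl rfl).mpr ?_
    exact IsLocalRing.eq_maximalIdeal (Ideal.isMaximal_comap_of_isIntegral_of_isMaximal (maximalIdeal L))
  have hIL : Ideal.span (Set.range f) ≤ maximalIdeal L := hspan.trans_le
    ((Ideal.map_mono hI).trans (((IsLocalRing.local_hom_TFAE (algebraMap S L)).out 0 2).mp ‹_›))
  have hne : Ideal.span (Set.range f) ≠ ⊤ := fun h =>
    (maximalIdeal.isMaximal L).ne_top (top_le_iff.mp (h ▸ hIL))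
  have hcon := S17758.result L d (hdim.trans hd) s.card hs f _ hne rfl
  have himg := hcon.image _ (PrimeSpectrum.continuous_comap (algebraMap B L)).continuousOn
  have hemb := (PrimeSpectrum.isClosedEmbedding_comap_of_surjective C ψ hψ).toIsEmbedding
  have hinj : Function.Injective (PrimeSpectrum.comap (algebraMap B L)) :=
    (PrimeSpectrum.localization_comap_isEmbedding L n.primeCompl).injective
  have hclosed : (maximalIdeal L).comap (algebraMap B L) = n :=
    IsLocalization.AtPrime.under_maximalIdeal L n
  suffices h : PrimeSpectrum.comap ψ '' {y : PrimeSpectrum C | y ⤳ w ∧ y ≠ w} =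
      PrimeSpectrum.comap (algebraMap B L) ''
        {x | Ideal.span (Set.range f) ≤ x.asIdeal ∧ x.asIdeal ≠ maximalIdeal L} by
    rw [← h] at himg
    exact ⟨Set.image_nonempty.mp himg.nonempty, hemb.isInducing.isPreconnected_image.mp himg.isPreconnected⟩
  ext q
  constructor
  · rintro ⟨y, ⟨hy, hne'⟩, rfl⟩
    have hyn : y.asIdeal.comap ψ ≤ n := Ideal.comap_mono ((PrimeSpectrum.le_iff_specializes y w).mpr hy)
    obtain ⟨x, hx⟩ : PrimeSpectrum.comap ψ y ∈ Set.range (PrimeSpectrum.comap (algebraMap B L)) := by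
      rw [PrimeSpectrum.localization_comap_range L n.primeCompl]
      exact Set.disjoint_left.mpr fun a ha ha' => ha (hyn ha')
    refine ⟨x, ⟨?_, fun h => hne' ?_⟩, hx⟩
    · have hx' : x.asIdeal.comap (algebraMap B L) = y.asIdeal.comap ψ :=
        congrArg PrimeSpectrum.asIdeal hx
      rw [hspan, IsScalarTower.algebraMap_eq S B L, ← Ideal.map_map, Ideal.map_le_iff_le_comap, hx',
        ← hker]
      exact fun a ha => by
        rw [Ideal.mem_comap, RingHom.mem_ker.mp ha]
        exact zero_mem _
    · have h' : y.asIdeal.comap ψ = n := (congrArg PrimeSpectrum.asIdeal hx).symm.trans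
        (by rw [PrimeSpectrum.comap_asIdeal, h]; exact hclosed)
      exact hemb.injective (PrimeSpectrum.ext h')
  · rintro ⟨x, ⟨hxI, hxm⟩, rfl⟩
    have hker' : RingHom.ker ψ ≤ x.asIdeal.comap (algebraMap B L) := by
      rw [hker, ← Ideal.map_le_iff_le_comap, Ideal.map_map, ← IsScalarTower.algebraMap_eq, ← hspan]
      exact hxI
    obtain ⟨y, hy⟩ : PrimeSpectrum.comap (algebraMap B L) x ∈ Set.range (PrimeSpectrum.comap ψ) := by
      rw [range_comap_of_surjective _ _ hψ]
      exact hker'
    refine ⟨y, ⟨(PrimeSpectrum.le_iff_specializes y w).mp ?_, fun h => hxm ?_⟩, hy⟩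
    · refine (Ideal.comap_le_comap_iff_of_surjective ψ hψ y.asIdeal w.asIdeal).mp ?_
      exact (congrArg PrimeSpectrum.asIdeal hy).trans_le
        ((Ideal.comap_mono (le_maximalIdeal x.2.ne_top)).trans hclosed.le)
    · have h' : x = IsLocalRing.closedPoint L := hinj (hy.symm.trans (PrimeSpectrum.ext (by
        rw [h]; exact hclosed.symm)))
      exact congrArg PrimeSpectrum.asIdeal h'

variable {A : Type u} [CommRing A] [IsNoetherianRing A] [IsLocalRing A]

local notation "Ah" => AdicCompletion (maximalIdeal A) A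

/-- Finite etale covers in virtual dimension two. -/
theorem restrict_full_and_faithful {d : ℕ} (hd : ringKrullDim S = d) (s : Finset S)
    (hs : s.card + 2 ≤ d) (e : Ah ≃+* S ⧸ Ideal.span (s : Set S)) :
    ((FEt.restrict (FEt.puncturedSpec A).ι).Full ∧ (FEt.restrict (FEt.puncturedSpec A).ι).Faithful) ∧
      ConnectedSpace ↥(FEt.puncturedSpec A : Scheme.{u}) := by
  classical
  let R := S ⧸ Ideal.span (s : Set S)
  have := Extend.faithfullyFlat_completion A
  have : Nontrivial R := e.symm.toRingHom.domain_nontrivial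
  have : IsLocalRing R := IsLocalRing.of_surjective' (Ideal.Quotient.mk _) Ideal.Quotient.mk_surjective
  have : IsNoetherianRing Ah := isNoetherianRing_of_ringEquiv R e.symm
  have : IsLocalRing Ah := e.symm.isLocalRing
  have hsurj : Function.Surjective (PrimeSpectrum.comap (algebraMap A Ah)) :=
    PrimeSpectrum.comap_surjective_of_faithfullyFlat
  have hlh : IsLocalHom (algebraMap A Ah) :=
    AdicCompletion.algebraMap_isLocalHom_of_fg (R := A) (maximalIdeal A).fg_of_isNoetherianRing
  have hmax : ∀ p : PrimeSpectrum Ah, (PrimeSpectrum.comap (algebraMap A Ah) p).asIdeal = maximalIdeal A →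
      p.asIdeal = maximalIdeal Ah := fun p hp => by
    refine (le_maximalIdeal p.2.ne_top).antisymm ?_
    have hmap : (maximalIdeal A).map (algebraMap A Ah) = maximalIdeal Ah :=
      AdicCompletion.maximalIdeal_eq_map.symm
    rw [← hmap, Ideal.map_le_iff_le_comap]
    exact hp.ge
  -- the punctured spectrum is connected
  have hconn : ConnectedSpace ↥(FEt.puncturedSpec A : Scheme.{u}) := by
    have : Algebra.Etale R R := inferInstance
    have h := isConnected_generalizations hd s hs R (IsLocalRing.closedPoint R) (maximalIdeal.isMaximal R)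
    have h' := h.image _ ((PrimeSpectrum.continuous_comap (algebraMap A Ah)).comp
      (PrimeSpectrum.continuous_comap e.toRingHom)).continuousOn
    refine isConnected_iff_connectedSpace.mp (show _root_.IsConnected ((FEt.puncturedSpec A : Set (Spec (CommRingCat.of A)))) from ?_)
    suffices heq : ((FEt.puncturedSpec A).carrier : Set (PrimeSpectrum A)) = _ from (congrArg _root_.IsConnected heq).mpr h'
    ext p
    constructor
    · intro hp
      obtain ⟨p', rfl⟩ := hsurj p
      refine ⟨PrimeSpectrum.comap e.symm.toRingHom p', ⟨IsLocalRing.specializes_closedPoint _, fun hc => hp ?_⟩, ?_⟩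
      · refine PrimeSpectrum.ext ?_
        have hp' : p'.asIdeal = maximalIdeal Ah := by
          have h1 := congrArg (fun q : PrimeSpectrum R => q.asIdeal.comap e.toRingHom) hc
          refine (le_maximalIdeal p'.2.ne_top).antisymm fun x hx => ?_
          have h2 : e x ∈ maximalIdeal R := fun hu => hx (e.symm_apply_apply x ▸ hu.map e.symm)
          have h3 := congrArg PrimeSpectrum.asIdeal hc
          have h4 : e x ∈ p'.asIdeal.comap e.symm.toRingHom := h3.ge h2
          simpa using h4
        change p'.asIdeal.comap _ = maximalIdeal A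
        rw [hp']
        exact ((IsLocalRing.local_hom_TFAE (algebraMap A Ah)).out 0 4 rfl rfl).mp hlh
      · refine PrimeSpectrum.ext (Ideal.ext fun x => ?_)
        show e.symm (e (algebraMap A Ah x)) ∈ p'.asIdeal ↔ algebraMap A Ah x ∈ p'.asIdeal
        rw [e.symm_apply_apply]
    · rintro ⟨q, ⟨-, hq⟩, rfl⟩ hc
      refine hq (PrimeSpectrum.ext ?_)
      have h1 := hmax _ (congrArg PrimeSpectrum.asIdeal hc)
      refine (le_maximalIdeal q.2.ne_top).antisymm fun x hx => ?_
      have h2 : e.symm x ∈ maximalIdeal Ah := fun hu => hx (e.apply_symm_apply x ▸ hu.map e)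
      have h3 : e (e.symm x) ∈ q.asIdeal := h1.ge h2
      rwa [e.apply_symm_apply] at h3
  refine ⟨Lib.FEt.FullyFaithful.full_and_faithful _ ?_ fun W C hC => ?_, hconn⟩
  · intro t ht hne
    obtain ⟨p, hp⟩ := hne
    have hcl : IsLocalRing.closedPoint A ∈ t :=
      (IsLocalRing.specializes_closedPoint (R := A) p).mem_closed ht.isClosed hp
    have htop : t = Set.univ := Set.eq_univ_of_forall fun q =>
      (IsLocalRing.specializes_closedPoint (R := A) q).mem_open ht.isOpen hcl
    rw [htop, Set.univ_inter]
    obtain ⟨x⟩ := hconn.toNonempty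
    exact ⟨_, Set.mem_range_self x⟩
  let X := Spec (CommRingCat.of A)
  let v : W.left ⟶ X := W.hom
  have : IsFinite v := W.prop.1
  have : Etale v := W.prop.2
  have : IsAffine W.left := isAffine_of_isAffineHom v
  let φ : A →+* Γ(W.left, ⊤) := ((Scheme.ΓSpecIso (CommRingCat.of A)).inv ≫ v.appTop).hom
  let : Algebra A Γ(W.left, ⊤) := φ.toAlgebra
  have hi := ConcreteCategory.bijective_of_isIso (Scheme.ΓSpecIso (CommRingCat.of A)).inv
  have : Module.Finite A Γ(W.left, ⊤) :=
    (IsFinite.finite_app v ⊤ (isAffineOpen_top _)).comp (RingHom.Finite.of_surjective _ hi.2)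
  have : Algebra.Etale A Γ(W.left, ⊤) :=
    RingHom.Etale.stableUnderComposition _ _ (RingHom.Etale.of_bijective hi)
      (HasRingHomProperty.appTop (P := @Etale) v inferInstance)
  let h : W.left ≃ₜ PrimeSpectrum Γ(W.left, ⊤) := W.left.isoSpec.hom.homeomorph
  have hfac : v = W.left.isoSpec.hom ≫ Spec.map (CommRingCat.ofHom φ) := by
    rw [Scheme.isoSpec_hom, CommRingCat.ofHom_hom, Spec.map_comp,
      ← Scheme.toSpecΓ_naturality_assoc, ← SpecMap_ΓSpecIso_hom, ← Spec.map_comp,
      Iso.inv_hom_id, Spec.map_id]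
    exact (Category.comp_id v).symm
  let E := Γ(W.left, ⊤)
  let E' := Ah ⊗[A] E
  let i : R →+* E' := (algebraMap Ah E').comp e.symm.toRingHom
  let : Algebra R E' := i.toAlgebra
  have : Module.Finite R E' :=
    RingHom.finite_algebraMap.mp ((RingHom.finite_algebraMap.mpr (inferInstanceAs (Module.Finite Ah E'))).comp
      (RingHom.Finite.of_surjective _ e.symm.surjective))
  have : Algebra.Etale R E' :=
    RingHom.etale_algebraMap.mp (RingHom.Etale.stableUnderComposition _ _
      (RingHom.Etale.of_bijective e.symm.bijective) (RingHom.etale_algebraMap.mpr (inferInstanceAs (Algebra.Etale Ah E'))))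
  have : IsNoetherianRing E' := IsNoetherianRing.of_finite R E'
  let incl : E →+* E' := (Algebra.TensorProduct.includeRight : E →ₐ[A] Ah ⊗[A] E).toRingHom
  let π : PrimeSpectrum E' → PrimeSpectrum E := PrimeSpectrum.comap incl
  let : Algebra E E' := Algebra.TensorProduct.rightAlgebra
  have : Module.FaithfullyFlat E E' :=
    Module.FaithfullyFlat.of_linearEquiv _ _ (Algebra.TensorProduct.commRight A E Ah).symm.toLinearEquiv
  have hquot : IsQuotientMap π :=
    PrimeSpectrum.isQuotientMap_of_generalizingMap (PrimeSpectrum.comap_surjective_of_faithfullyFlat)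
      (Algebra.HasGoingDown.iff_generalizingMap_primeSpectrumComap.mp inferInstance)
  let U : Set (PrimeSpectrum E) := {q | (q.asIdeal.comap φ) ≠ maximalIdeal A}
  have hUmax : ∀ q : PrimeSpectrum E', π q ∉ U ↔ q.asIdeal.IsMaximal := fun q => by
    have hc : (π q).asIdeal.comap φ = (q.asIdeal.comap (algebraMap Ah E')).comap (algebraMap A Ah) := by
      rw [PrimeSpectrum.comap_asIdeal, Ideal.comap_comap, Ideal.comap_comap]
      congr 1
      exact (Algebra.TensorProduct.includeRight : E →ₐ[A] Ah ⊗[A] E).comp_algebraMap.trans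
        (IsScalarTower.algebraMap_eq A Ah E')
    simp only [U, Set.mem_ofPred_eq, not_not, hc]
    constructor
    · intro hq
      have := hmax ⟨_, q.2.comap (algebraMap Ah E')⟩ hq
      exact Ideal.isMaximal_of_isIntegral_of_isMaximal_comap _ (this ▸ maximalIdeal.isMaximal Ah)
    · intro hq
      rw [IsLocalRing.eq_maximalIdeal (Ideal.isMaximal_comap_of_isIntegral_of_isMaximal (R := Ah) q.asIdeal)]
      exact ((IsLocalRing.local_hom_TFAE (algebraMap A Ah)).out 0 4 rfl rfl).mp hlh
  let j := pullback.fst W.hom (FEt.puncturedSpec A).ι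
  let jE : (pullback W.hom (FEt.puncturedSpec A).ι : Scheme.{u}) → PrimeSpectrum E := fun x => h (j.base x)
  have hj : IsOpenEmbedding jE := h.isOpenEmbedding.comp j.isOpenEmbedding
  have hrange : Set.range jE = U := by
    have hv : ∀ q, ((v.base q : X) : PrimeSpectrum A).asIdeal = (h q).asIdeal.comap φ := fun q => by
      conv_lhs => rw [hfac]
      rfl
    rw [show jE = h ∘ j.base from rfl, Set.range_comp]
    change h '' Set.range ⇑(pullback.fst W.hom (FEt.puncturedSpec A).ι) = _
    rw [IsOpenImmersion.range_pullbackFst, Scheme.Opens.opensRange_ι]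
    ext q
    constructor
    · rintro ⟨q, hq, rfl⟩ hc
      exact hq (PrimeSpectrum.ext ((hv q).trans hc))
    · intro hq
      refine ⟨h.symm q, fun hc => hq ?_, h.apply_symm_apply q⟩
      have h1 := (hv (h.symm q)).symm.trans (congrArg PrimeSpectrum.asIdeal hc)
      rwa [h.apply_symm_apply] at h1
  let C₀ := π ⁻¹' (jE '' C)
  have hCo : IsOpen C₀ := (hj.isOpenMap _ hC.isOpen).preimage hquot.continuous
  have hsub : C₀ ⊆ π ⁻¹' U := Set.preimage_mono (hrange ▸ Set.image_subset_range _ _)
  have hCc : IsOpen ((π ⁻¹' U) \ C₀) := by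
    rw [← Set.preimage_sdiff, ← hrange, ← Set.image_univ, ← Set.image_sdiff hj.injective]
    exact (hj.isOpenMap _ (isOpen_univ.sdiff hC.isClosed)).preimage hquot.continuous
  obtain ⟨D', hD', hDC⟩ := Lib.FEt.DepthTwo.exists_isClopen_inter (U := π ⁻¹' U)
    (fun q hq => isConnected_generalizations hd s hs E' q ((hUmax q).mp hq))
    Lib.FEt.DepthTwo.locNoetherian_primeSpectrum (C := C₀) hsub hCo hCc
  -- saturation
  have hsat : π ⁻¹' (π '' D') = D' := by
    refine Set.Subset.antisymm (fun q hq => ?_) (Set.subset_preimage_image _ _)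
    obtain ⟨q', hq', hqq⟩ := hq
    by_cases hU : π q ∈ U
    · have : q' ∈ C₀ := hDC.le ⟨hq', show π q' ∈ U from hqq ▸ hU⟩
      exact (hDC.ge (show π q ∈ jE '' C from hqq ▸ this)).1
    · suffices q = q' from this ▸ hq'
      have h1 := (hUmax q).mp hU
      have h2 := (hUmax q').mp (hqq ▸ hU)
      -- closed fibres agree
      have hfib : ∀ (r : PrimeSpectrum E'), r.asIdeal.IsMaximal →
          (maximalIdeal Ah).map (algebraMap Ah E') ≤ r.asIdeal := fun r hr => by
        rw [Ideal.map_le_iff_le_comap]
        exact (IsLocalRing.eq_maximalIdeal (Ideal.isMaximal_comap_of_isIntegral_of_isMaximal (R := Ah) r.asIdeal)).ge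
      have hgen : ∀ z : E', ∃ x : E, z - incl x ∈ (maximalIdeal Ah).map (algebraMap Ah E') := fun z => by
        induction z using TensorProduct.induction_on with
        | zero => exact ⟨0, by simp⟩
        | tmul a x =>
          obtain ⟨a₀, ha₀⟩ : ∃ a₀ : A, a - algebraMap A Ah a₀ ∈ maximalIdeal Ah :=
            (Ideal.Quotient.mk_surjective (a.1 1)).imp fun a₀ ha₀ => by
              rw [AdicCompletion.mem_maximalIdeal_iff_eval_one_eq_zero]
              show a.1 1 - _ = 0
              rw [← ha₀]
              exact sub_self _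
          refine ⟨a₀ • x, ?_⟩
          have : a ⊗ₜ[A] x - incl (a₀ • x) = algebraMap Ah E' (a - algebraMap A Ah a₀) * ((1 : Ah) ⊗ₜ x) := by
            change a ⊗ₜ[A] x - (1 : Ah) ⊗ₜ[A] (a₀ • x) = ((a - algebraMap A Ah a₀) ⊗ₜ[A] (1 : E)) * _
            rw [Algebra.TensorProduct.tmul_mul_tmul, mul_one, one_mul, TensorProduct.sub_tmul,
              ← TensorProduct.smul_tmul, Algebra.smul_def, mul_one]
          rw [this]
          exact Ideal.mul_mem_right _ _ (Ideal.mem_map_of_mem _ ha₀)
        | add z₁ z₂ h₁ h₂ =>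
          obtain ⟨x₁, hx₁⟩ := h₁
          obtain ⟨x₂, hx₂⟩ := h₂
          exact ⟨x₁ + x₂, by rw [map_add, add_sub_add_comm]; exact add_mem hx₁ hx₂⟩
      refine PrimeSpectrum.ext ((h1.eq_of_le h2.ne_top fun z hz => ?_))
      obtain ⟨x, hx⟩ := hgen z
      have hxq : incl x ∈ q.asIdeal := by simpa using sub_mem hz (hfib q h1 hx)
      have hxq' : incl x ∈ q'.asIdeal := (congrArg PrimeSpectrum.asIdeal hqq).ge hxq
      simpa using add_mem (hfib q' h2 hx) hxq'
  have hDop : IsClopen (π '' D') :=
    ⟨hquot.isClosed_preimage.mp (hsat.symm ▸ hD'.isClosed), hquot.isOpen_preimage.mp (hsat.symm ▸ hD'.isOpen)⟩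
  refine ⟨h ⁻¹' (π '' D'), hDop.preimage h.continuous, ?_⟩
  refine Set.ext fun x => ⟨fun hx => ?_, fun hx => ?_⟩
  · obtain ⟨q, hq, hqx⟩ := hx
    have : q ∈ C₀ := hDC.le ⟨hq, show π q ∈ U from hqx ▸ hrange.le ⟨x, rfl⟩⟩
    obtain ⟨y, hy, hyx⟩ := (show π q ∈ jE '' C from this)
    exact hj.injective (hyx.trans hqx) ▸ hy
  · obtain ⟨q, hq⟩ := hquot.surjective (jE x)
    exact ⟨q, (hDC.ge (show π q ∈ jE '' C from ⟨x, hx, hq.symm⟩)).1, hq⟩

end Groth.Agent.H80.Clopen.VDim
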